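import Groth.Agent.GabberAff13.Kill
import Groth.Agent.BCCrit13.Colim
import Groth.Agent.EtFound.AbLocEq
import Groth.Agent.EtLimit.Const
import Groth.Agent.UnitStalk.Fibre
import Groth.Agent.S0537
import Groth.Agent.S6186
import Mathlib.CategoryTheory.Limits.Constructions.Over.Connected
import Mathlib.CategoryTheory.Comma.Over.Pullback
import Mathlib.AlgebraicGeometry.Morphisms.Finite

/-!
# Vanishing over an extension of separably closed fields
-/

set_option autoImplicit false
set_option linter.style.haveILetI false
set_option backward.isDefEq.respectTransparency false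
set_option backward.isDefEq.respectTransparency.types false
set_option maxHeartbeats 1000000

universe u

open CategoryTheory CategoryTheory.Limits AlgebraicGeometry Opposite

namespace Groth.Agent.GabberAff13

/-- Cohomology groups correspond under an isomorphism over the coefficient scheme. -/
theorem subsingleton_of_iso {X T T' : Scheme.{u}} (k : T ⟶ T') [IsIso k] (b : T' ⟶ X) (a : T ⟶ X) (e : k ≫ b = a)
    (G : EtCoh.Ab X) (n : ℕ) (h : Subsingleton (EtCoh.H T' ((EtCoh.pull b).obj G) n)) :
    Subsingleton (EtCoh.H T ((EtCoh.pull a).obj G) n) := by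
  haveI : PreservesFiniteLimits (EtCoh.pull k) := EtFound.pull_preservesFiniteLimits _
  have h1 : Subsingleton (EtCoh.H T ((EtCoh.pull k).obj ((EtCoh.pull b).obj G)) n) :=
    (EtFound.Hpull_bijective_of_isIso k ((EtCoh.pull b).obj G) n).2.subsingleton
  haveI : Subsingleton (EtCoh.H T ((EtCoh.pull b ⋙ EtCoh.pull k).obj G) n) := h1
  exact (CohCrit13.hmap_bijective_of_isIso ((EtFound.θPull k b a e).hom.app G) n).2.subsingleton

variable {k : Type u} [Field k]

/-- Torsion or not, a sheaf on a scheme of finite type over a field vanishes if it does at the closed points. -/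
theorem isZero_of_closed_points {Y : Scheme.{u}} (c : Y ⟶ Spec (CommRingCat.of k)) [LocallyOfFiniteType c]
    (G : EtCoh.Ab Y)
    (h : ∀ (Ω : Type u) [Field Ω] [IsSepClosed Ω] (ξ : Spec (CommRingCat.of Ω) ⟶ Y),
      IsClosed {ξ.base (default : Spec (CommRingCat.of Ω))} → Subsingleton ((EtCoh.stalk ξ).obj G)) :
    IsZero G := by
  haveI : JacobsonSpace Y := LocallyOfFiniteType.jacobsonSpace c
  have hsec : ∀ (U : Y.Etale) (s : G.obj.obj (op U)), s = 0 := fun U s => by
    haveI : AlgebraicGeometry.Etale U.hom := U.prop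
    haveI : JacobsonSpace U.left := LocallyOfFiniteType.jacobsonSpace (U.hom ≫ c)
    refine AbLocEq.eq_of_aEq G fun z => ?_
    let O := {z : U.left | AbLocEq.AEq G.obj s 0 z}
    have hO : IsOpen O := AbLocEq.isOpen_aEq s 0
    have hcl : ∀ w ∈ closedPoints U.left, w ∈ O := fun w hw => by
      obtain ⟨Ω, _, _, ξ, t, ht⟩ := EtFound.exists_point_through U w
      refine AbLocEq.aEq_of_germ ξ t (@Subsingleton.elim _ (h Ω ξ ?_) _ _) w (ht _)
      haveI : JacobsonSpace ↥((Functor.fromPUnit Y).obj U.right) := ‹JacobsonSpace ↥Y›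
      have hw' : IsClosed {U.hom w} := U.hom.closePoints_subset_preimage_closedPoints hw
      have e : ξ.base (default : Spec (CommRingCat.of Ω)) = U.hom w := by
        refine Eq.trans ?_ (congrArg U.hom (ht default))
        exact (congrArg (fun q : Spec (CommRingCat.of Ω) ⟶ Y => q.base default) (CategoryTheory.Over.w t).symm).trans
          (Scheme.Hom.comp_apply _ _ _)
      rw [e]
      exact hw'
    by_contra hz
    obtain ⟨w, hw, hwc⟩ := nonempty_inter_closedPoints (Z := Oᶜ) ⟨z, hz⟩ hO.isClosed_compl.isLocallyClosed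
    exact hw (hcl w hwc)
  rw [IsZero.iff_id_eq_zero]
  refine Sheaf.hom_ext (NatTrans.ext (funext fun U => AddCommGrpCat.ext fun s => ?_))
  exact (hsec U.unop s).trans (hsec U.unop _).symm

section stages

variable (K : Type u) [Field K] [Algebra k K]

/-- The finitely generated subalgebras. -/
noncomputable def fgAlg : Finset K ⥤ CommRingCat.{u} where
  obj s := CommRingCat.of (Algebra.adjoin k (s : Set K))
  map {s t} h := CommRingCat.ofHom (Subalgebra.inclusion (Algebra.adjoin_mono (Finset.coe_subset.2 (leOfHom h)))).toRingHom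

/-- The inclusions. -/
noncomputable def fgCocone : Cocone (fgAlg (k := k) K) :=
  Cocone.mk (CommRingCat.of K) { app := fun s => CommRingCat.ofHom (Algebra.adjoin k (s : Set K)).val.toRingHom }

theorem nonempty_isColimit_fgCocone : Nonempty (IsColimit (fgCocone (k := k) K)) := by
  classical
  haveI : IsFiltered (Finset K) := isFiltered_of_directed_le_nonempty _
  haveI : ReflectsColimit (fgAlg (k := k) K) (forget CommRingCat.{u}) :=
    reflectsColimit_of_reflectsIsomorphisms (fgAlg (k := k) K) _
  refine ⟨isColimitOfReflects (forget CommRingCat.{u}) ?_⟩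
  refine Types.FilteredColimit.isColimitOf _ _ (fun x => ?_) fun i j x y hxy => ?_
  · exact ⟨{x}, ⟨x, Algebra.subset_adjoin (by simp)⟩, rfl⟩
  · exact ⟨i ∪ j, homOfLE Finset.subset_union_left, homOfLE Finset.subset_union_right, Subtype.ext hxy⟩

/-- The stage. -/
noncomputable def fgHom (s : Finset K) : Spec ((fgAlg (k := k) K).obj s) ⟶ Spec (CommRingCat.of k) :=
  Spec.map (CommRingCat.ofHom (algebraMap k (Algebra.adjoin k (s : Set K))))

/-- The stages over the base field. -/
noncomputable def fgStages : (Finset K)ᵒᵖ ⥤ CategoryTheory.Over (Spec (CommRingCat.of k)) where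
  obj s := CategoryTheory.Over.mk (fgHom K s.unop)
  map {s t} m := CategoryTheory.Over.homMk (Spec.map ((fgAlg (k := k) K).map m.unop)) (by
    show Spec.map ((fgAlg (k := k) K).map m.unop) ≫ fgHom K t.unop = fgHom K s.unop
    rw [fgHom, fgHom, ← Spec.map_comp]
    rfl)
  map_id s := by
    ext : 1
    show Spec.map ((fgAlg (k := k) K).map (𝟙 s.unop)) = _
    rw [CategoryTheory.Functor.map_id, Spec.map_id]
    rfl
  map_comp {s t r} a b := by
    ext : 1
    show Spec.map ((fgAlg (k := k) K).map (b.unop ≫ a.unop)) =
      Spec.map ((fgAlg (k := k) K).map a.unop) ≫ Spec.map ((fgAlg (k := k) K).map b.unop)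
    rw [Functor.map_comp, Spec.map_comp]

/-- The big field over the stages. -/
noncomputable def fgCone : Cone (fgStages (k := k) K) :=
  Cone.mk (CategoryTheory.Over.mk (Spec.map (CommRingCat.ofHom (algebraMap k K))))
    { app := fun s => CategoryTheory.Over.homMk (Spec.map ((fgCocone (k := k) K).ι.app s.unop)) (by
        show Spec.map ((fgCocone (k := k) K).ι.app s.unop) ≫ fgHom K s.unop = Spec.map (CommRingCat.ofHom (algebraMap k K))
        rw [fgHom, ← Spec.map_comp]
        rfl)
      naturality := fun s t m => by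
        ext : 1
        show 𝟙 _ ≫ Spec.map ((fgCocone (k := k) K).ι.app t.unop) =
          Spec.map ((fgCocone (k := k) K).ι.app s.unop) ≫ Spec.map ((fgAlg (k := k) K).map m.unop)
        rw [Category.id_comp, ← Spec.map_comp]
        rfl }

theorem nonempty_isLimit_fgCone : Nonempty (IsLimit (fgCone (k := k) K)) := by
  classical
  obtain ⟨hc⟩ := nonempty_isColimit_fgCocone (k := k) K
  haveI : IsFiltered (Finset K) := isFiltered_of_directed_le_nonempty _
  haveI : IsConnected (Finset K) := IsFiltered.isConnected _
  have hl : IsLimit (Scheme.Spec.mapCone (fgCocone (k := k) K).op) := isLimitOfPreserves Scheme.Spec hc.op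
  exact ⟨isLimitOfReflects (CategoryTheory.Over.forget _) hl⟩

end stages

/-- Vanishing propagates to a larger separably closed field, if it holds over strictly henselian rings
with residue field algebraic over the base. -/
theorem subsingleton_field_ext {X : Scheme.{u}} (f : X ⟶ Spec (CommRingCat.of k)) [IsProper f]
    (G : EtCoh.Ab X) (q : ℕ)
    (hR : ∀ (R : Type u) [CommRing R] [HenselianLocalRing R] [IsSepClosed (IsLocalRing.ResidueField R)]
      (φ : k →+* R), ((IsLocalRing.residue R).comp φ).IsIntegral →
      Subsingleton (EtCoh.H (pullback (Spec.map (CommRingCat.ofHom φ)) f)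
        ((EtCoh.pull (pullback.snd (Spec.map (CommRingCat.ofHom φ)) f)).obj G) q))
    (K : Type u) [Field K] [IsSepClosed K] [Algebra k K] :
    Subsingleton (EtCoh.H (pullback (Spec.map (CommRingCat.ofHom (algebraMap k K))) f)
      ((EtCoh.pull (pullback.snd (Spec.map (CommRingCat.ofHom (algebraMap k K))) f)).obj G) q) := by
  classical
  obtain ⟨hcone⟩ := nonempty_isLimit_fgCone (k := k) K
  haveI : IsFiltered (Finset K) := isFiltered_of_directed_le_nonempty _
  haveI : IsConnected (Finset K) := IsFiltered.isConnected _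
  haveI : PreservesLimitsOfSize.{u, u} (CategoryTheory.Over.pullback f) :=
    (CategoryTheory.Over.mapPullbackAdj f).rightAdjoint_preservesLimits
  let Xs := fgStages (k := k) K ⋙ CategoryTheory.Over.pullback f ⋙ CategoryTheory.Over.forget X
  let cX : Cone Xs := (CategoryTheory.Over.pullback f ⋙ CategoryTheory.Over.forget X).mapCone (fgCone (k := k) K)
  have hcX : IsLimit cX := isLimitOfPreserves (CategoryTheory.Over.pullback f ⋙ CategoryTheory.Over.forget X) hcone
  let e : ∀ s : Finset K, Xs.obj (op s) ⟶ X := fun s => pullback.snd (fgHom K s) f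
  have he : ∀ {s t : Finset K} (h : s ≤ t), EtLimit.tr Xs h ≫ e s = e t := fun {s t} h => pullback.lift_snd _ _ _
  have hXaff : ∀ ⦃a b : (Finset K)ᵒᵖ⦄ (m : a ⟶ b), IsAffineHom (Xs.map m) := fun a b m => by
    have ha : IsAffineHom (Spec.map ((fgAlg (k := k) K).map m.unop)) := isAffineHom_of_isAffine _
    refine MorphismProperty.of_isPullback (P := @IsAffineHom) (IsPullback.of_bot (h₃₁ := f)
      (v₂₂ := ((fgStages (k := k) K).obj b).hom) (v₂₁ := pullback.snd ((fgStages (k := k) K).obj b).hom f) ?_
      (pullback.lift_fst _ _ _).symm (IsPullback.of_hasPullback _ f)) ha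
    show IsPullback (pullback.fst ((fgStages (k := k) K).obj a).hom f)
      ((Xs.map m : pullback ((fgStages (k := k) K).obj a).hom f ⟶ pullback ((fgStages (k := k) K).obj b).hom f) ≫ pullback.snd _ f)
      (((fgStages (k := k) K).map m).left ≫ ((fgStages (k := k) K).obj b).hom) f
    rw [CategoryTheory.Over.w ((fgStages (k := k) K).map m)]
    erw [pullback.lift_snd]
    exact IsPullback.of_hasPullback _ _
  have qX : ∀ a, CompactSpace ↥(Xs.obj a) := fun a => by
    haveI : QuasiCompact (pullback.fst (fgHom (k := k) K a.unop) f) :=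
      MorphismProperty.pullback_fst _ _ (inferInstance : QuasiCompact f)
    exact QuasiCompact.compactSpace_of_compactSpace (pullback.fst (fgHom (k := k) K a.unop) f)
  have sX : ∀ a, QuasiSeparatedSpace ↥(Xs.obj a) := fun a => by
    haveI : QuasiSeparated (pullback.fst (fgHom (k := k) K a.unop) f) :=
      MorphismProperty.pullback_fst _ _ (inferInstance : QuasiSeparated f)
    exact quasiSeparatedSpace_of_quasiSeparated (pullback.fst (fgHom (k := k) K a.unop) f)
  haveI : ∀ a, PreservesFiniteLimits (EtCoh.pull (cX.π.app a)) := fun a => EtFound.pull_preservesFiniteLimits _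
  haveI : ∀ ⦃a b : (Finset K)ᵒᵖ⦄ (h : a ⟶ b), PreservesFiniteLimits (EtCoh.pull (Xs.map h)) :=
    fun a b h => EtFound.pull_preservesFiniteLimits _
  have H := EtLimit.genSys_comparison Xs hXaff cX hcX qX sX e he G
    (pullback.snd (Spec.map (CommRingCat.ofHom (algebraMap k K))) f) (fun s => pullback.lift_snd _ _ _) q
  refine subsingleton_of_forall_eq 0 fun ξ => ?_
  obtain ⟨s, x, rfl⟩ := H.1 ξ
  -- the stage
  let p := pullback.fst (fgHom (k := k) K s) f
  let GV := (EtCoh.pull (e s)).obj G
  haveI : IsProper p := MorphismProperty.pullback_fst _ _ ‹IsProper f›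
  haveI : LocallyOfFiniteType (fgHom (k := k) K s) :=
    (HasRingHomProperty.Spec_iff (P := @LocallyOfFiniteType)).2
      (RingHom.finiteType_algebraMap.2 ((Subalgebra.fg_iff_finiteType _).1 ⟨s, rfl⟩))
  have stk : ∀ (y : Spec ((fgAlg (k := k) K).obj s)) (R : Type u) [CommRing R] [IsLocalRing R]
      [Algebra ((Spec ((fgAlg (k := k) K).obj s)).presheaf.stalk y) R]
      [IsLocalHom (algebraMap ((Spec ((fgAlg (k := k) K).obj s)).presheaf.stalk y) R)]
      [Hensel.IsStrictHenselization ((Spec ((fgAlg (k := k) K).obj s)).presheaf.stalk y) R]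
      [IsSepClosed (IsLocalRing.ResidueField R)],
      Subsingleton ((EtCoh.stalk (Hens2.geomPt (Spec ((fgAlg (k := k) K).obj s)) y R)).obj ((EtCoh.Rpush p q).obj GV)) ↔
      Subsingleton (EtCoh.H (pullback p (Hens2.specOf (Spec ((fgAlg (k := k) K).obj s)) y R))
        ((EtCoh.pull (pullback.fst p (Hens2.specOf (Spec ((fgAlg (k := k) K).obj s)) y R))).obj GV) q) := by
    intro y R _ _ _ _ _ _
    obtain ⟨e⟩ := S6186.result p y R q
    let eq := (e.app GV).addCommGroupIsoToAddEquiv
    exact ⟨fun h => @Equiv.subsingleton _ _ eq.symm.toEquiv h, fun h => @Equiv.subsingleton _ _ eq.toEquiv h⟩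
  have hzero : IsZero ((EtCoh.Rpush p q).obj GV) := by
    refine isZero_of_closed_points (fgHom (k := k) K s) _ fun Ω _ _ ζ hζ => ?_
    let y := ζ.base (default : Spec (CommRingCat.of Ω))
    obtain ⟨R, _, _, _, _, hR'⟩ := S0537.result ((Spec ((fgAlg (k := k) K).obj s)).presheaf.stalk y)
    haveI := hR'
    haveI : IsSepClosed (IsLocalRing.ResidueField R) :=
      (Hensel.IsStrictHenselization.isSepClosure (R := (Spec ((fgAlg (k := k) K).obj s)).presheaf.stalk y) (S := R)).sep_closed
    haveI : HenselianLocalRing R :=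
      Hensel.IsStrictHenselization.henselian ((Spec ((fgAlg (k := k) K).obj s)).presheaf.stalk y)
    obtain ⟨e₁⟩ := EtFound.nonempty_stalk_equiv ((EtCoh.Rpush p q).obj GV) ζ (Hens2.geomPt _ y R)
      (EtLC12.Specialization.geomPt_base _ y R default).symm
    have hsub : Subsingleton ((EtCoh.stalk (Hens2.geomPt _ y R)).obj ((EtCoh.Rpush p q).obj GV)) := by
      refine (stk y R).2 ?_
      let c := Hens2.specOf (Spec ((fgAlg (k := k) K).obj s)) y R ≫ fgHom (k := k) K s
      let φ : k →+* R := (Spec.preimage c).hom
      have hφ : Spec.map (CommRingCat.ofHom φ) = c := Spec.map_preimage c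
      have hint : ((IsLocalRing.residue R).comp φ).IsIntegral := by
        let κy := (Spec ((fgAlg (k := k) K).obj s)).residueField y
        let OY := (Spec ((fgAlg (k := k) K).obj s)).presheaf.stalk y
        let g₀ := (Spec ((fgAlg (k := k) K).obj s)).fromSpecResidueField y ≫ fgHom (k := k) K s
        haveI : LocallyOfFiniteType ((Spec ((fgAlg (k := k) K).obj s)).fromSpecResidueField y) :=
          haveI : JacobsonSpace (Spec ((fgAlg (k := k) K).obj s)) := LocallyOfFiniteType.jacobsonSpace (fgHom (k := k) K s)
          isClosed_singleton_iff_locallyOfFiniteType.1 hζ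
        haveI : IsFinite g₀ := isFinite_iff_locallyOfFiniteType_of_jacobsonSpace.2 inferInstance
        let ρ : k →+* κy := (Spec.preimage g₀).hom
        have hρ : ρ.IsIntegral := by
          have : IsIntegralHom (Spec.map (CommRingCat.ofHom ρ)) := by
            rw [show Spec.map (CommRingCat.ofHom ρ) = g₀ from Spec.map_preimage g₀]
            infer_instance
          exact IsIntegralHom.SpecMap_iff.1 this
        let σ : κy →+* IsLocalRing.ResidueField R := IsLocalRing.ResidueField.map (algebraMap OY R)
        have hσ : σ.IsIntegral := by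
          haveI : Algebra.IsSeparable (IsLocalRing.ResidueField OY) (IsLocalRing.ResidueField R) :=
            (Hensel.IsStrictHenselization.isSepClosure (R := OY) (S := R)).separable
          intro z
          exact Algebra.IsIntegral.isIntegral (R := IsLocalRing.ResidueField OY) z
        have heq : (IsLocalRing.residue R).comp φ = σ.comp ρ := by
          refine congrArg CommRingCat.Hom.hom (Spec.map_injective
            (a₁ := CommRingCat.ofHom ((IsLocalRing.residue R).comp φ)) (a₂ := CommRingCat.ofHom (σ.comp ρ)) ?_)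
          rw [CommRingCat.ofHom_comp, CommRingCat.ofHom_comp, Spec.map_comp, Spec.map_comp, hφ,
            show Spec.map (CommRingCat.ofHom ρ) = g₀ from Spec.map_preimage g₀]
          simp only [c, g₀, Hens2.specOf, Scheme.fromSpecResidueField, ← Category.assoc]
          congr 2
          rw [← Spec.map_comp, ← Spec.map_comp]
          rfl
        rw [heq]
        exact RingHom.IsIntegral.trans _ _ hρ hσ
      have h1 := hR R φ hint
      -- compare the two models of the fibre
      let w := pullback.fst p (Hens2.specOf (Spec ((fgAlg (k := k) K).obj s)) y R)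
      let w' := pullback.snd p (Hens2.specOf (Spec ((fgAlg (k := k) K).obj s)) y R)
      have sq : IsPullback (w ≫ e s) w' f (Spec.map (CommRingCat.ofHom φ)) := by
        rw [hφ]
        exact (IsPullback.of_hasPullback p _).paste_horiz (IsPullback.of_hasPullback (fgHom (k := k) K s) f).flip
      have h2 := subsingleton_of_iso (sq.flip.isoPullback.hom) (pullback.snd (Spec.map (CommRingCat.ofHom φ)) f)
        (w ≫ e s) sq.flip.isoPullback_hom_snd G q h1
      exact (CohCrit13.hmap_bijective_of_isIso ((EtFound.θPull w (e s) (w ≫ e s) rfl).hom.app G) q).1.subsingleton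
    exact e₁.subsingleton
  -- restrict along the point
  let π := (fgCone (k := k) K).π.app (op s)
  let ξp : Spec (CommRingCat.of K) ⟶ Spec ((fgAlg (k := k) K).obj s) := Spec.map ((fgCocone (k := k) K).ι.app s)
  let y := ξp.base (default : Spec (CommRingCat.of K))
  obtain ⟨R, _, _, _, _, hR'⟩ := S0537.result ((Spec ((fgAlg (k := k) K).obj s)).presheaf.stalk y)
  haveI := hR'
  haveI : IsSepClosed (IsLocalRing.ResidueField R) :=
    (Hensel.IsStrictHenselization.isSepClosure (R := (Spec ((fgAlg (k := k) K).obj s)).presheaf.stalk y) (S := R)).sep_closed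
  obtain ⟨τ, hτ⟩ := UnitStalk.exists_resPt ξp rfl R
  let w := pullback.fst p (Hens2.specOf (Spec ((fgAlg (k := k) K).obj s)) y R)
  haveI : PreservesFiniteLimits (EtCoh.pull w) := EtFound.pull_preservesFiniteLimits _
  have hw : EtCore.Hpull w GV q x = 0 :=
    @Subsingleton.elim _ ((stk y R).1 (AddCommGrpCat.subsingleton_of_isZero ((EtCoh.stalk _).map_isZero hzero))) _ _
  have hπ : (cX.π.app (op s) : cX.pt ⟶ Xs.obj (op s)) ≫ p =
      pullback.fst (Spec.map (CommRingCat.ofHom (algebraMap k K))) f ≫ ξp := pullback.lift_fst _ _ _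
  let m : cX.pt ⟶ pullback p (Hens2.specOf (Spec ((fgAlg (k := k) K).obj s)) y R) :=
    pullback.lift (cX.π.app (op s)) (pullback.fst (Spec.map (CommRingCat.ofHom (algebraMap k K))) f ≫ EtBC.resPt R τ)
      (hπ.trans ((congrArg (pullback.fst (Spec.map (CommRingCat.ofHom (algebraMap k K))) f ≫ ·) hτ.symm).trans
        (Category.assoc _ _ _).symm))
  have hx : EtCore.Hpull (cX.π.app (op s)) GV q x = 0 :=
    killed_of_factor w m (cX.π.app (op s)) (pullback.lift_fst _ _ _) (fun {_} => hw)
  show EtLimit.hThen (cX.π.app (op s)) GV _ q x = 0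
  rw [EtLimit.hThen_apply, EtLimit.HpullThen_apply]
  erw [hx]
  exact Abelian.Ext.zero_comp ..

end Groth.Agent.GabberAff13
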