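import Groth.Agent.GabberAff13.Efface
import Groth.Agent.EtFound.PullExt
import Groth.Agent.S0122

/-!
# The affine analogue of proper base change for henselian pairs
-/

set_option autoImplicit false
set_option linter.style.haveILetI false
set_option backward.isDefEq.respectTransparency false
set_option backward.isDefEq.respectTransparency.types false
set_option maxHeartbeats 1000000

universe u

open CategoryTheory CategoryTheory.Limits AlgebraicGeometry Opposite CategoryTheory.Abelian

namespace Groth.Agent.GabberAff13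

variable {X Z : Scheme.{u}} (i : Z ⟶ X) [IsClosedImmersion i]

omit [IsClosedImmersion i] in
theorem hofPush_hmap [PreservesFiniteLimits (EtCoh.pull i)] {A B : EtCoh.Ab Z} (a : A ⟶ B) (q : ℕ)
    (y : EtCoh.H X ((EtCoh.push i).obj A) q) :
    EtLim.HofPush i B q (EtLimit.hmap ((EtCoh.push i).map a) q y) = EtLimit.hmap a q (EtLim.HofPush i A q y) := by
  show EtLimit.hmap ((EtCoh.pullPushAdj i).counit.app B) q (EtCore.Hpull i _ q (EtLimit.hmap ((EtCoh.push i).map a) q y)) =
    EtLimit.hmap a q (EtLimit.hmap ((EtCoh.pullPushAdj i).counit.app A) q (EtCore.Hpull i _ q y))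
  rw [CohCrit13.Hpull_hmap]
  exact ((EtLimit.hmap_comp _ _ q _).trans (congrArg (fun t => EtLimit.hmap t q (EtCore.Hpull i _ q y))
    ((EtCoh.pullPushAdj i).counit.naturality a))).trans (EtLimit.hmap_comp _ _ q _).symm

/-- The comparison with the closed fibre, by induction on the degree. -/
theorem bijective_hmap_unit [IsAffine X]
    (h0 : ∀ F : EtCoh.Ab X, Function.Bijective (EtLimit.hmap ((EtCoh.pullPushAdj i).unit.app F) 0)) :
    ∀ (q : ℕ) (F : EtCoh.Ab X), EtCoh.IsTorsion F →
      Function.Bijective (EtLimit.hmap ((EtCoh.pullPushAdj i).unit.app F) q) := by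
  haveI : PreservesFiniteLimits (EtCoh.pull i) := EtFound.pull_preservesFiniteLimits _
  haveI : PreservesFiniteLimits (EtCoh.pull (𝟙 X)) := EtFound.pull_preservesFiniteLimits _
  haveI := EtFound.push_preservesFiniteLimits i
  haveI := EtFound.push_preservesFiniteColimits i
  let T := EtCoh.pull i ⋙ EtCoh.push i
  haveI : PreservesFiniteLimits T := comp_preservesFiniteLimits _ _
  haveI : PreservesFiniteColimits T := comp_preservesFiniteColimits _ _
  haveI : PreservesBinaryBiproducts T := preservesBinaryBiproducts_of_preservesBinaryProducts _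
  haveI : T.Additive := Functor.additive_of_preservesBinaryBiproducts _
  let η : 𝟭 (EtCoh.Ab X) ⟶ T := (EtCoh.pullPushAdj i).unit
  have hE : ∀ {F G : EtCoh.Ab X} (u : F ⟶ G) [Mono u],
      (ShortComplex.mk u (cokernel.π u) (cokernel.condition u)).ShortExact := fun u _ =>
    { exact := ShortComplex.exact_of_g_is_cokernel _ (cokernelIsCokernel _) }
  intro q
  induction q with
  | zero => exact fun F _ => h0 F
  | succ q ih =>
    intro F hF
    refine ⟨(injective_iff_map_eq_zero _).2 fun x hx => ?_, fun y => ?_⟩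
    · obtain ⟨G, hG, φ, _, hφ⟩ := exists_efface (𝟙 X) F hF q (EtCore.Hpull (𝟙 X) F (q + 1) x)
      have hx0 : EtLimit.hmap φ (q + 1) x = 0 := (EtFound.Hpull_bijective_of_isIso (𝟙 X) G (q + 1)).1 (by
        rw [CohCrit13.Hpull_hmap, hφ, map_zero])
      have hS := hE φ
      have hS' := hS.map_of_exact T
      obtain ⟨c, rfl⟩ := EtLimit.exists_hδ_of_hmap_eq_zero hS (rfl : q + 1 = q + 1) x hx0
      have hnat : EtLimit.hmap (η.app F) (q + 1) (EtLimit.hδ hS rfl c) =
          EtLimit.hδ hS' rfl (EtLimit.hmap (η.app (cokernel φ)) q c) := by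
        show Ext.comp (Ext.comp c hS.extClass rfl) (Ext.mk₀ (η.app F)) (add_zero (q + 1)) =
          Ext.comp (Ext.comp c (Ext.mk₀ (η.app (cokernel φ))) (add_zero q)) hS'.extClass rfl
        rw [Ext.comp_assoc_of_third_deg_zero, Ext.comp_assoc_of_second_deg_zero]
        exact congrArg (fun z => Ext.comp c z rfl) (ShortComplex.ShortExact.extClass_naturality hS hS'
          (ShortComplex.homMk (η.app F) (η.app G) (η.app (cokernel φ)) (η.naturality φ).symm (η.naturality (cokernel.π φ)).symm))
      obtain ⟨b, hb⟩ := EtLimit.exists_hmap_of_hδ_eq_zero hS' (rfl : q + 1 = q + 1) _ (hnat.symm.trans hx)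
      obtain ⟨b₀, rfl⟩ := (ih G hG).2 b
      have hc : EtLimit.hmap (cokernel.π φ) q b₀ = c := (ih _ (BCCrit13.isTorsion_of_epi (cokernel.π φ) hG)).1 (by
        refine Eq.trans ?_ hb
        show _ = EtLimit.hmap (T.map (cokernel.π φ)) q (EtLimit.hmap (η.app G) q b₀)
        exact ((EtLimit.hmap_comp _ _ q _).trans (congrArg (fun t => EtLimit.hmap t q b₀)
          (η.naturality (cokernel.π φ)))).trans (EtLimit.hmap_comp _ _ q _).symm)
      rw [← hc]
      exact EtLimit.hδ_hmap_g hS rfl b₀
    · obtain ⟨G, hG, φ, _, hφ⟩ := exists_efface i F hF q (EtLim.HofPush i _ (q + 1) y)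
      have hy0 : EtLimit.hmap (T.map φ) (q + 1) y = 0 :=
        (BigSiteLib.hofPush_bijective i _ (fun j hj => by
          obtain ⟨m, rfl⟩ := Nat.exists_eq_succ_of_ne_zero hj.ne'
          exact LerayDegen.isZero_rightDerived_of_exact (EtCoh.push i) _ m) (q + 1)).1
          ((hofPush_hmap i ((EtCoh.pull i).map φ) (q + 1) y).trans (hφ.trans (map_zero _).symm))
      have hS := hE φ
      have hS' := hS.map_of_exact T
      obtain ⟨c, rfl⟩ := EtLimit.exists_hδ_of_hmap_eq_zero hS' (rfl : q + 1 = q + 1) y hy0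
      obtain ⟨a, ha⟩ := (ih _ (BCCrit13.isTorsion_of_epi (cokernel.π φ) hG)).2 c
      refine ⟨EtLimit.hδ hS rfl a, ?_⟩
      rw [← ha]
      show Ext.comp (Ext.comp a hS.extClass rfl) (Ext.mk₀ (η.app F)) (add_zero (q + 1)) =
        Ext.comp (Ext.comp a (Ext.mk₀ (η.app (cokernel φ))) (add_zero q)) hS'.extClass rfl
      rw [Ext.comp_assoc_of_third_deg_zero, Ext.comp_assoc_of_second_deg_zero]
      exact congrArg (fun z => Ext.comp a z rfl) (ShortComplex.ShortExact.extClass_naturality hS hS'
        (ShortComplex.homMk (η.app F) (η.app G) (η.app (cokernel φ)) (η.naturality φ).symm (η.naturality (cokernel.π φ)).symm))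

/-- Gabber's affine analogue of proper base change. -/
theorem henselian_pair (A : Type u) [CommRing A] (I : Ideal A) [HenselianRing A I]
    (F : EtCoh.Ab (Spec (CommRingCat.of A))) (hF : EtCoh.IsTorsion F) (q : ℕ) :
    Function.Bijective
      (EtLimit.hmap ((EtCoh.pullPushAdj (Spec.map (CommRingCat.ofHom (Ideal.Quotient.mk I)))).unit.app F) q) := by
  haveI : IsClosedImmersion (Spec.map (CommRingCat.ofHom (Ideal.Quotient.mk I))) :=
    IsClosedImmersion.spec_of_surjective _ Ideal.Quotient.mk_surjective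
  refine bijective_hmap_unit _ (fun G => ?_) q F hF
  let e := fun K : EtCoh.Ab (Spec (CommRingCat.of A)) => Sheaf.H.equiv₀ K (EtCore.topIsTerminal (Spec (CommRingCat.of A)))
  refine ⟨fun a b hab => (e G).injective ((S0122.result A I G).1 ?_), fun y => ?_⟩
  · exact ((Sheaf.H.equiv₀_naturality (EtCore.topIsTerminal _) _ a).trans (congrArg (e _) hab)).trans
      (Sheaf.H.equiv₀_naturality (EtCore.topIsTerminal _) _ b).symm
  · obtain ⟨t, ht⟩ := (S0122.result A I G).2 (e _ y)
    refine ⟨(e G).symm t, (e _).injective ?_⟩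
    refine (Sheaf.H.equiv₀_naturality (EtCore.topIsTerminal _) _ ((e G).symm t)).symm.trans ?_
    rw [AddEquiv.apply_symm_apply]
    exact ht

end Groth.Agent.GabberAff13
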