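import Groth.Agent.GabberAff13.H1
import Groth.Agent.GabberAff13.Pair
import Groth.Agent.EtFound.ProperH0
import Groth.Agent.EtFound.Detect
import Groth.Agent.S0240

/-!
# First cohomology with constant coefficients of proper schemes over henselian local rings
-/

set_option autoImplicit false
set_option linter.style.haveILetI false
set_option backward.isDefEq.respectTransparency false
set_option backward.isDefEq.respectTransparency.types false
set_option maxHeartbeats 1000000

universe u

open CategoryTheory CategoryTheory.Limits AlgebraicGeometry Opposite CategoryTheory.Abelian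

namespace Groth.Agent.GabberAff13

variable {X Z : Scheme.{u}} (i : Z ⟶ X) [IsClosedImmersion i] [PreservesFiniteLimits (EtCoh.pull i)]

omit [IsClosedImmersion i] in
theorem Hpull_eq (F : EtCoh.Ab X) (q : ℕ) (x : EtCoh.H X F q) :
    EtCore.Hpull i F q x =
      EtLim.HofPush i ((EtCoh.pull i).obj F) q (EtLimit.hmap ((EtCoh.pullPushAdj i).unit.app F) q x) := by
  show _ = EtLimit.hmap ((EtCoh.pullPushAdj i).counit.app _) q (EtCore.Hpull i _ q (EtLimit.hmap _ q x))
  rw [CohCrit13.Hpull_hmap]
  refine Eq.symm ((EtLimit.hmap_comp _ _ q _).trans ?_)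
  exact (congrArg (fun t => EtLimit.hmap t q (EtCore.Hpull i F q x))
    ((EtCoh.pullPushAdj i).left_triangle_components F)).trans (CohCrit13.hmap_id q _)

/-- Degree zero. -/
theorem bijective_Hpull_zero
    (h0 : ∀ F : EtCoh.Ab X, Function.Bijective (((EtCoh.pullPushAdj i).unit.app F).hom.app (op (EtCoh.top X))))
    (F : EtCoh.Ab X) : Function.Bijective (EtCore.Hpull i F 0) := by
  let e := fun K : EtCoh.Ab X => Sheaf.H.equiv₀ K (EtCore.topIsTerminal X)
  have hu : Function.Bijective (EtLimit.hmap ((EtCoh.pullPushAdj i).unit.app F) 0) := by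
    refine ⟨fun a b hab => (e F).injective ((h0 F).1 ?_), fun y => ?_⟩
    · exact ((Sheaf.H.equiv₀_naturality (EtCore.topIsTerminal _) _ a).trans (congrArg (e _) hab)).trans
        (Sheaf.H.equiv₀_naturality (EtCore.topIsTerminal _) _ b).symm
    · obtain ⟨t, ht⟩ := (h0 F).2 (e _ y)
      refine ⟨(e F).symm t, (e _).injective ?_⟩
      refine (Sheaf.H.equiv₀_naturality (EtCore.topIsTerminal _) _ ((e F).symm t)).symm.trans ?_
      rw [AddEquiv.apply_symm_apply]
      exact ht
  have hp := BigSiteLib.hofPush_bijective i ((EtCoh.pull i).obj F) (fun j hj => by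
    obtain ⟨m, rfl⟩ := Nat.exists_eq_succ_of_ne_zero hj.ne'
    haveI := EtFound.push_preservesFiniteLimits i
    haveI := EtFound.push_preservesFiniteColimits i
    exact LerayDegen.isZero_rightDerived_of_exact (EtCoh.push i) _ m) 0
  refine ⟨fun a b hab => hu.1 (hp.1 ?_), fun y => ?_⟩
  · rwa [← Hpull_eq, ← Hpull_eq]
  · obtain ⟨z, rfl⟩ := hp.2 y
    obtain ⟨x, rfl⟩ := hu.2 z
    exact ⟨x, Hpull_eq i F 0 x⟩

variable (h0 : ∀ F : EtCoh.Ab X, Function.Bijective (EtCore.Hpull i F 0))

include h0 in
omit [IsClosedImmersion i] in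
theorem injective_Hpull_one (F : EtCoh.Ab X) : Function.Injective (EtCore.Hpull i F 1) := by
  haveI : PreservesColimitsOfSize.{0, 0} (EtCoh.pull i) := (EtCoh.pullPushAdj i).leftAdjoint_preservesColimits
  refine (injective_iff_map_eq_zero _).2 fun x hx => ?_
  let S := ShortComplex.mk (Injective.ι F) (cokernel.π (Injective.ι F)) (cokernel.condition _)
  have hS : S.ShortExact := { exact := ShortComplex.exact_of_g_is_cokernel _ (cokernelIsCokernel (Injective.ι F)) }
  haveI : Injective S.X₂ := inferInstanceAs (Injective (Injective.under _))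
  have hS' := hS.map_of_exact (EtCoh.pull i)
  obtain ⟨c, rfl⟩ := EtLimit.exists_hδ_of_hmap_eq_zero hS (rfl : 0 + 1 = 1) x (Ext.eq_zero_of_injective _)
  obtain ⟨b, hb⟩ := EtLimit.exists_hmap_of_hδ_eq_zero hS' (rfl : 0 + 1 = 1) _
    ((CohCrit13.Hpull_hδ i hS hS' rfl c).symm.trans hx)
  obtain ⟨a, rfl⟩ := (h0 S.X₂).2 b
  have hc : EtLimit.hmap S.g 0 a = c := (h0 S.X₃).1 ((CohCrit13.Hpull_hmap i S.g 0 a).trans hb)
  rw [← hc]
  exact EtLimit.hδ_hmap_g hS rfl a

include h0 in
/-- Surjectivity, from lifting a finite cover that kills the class. -/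
theorem mem_range_Hpull_one {E : Scheme.{u}} (p : E ⟶ X) [IsFinite p] [Surjective p] (F : EtCoh.Ab X)
    (y : EtCoh.H Z ((EtCoh.pull i).obj F) 1) (hy : Killed (pullback.snd p i) y) :
    ∃ x, EtCore.Hpull i F 1 x = y := by
  haveI : PreservesColimitsOfSize.{0, 0} (EtCoh.pull i) := (EtCoh.pullPushAdj i).leftAdjoint_preservesColimits
  haveI : (EtCoh.pull p).Faithful := EtFound.pullback_faithful p
  haveI : IsFinite (pullback.snd p i) := MorphismProperty.pullback_snd _ _ ‹IsFinite p›
  haveI : PreservesFiniteLimits (EtCoh.pull (pullback.snd p i)) := EtFound.pull_preservesFiniteLimits _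
  let u := (EtCoh.pullPushAdj p).unit.app F
  haveI : Mono u := Adjunction.unit_mono_of_L_faithful _ _
  let S := ShortComplex.mk u (cokernel.π u) (cokernel.condition u)
  have hS : S.ShortExact := { exact := ShortComplex.exact_of_g_is_cokernel _ (cokernelIsCokernel u) }
  have hS' := hS.map_of_exact (EtCoh.pull i)
  let C := (EtCoh.pull p).obj F
  let bc := EtCoh.baseChange0 p i (pullback.snd p i) (pullback.fst p i) pullback.condition C
  haveI : IsIso bc :=
    EtFound.isIso_baseChange_of_integral (IsPullback.of_hasPullback p i) C _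
      (EtFound.baseChange0_unit p i (pullback.snd p i) (pullback.fst p i) pullback.condition C)
  have hp' := BigSiteLib.hofPush_bijective (pullback.snd p i) ((EtCoh.pull (pullback.fst p i)).obj C) (fun j hj => by
    obtain ⟨m, rfl⟩ := Nat.exists_eq_succ_of_ne_zero hj.ne'
    haveI := EtFound.push_preservesFiniteLimits (pullback.snd p i)
    haveI := EtFound.push_preservesFiniteColimits (pullback.snd p i)
    exact LerayDegen.isZero_rightDerived_of_exact (EtCoh.push (pullback.snd p i)) _ m) 1
  have hu : EtLimit.hmap ((EtCoh.pull i).map u) 1 y = 0 := by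
    refine (CohCrit13.hmap_bijective_of_isIso bc 1).1 (Eq.trans ?_ (map_zero _).symm)
    refine hp'.1 (Eq.trans ?_ (map_zero _).symm)
    refine ((congrArg (EtLimit.hmap ((EtCoh.pullPushAdj (pullback.snd p i)).counit.app _) 1)
      ((congrArg (EtCore.Hpull (pullback.snd p i) _ 1) (EtLimit.hmap_comp _ _ 1 y)).trans
        (CohCrit13.Hpull_hmap (pullback.snd p i) ((EtCoh.pull i).map u ≫ bc) 1 y))).trans ?_)
    erw [hy, map_zero, map_zero]
  obtain ⟨c, rfl⟩ := EtLimit.exists_hδ_of_hmap_eq_zero hS' (rfl : 0 + 1 = 1) y hu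
  obtain ⟨a, rfl⟩ := (h0 _).2 c
  exact ⟨EtLimit.hδ hS rfl a, CohCrit13.Hpull_hδ i hS hS' rfl a⟩

omit i

/-- Proper schemes over a henselian local ring. -/
theorem bijective_Hpull_one_proper (A : Type u) [CommRing A] [HenselianLocalRing A]
    (X : Scheme.{u}) (f : X ⟶ Spec (CommRingCat.of A)) [IsProper f] (M : Type) [AddCommGroup M] [Finite M]
    [PreservesFiniteLimits (EtCoh.pull (pullback.fst f
      (Spec.map (CommRingCat.ofHom (IsLocalRing.residue A)))))] :
    Function.Bijective (EtCore.Hpull (pullback.fst f (Spec.map (CommRingCat.ofHom (IsLocalRing.residue A))))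
      (EtCoh.const X M) 1) := by
  let s := Spec.map (CommRingCat.ofHom (IsLocalRing.residue A))
  haveI : IsClosedImmersion s := IsClosedImmersion.spec_of_surjective _ IsLocalRing.residue_surjective
  let i := pullback.fst f s
  haveI : IsClosedImmersion i := MorphismProperty.pullback_fst _ _ ‹IsClosedImmersion s›
  haveI : HenselianRing A (IsLocalRing.maximalIdeal A) := inferInstance
  have hrange : Set.range i = f ⁻¹' PrimeSpectrum.zeroLocus (IsLocalRing.maximalIdeal A : Set A) :=
    HensCouple7.range_fst_mk (IsLocalRing.maximalIdeal A) f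
  have h0 : ∀ F : EtCoh.Ab X, Function.Bijective (EtCore.Hpull i F 0) :=
    bijective_Hpull_zero i fun F => ProperH0.bijective_unit (IsLocalRing.maximalIdeal A) f i hrange F
  refine ⟨injective_Hpull_one i h0 _, fun y => ?_⟩
  let θ := EtCore.pullConst i M
  obtain ⟨E₀, p₀, hf₀, het₀, hs₀, hk⟩ := exists_finite_etale_kill (EtLimit.hmap θ.hom 1 y)
  have hk' : Killed p₀ y := fun {_} => by
    refine (CohCrit13.hmap_bijective_of_isIso ((EtCoh.pull p₀).map θ.hom) 1).1 (Eq.trans ?_ (map_zero _).symm)
    exact (CohCrit13.Hpull_hmap p₀ θ.hom 1 y).symm.trans hk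
  haveI := S0240.result A f
  let E₀' : FEt.Cat (pullback f s) := MorphismProperty.Over.mk ⊤ p₀ ⟨hf₀, het₀⟩
  let E := (FEt.restrict i).objPreimage E₀'
  let e : (FEt.restrict i).obj E ≅ E₀' := (FEt.restrict i).objObjPreimageIso E₀'
  haveI : IsFinite E.hom := E.prop.1
  haveI : AlgebraicGeometry.Etale E.hom := E.prop.2
  have hk2 : Killed (pullback.snd E.hom i) y := by
    intro inst
    let w : ((FEt.restrict i).obj E).left ⟶ pullback f s := pullback.snd E.hom i
    haveI := EtFound.pull_preservesFiniteLimits w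
    exact killed_of_factor p₀ e.hom.left w (MorphismProperty.Over.w e.hom) hk'
  haveI : Surjective E.hom := by
    refine ⟨fun x => ?_⟩
    let U : Set X := Set.range E.hom
    have hUo : IsOpen U := E.hom.isOpenMap.isOpen_range
    have hi : ∀ z, i z ∈ U := fun z => by
      obtain ⟨w, hw⟩ := hs₀ z
      refine ⟨pullback.fst E.hom i (e.inv.left w), ?_⟩
      refine (Scheme.Hom.comp_apply _ _ _).symm.trans ((congrArg (fun t : _ ⟶ X => t (e.inv.left w)) pullback.condition).trans ?_)
      refine (Scheme.Hom.comp_apply _ _ _).trans (congrArg i ?_)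
      refine (Scheme.Hom.comp_apply _ _ w).symm.trans ?_
      exact (congrArg (fun t : _ ⟶ pullback f s => t w) (MorphismProperty.Over.w e.inv)).trans hw
    obtain ⟨x', hx', hm⟩ : ∃ x', x ⤳ x' ∧ f x' = IsLocalRing.closedPoint A := by
      have hc : IsClosed (f '' closure {x}) := f.isClosedMap _ isClosed_closure
      have : IsLocalRing.closedPoint A ∈ f '' closure {x} :=
        (IsLocalRing.specializes_closedPoint (f x)).mem_closed hc ⟨x, subset_closure rfl, rfl⟩
      obtain ⟨x', hx', hm⟩ := this
      exact ⟨x', specializes_iff_mem_closure.2 hx', hm⟩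
    obtain ⟨z, hz⟩ : x' ∈ Set.range i := by
      rw [hrange]
      show IsLocalRing.maximalIdeal A ≤ (f x').asIdeal
      rw [hm]
      exact le_rfl
    exact hx'.mem_open hUo (hz ▸ hi z)
  exact mem_range_Hpull_one i h0 E.hom _ y hk2

end Groth.Agent.GabberAff13

namespace Groth.Agent.GabberAff13

/-- Surjectivity along any model of the closed fibre. -/
theorem surjective_Hpull_one_of_isPullback (A : Type u) [CommRing A] [HenselianLocalRing A]
    {X : Scheme.{u}} (f : X ⟶ Spec (CommRingCat.of A)) [IsProper f] {Z : Scheme.{u}} (i : Z ⟶ X)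
    (g : Z ⟶ Spec (CommRingCat.of (IsLocalRing.ResidueField A)))
    (h : IsPullback i g f (Spec.map (CommRingCat.ofHom (IsLocalRing.residue A)))) (M : Type) [AddCommGroup M]
    [Finite M] [PreservesFiniteLimits (EtCoh.pull i)] :
    Function.Surjective (EtCore.Hpull i (EtCoh.const X M) 1) := by
  let s := Spec.map (CommRingCat.ofHom (IsLocalRing.residue A))
  let i₀ := pullback.fst f s
  let k : Z ⟶ pullback f s := h.isoPullback.hom
  haveI : PreservesFiniteLimits (EtCoh.pull i₀) := EtFound.pull_preservesFiniteLimits _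
  haveI : PreservesFiniteLimits (EtCoh.pull k) := EtFound.pull_preservesFiniteLimits _
  have e : k ≫ i₀ = i := h.isoPullback_hom_fst
  intro y
  obtain ⟨y', hy'⟩ := (CohCrit13.hmap_bijective_of_isIso ((EtFound.θPull k i₀ i e).hom.app (EtCoh.const X M)) 1).2 y
  obtain ⟨z, rfl⟩ := (EtFound.Hpull_bijective_of_isIso k ((EtCoh.pull i₀).obj (EtCoh.const X M)) 1).2 y'
  obtain ⟨x, rfl⟩ := (bijective_Hpull_one_proper A X f M).2 z
  exact ⟨x, (EtFound.Hpull_comp k i₀ i e (EtCoh.const X M) 1 x).trans hy'⟩

end Groth.Agent.GabberAff13
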