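import Groth.Agent.GabberAff13.InjKilled
import Groth.Agent.GabberAff13.ProperH1
import Groth.Agent.H23.ProjVeryAmple
import Groth.Prelude.Def_CohB1

/-!
# Vanishing on the closed fibre of the projective line
-/

set_option autoImplicit false
set_option linter.style.haveILetI false
set_option backward.isDefEq.respectTransparency false
set_option backward.isDefEq.respectTransparency.types false
set_option maxHeartbeats 1000000

universe u

open CategoryTheory CategoryTheory.Limits AlgebraicGeometry Opposite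

namespace Groth.Agent.GabberAff13

variable {X Z : Scheme.{u}}

/-- Vanishing on a piece of the closed subscheme over an affine open. -/
theorem subsingleton_H_piece (i : Z ⟶ X) [IsClosedImmersion i] {ℓ : ℕ} (hℓ : 0 < ℓ) {I : EtCoh.Ab X}
    (hI : BCCrit13.InjKilled ℓ I) {U : X.Opens} (hU : IsAffineOpen U) (q : ℕ) :
    Subsingleton (EtCoh.H ↑(i ⁻¹ᵁ U) ((EtCoh.pull (i ⁻¹ᵁ U).ι).obj ((EtCoh.pull i).obj I)) (q + 1)) := by
  haveI : IsAffine (U : Scheme.{u}) := hU
  haveI : IsClosedImmersion (i ∣_ U) := IsZariskiLocalAtTarget.restrict ‹IsClosedImmersion i› U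
  have h1 := subsingleton_H_pull_injKilled (i ∣_ U) hℓ (injKilled_pull_open U.ι hI) q
  let w := (i ⁻¹ᵁ U).ι ≫ i
  haveI : Subsingleton (EtCoh.H ↑(i ⁻¹ᵁ U) ((EtCoh.pull U.ι ⋙ EtCoh.pull (i ∣_ U)).obj I) (q + 1)) := h1
  have h2 : Subsingleton (EtCoh.H ↑(i ⁻¹ᵁ U) ((EtCoh.pull w).obj I) (q + 1)) :=
    (CohCrit13.hmap_bijective_of_isIso ((EtFound.θPull (i ∣_ U) U.ι w (morphismRestrict_ι i U)).hom.app I) (q + 1)).2.subsingleton
  haveI := h2
  exact (CohCrit13.hmap_bijective_of_isIso ((EtFound.θPull (i ⁻¹ᵁ U).ι i w rfl).hom.app I) (q + 1)).1.subsingleton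

/-- Degrees at least two: two affine opens with affine intersection. -/
theorem subsingleton_H_two (i : Z ⟶ X) [IsClosedImmersion i] {ℓ : ℕ} (hℓ : 0 < ℓ) {I : EtCoh.Ab X}
    (hI : BCCrit13.InjKilled ℓ I) (U V : X.Opens) (hU : IsAffineOpen U) (hV : IsAffineOpen V)
    (hUVa : IsAffineOpen (U ⊓ V)) (hUV : U ⊔ V = ⊤) (q : ℕ) :
    Subsingleton (EtCoh.H Z ((EtCoh.pull i).obj I) (q + 2)) := by
  have hcov : i ⁻¹ᵁ U ⊔ i ⁻¹ᵁ V = ⊤ := eq_top_iff.2 fun z _ => by
    have hz : i z ∈ U ⊔ V := hUV.symm ▸ trivial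
    exact hz.imp id id
  refine subsingleton_of_forall_eq 0 fun c => eq_zero_of_two (i ⁻¹ᵁ U) (i ⁻¹ᵁ V) hcov
    (subsingleton_H_piece i hℓ hI hUVa q) c ?_ ?_
  · intro _
    exact @Subsingleton.elim _ (subsingleton_H_piece i hℓ hI hU (q + 1)) _ _
  · intro _
    exact @Subsingleton.elim _ (subsingleton_H_piece i hℓ hI hV (q + 1)) _ _

/-- Degree one. -/
theorem subsingleton_H_one (A : Type u) [CommRing A] [HenselianLocalRing A]
    (f : X ⟶ Spec (CommRingCat.of A)) [IsProper f] {ℓ : ℕ} (hℓ : 0 < ℓ) {I : EtCoh.Ab X}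
    (hI : BCCrit13.InjKilled ℓ I) :
    Subsingleton (EtCoh.H (pullback f (Spec.map (CommRingCat.ofHom (IsLocalRing.residue A))))
      ((EtCoh.pull (pullback.fst f (Spec.map (CommRingCat.ofHom (IsLocalRing.residue A))))).obj I) 1) := by
  let s := Spec.map (CommRingCat.ofHom (IsLocalRing.residue A))
  haveI : IsClosedImmersion s := IsClosedImmersion.spec_of_surjective _ IsLocalRing.residue_surjective
  let i := pullback.fst f s
  haveI : IsClosedImmersion i := MorphismProperty.pullback_fst _ _ ‹IsClosedImmersion s›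
  haveI : CompactSpace X := QuasiCompact.compactSpace_of_compactSpace f
  haveI : QuasiSeparatedSpace X := quasiSeparatedSpace_of_quasiSeparated f
  haveI : PreservesFiniteLimits (EtCoh.pull i) := EtFound.pull_preservesFiniteLimits _
  refine subsingleton_of_forall_eq 0 fun ξ => eq_zero_of_injKilled i hI hℓ (fun D hD hl => ?_) ξ
  obtain ⟨b, Y, p, hp, M, hM, hMf, u, hu, hG⟩ := exists_emb_killed hD hl
  refine ⟨_, u, hu, (EtFound.killedBy_iff_nsmul _ _).2 hG, fun b' y => ?_⟩
  have hs := (CohCrit13.comparison_biproduct i (fun j => (EtCoh.push (p j)).obj (EtCoh.const (Y j) (M j))) 1).2 fun j => by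
    haveI := hp j
    haveI := hMf j
    haveI : PreservesFiniteLimits (EtCoh.pull (pullback.fst (p j) i)) := EtFound.pull_preservesFiniteLimits _
    refine (CohCrit13.comparison_push i (p j) _ 1).2 ?_
    exact surjective_Hpull_one_of_isPullback A (p j ≫ f) (pullback.fst (p j) i) (pullback.snd (p j) i ≫ pullback.snd f s)
      ((IsPullback.of_hasPullback (p j) i).flip.paste_horiz (IsPullback.of_hasPullback f s).flip).flip (M j)
  obtain ⟨g, hg⟩ := hs (EtLimit.hmap ((EtCoh.pull i).map u) 1 y)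
  rw [← hg, ← CohCrit13.Hpull_hmap, @Subsingleton.elim _ (subsingleton_H_injKilled hℓ hI 0) (EtLimit.hmap b' 1 g) 0,
    map_zero]

theorem injKilled_of_injective {ℓ : ℕ} (I : EtCoh.Ab X) (hI : EtCoh.KilledBy ℓ I)
    (hinj : Injective (ObjectProperty.FullSubcategory.mk (P := fun F : EtCoh.Ab X => EtCoh.KilledBy ℓ F) I hI)) :
    BCCrit13.InjKilled ℓ I := by
  refine ⟨hI, fun G hG a G' m hG' hm => ?_⟩
  let P : ObjectProperty (EtCoh.Ab X) := fun F => EtCoh.KilledBy ℓ F
  let m' : (⟨G, hG⟩ : P.FullSubcategory) ⟶ ⟨G', hG'⟩ := ObjectProperty.homMk m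
  haveI : Mono m' := ⟨fun p q h => P.hom_ext ((cancel_mono m).1 (congrArg (fun t => t.hom) h))⟩
  let a' : (⟨G, hG⟩ : P.FullSubcategory) ⟶ ⟨I, hI⟩ := ObjectProperty.homMk a
  exact ⟨(Injective.factorThru a' m').hom, congrArg (fun t => t.hom) (Injective.comp_factorThru a' m')⟩

/-- The projective line over a henselian local ring. -/
theorem subsingleton_H_projLine (A : Type u) [CommRing A] [HenselianLocalRing A] {ℓ : ℕ} (hℓ : 0 < ℓ)
    (I : EtCoh.Ab (CohB1.ProjSpace 1 A)) (hI : BCCrit13.InjKilled ℓ I) (q : ℕ) (hq : 1 ≤ q) :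
    Subsingleton (EtCoh.H (pullback (CohB1.ProjSpace.toSpec 1 A) (Spec.map (CommRingCat.ofHom (IsLocalRing.residue A))))
      ((EtCoh.pull (pullback.fst (CohB1.ProjSpace.toSpec 1 A)
        (Spec.map (CommRingCat.ofHom (IsLocalRing.residue A))))).obj I) q) := by
  haveI : IsProper (CohB1.ProjSpace.toSpec 1 A) := PnCoh.Chow.isProper_toSpec 1 A
  let f := CohB1.ProjSpace.toSpec 1 A
  let s := Spec.map (CommRingCat.ofHom (IsLocalRing.residue A))
  haveI : IsClosedImmersion s := IsClosedImmersion.spec_of_surjective _ IsLocalRing.residue_surjective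
  haveI : IsClosedImmersion (pullback.fst f s) := MorphismProperty.pullback_fst _ _ ‹IsClosedImmersion s›
  rcases Nat.lt_or_ge q 2 with h | h
  · obtain rfl : q = 1 := by omega
    exact subsingleton_H_one A f hℓ hI
  · obtain ⟨m, rfl⟩ := Nat.exists_eq_add_of_le' h
    let G := CohB1.polyGrading 1 A
    let T : Fin (1 + 1) → MvPolynomial (Fin (1 + 1)) A := MvPolynomial.X
    have hT : ∀ j, T j ∈ G 1 := fun j => MvPolynomial.isHomogeneous_X _ _
    have hc : ⨆ j, Proj.basicOpen G (T j) = ⊤ := by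
      refine Proj.iSup_basicOpen_eq_top' _ _ (fun j => ⟨1, hT j⟩) ?_
      refine top_le_iff.1 fun p _ => ?_
      induction p using MvPolynomial.induction_on with
      | C r => exact Subalgebra.algebraMap_mem _ (⟨MvPolynomial.C r, MvPolynomial.isHomogeneous_C _ _⟩ : G 0)
      | add a b ha hb => exact add_mem (ha trivial) (hb trivial)
      | mul_X a j ha => exact mul_mem (ha trivial) (Algebra.subset_adjoin ⟨j, rfl⟩)
    refine subsingleton_H_two (pullback.fst f s) hℓ hI (Proj.basicOpen G (T 0)) (Proj.basicOpen G (T 1))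
      (Proj.isAffineOpen_basicOpen G (T 0) (hT 0) one_pos) (Proj.isAffineOpen_basicOpen G (T 1) (hT 1) one_pos) ?_ ?_ m
    · rw [← Proj.basicOpen_mul]
      exact Proj.isAffineOpen_basicOpen G _ (SetLike.mul_mem_graded (hT 0) (hT 1)) two_pos
    · refine eq_top_iff.2 (hc.ge.trans (iSup_le fun j => ?_))
      fin_cases j
      · exact le_sup_left
      · exact le_sup_right

end Groth.Agent.GabberAff13
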