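import Groth.Agent.GabberAff13.HensComp
import Groth.Agent.GabberAff13.FieldExt
import Groth.Agent.GabberAff13.ProjLine
import Groth.Agent.BCCrit13.Compose
import Groth.Agent.S0642
import Groth.Agent.MorLib.RingUnivHomeo

/-!
# Proper base change for morphisms covered by two affines over affine bases
-/

set_option autoImplicit false
set_option linter.style.haveILetI false
set_option backward.isDefEq.respectTransparency false
set_option backward.isDefEq.respectTransparency.types false
set_option maxHeartbeats 1000000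

universe u

open CategoryTheory CategoryTheory.Limits AlgebraicGeometry Opposite

namespace Groth.Agent.GabberAff13

open Groth.Agent.EtFound Groth.Agent.BCCrit13

/-- Two affine opens with affine intersection. -/
def TwoCover (X : Scheme.{u}) : Prop :=
  ∃ U V : X.Opens, IsAffineOpen U ∧ IsAffineOpen V ∧ IsAffineOpen (U ⊓ V) ∧ U ⊔ V = ⊤

/-- Two affine opens over every affine base. -/
def RelTwo {X Y : Scheme.{u}} (f : X ⟶ Y) : Prop :=
  ∀ (T : Scheme.{u}) [IsAffine T] (a : T ⟶ Y) (U : Scheme.{u}) (p : U ⟶ X) (v : U ⟶ T),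
    IsPullback p v f a → TwoCover U

theorem RelTwo.base {X Y T U : Scheme.{u}} {f : X ⟶ Y} (h : RelTwo f) {a : T ⟶ Y} {p : U ⟶ X} {v : U ⟶ T}
    (sq : IsPullback p v f a) : RelTwo v := fun T' _ b U' p' v' sq' =>
  h T' (b ≫ a) U' (p' ≫ p) v' (sq'.paste_horiz sq)

variable {X Y : Scheme.{u}}

/-- Restriction to the closed fibre over henselian local rings mapping to the base is bijective. -/
def HensBij (f : X ⟶ Y) : Prop :=
  ∀ (R : Type u) [CommRing R] [HenselianLocalRing R] (a : Spec (CommRingCat.of R) ⟶ Y)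
    [PreservesFiniteLimits (EtCoh.pull (pullback.fst (pullback.snd f a) (Spec.map (CommRingCat.ofHom (IsLocalRing.residue R)))))]
    (F : EtCoh.Ab (pullback f a)), EtCoh.IsTorsion F → ∀ q : ℕ,
    Function.Bijective
      (EtCore.Hpull (pullback.fst (pullback.snd f a) (Spec.map (CommRingCat.ofHom (IsLocalRing.residue R)))) F q)

/-- The comparison for such schemes over henselian local rings. -/
theorem bijective_closedFibre (A : Type u) [CommRing A] [HenselianLocalRing A]
    (f : X ⟶ Spec (CommRingCat.of A)) [IsProper f] (h2 : TwoCover X)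
    [PreservesFiniteLimits (EtCoh.pull (pullback.fst f (Spec.map (CommRingCat.ofHom (IsLocalRing.residue A)))))]
    (F : EtCoh.Ab X) (hF : EtCoh.IsTorsion F) (q : ℕ) :
    Function.Bijective
      (EtCore.Hpull (pullback.fst f (Spec.map (CommRingCat.ofHom (IsLocalRing.residue A)))) F q) := by
  let s := Spec.map (CommRingCat.ofHom (IsLocalRing.residue A))
  haveI : IsClosedImmersion s := IsClosedImmersion.spec_of_surjective _ IsLocalRing.residue_surjective
  let i := pullback.fst f s
  haveI : IsClosedImmersion i := MorphismProperty.pullback_fst _ _ ‹IsClosedImmersion s›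
  haveI : HenselianRing A (IsLocalRing.maximalIdeal A) := inferInstance
  haveI : CompactSpace X := QuasiCompact.compactSpace_of_compactSpace f
  haveI : QuasiSeparatedSpace X := quasiSeparatedSpace_of_quasiSeparated f
  have hrange : Set.range i = f ⁻¹' PrimeSpectrum.zeroLocus (IsLocalRing.maximalIdeal A : Set A) :=
    HensCouple7.range_fst_mk (IsLocalRing.maximalIdeal A) f
  obtain ⟨U, V, hU, hV, hUV, hc⟩ := h2
  refine bijective_Hpull_of_vanish i
    (bijective_Hpull_zero i fun F => ProperH0.bijective_unit (IsLocalRing.maximalIdeal A) f i hrange F)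
    (fun ℓ hl I hI q => ?_) F hF q
  cases q with
  | zero => exact subsingleton_H_one A f hl.pos hI
  | succ q => exact subsingleton_H_two i hl.pos hI U V hU hV hUV hc q

theorem hensBij_of_relTwo {f : X ⟶ Y} [IsProper f] (h2 : RelTwo f) : HensBij f := fun R _ _ a _ F hF q => by
  haveI : IsProper (pullback.snd f a) := MorphismProperty.pullback_snd _ _ ‹IsProper f›
  exact bijective_closedFibre R (pullback.snd f a) (h2 _ a _ _ _ (IsPullback.of_hasPullback f a)) F hF q

/-- Vanishing of a pullback over a base. -/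
abbrev Van (f : X ⟶ Y) (I : EtCoh.Ab X) (q : ℕ) {T : Scheme.{u}} (a : T ⟶ Y) : Prop :=
  Subsingleton (EtCoh.H (pullback f a) ((EtCoh.pull (pullback.fst f a)).obj I) q)

theorem sub_pull_comp_iff {T T' : Scheme.{u}} (u₁ : T ⟶ T') (u₂ : T' ⟶ X) (w : T ⟶ X) (e : u₁ ≫ u₂ = w)
    (I : EtCoh.Ab X) (q : ℕ) :
    Subsingleton (EtCoh.H T ((EtCoh.pull u₁).obj ((EtCoh.pull u₂).obj I)) q) ↔
      Subsingleton (EtCoh.H T ((EtCoh.pull w).obj I) q) := by
  have hb := CohCrit13.hmap_bijective_of_isIso ((EtFound.θPull u₁ u₂ w e).hom.app I) q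
  exact ⟨fun h => @Function.Surjective.subsingleton _ _ _ h hb.2, fun h => @Function.Injective.subsingleton _ _ _ hb.1 h⟩

theorem van_iff {T U : Scheme.{u}} {f : X ⟶ Y} {a : T ⟶ Y} {p : U ⟶ X} {v : U ⟶ T} (sq : IsPullback p v f a)
    (I : EtCoh.Ab X) (q : ℕ) : Subsingleton (EtCoh.H U ((EtCoh.pull p).obj I) q) ↔ Van f I q a :=
  ⟨fun h => subsingleton_of_iso sq.isoPullback.inv p _ sq.isoPullback_inv_fst I q h,
    fun h => subsingleton_of_iso sq.isoPullback.hom _ p sq.isoPullback_hom_fst I q h⟩

/-- Over strictly henselian rings it suffices to treat the closed fibre. -/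
theorem van_iff_closedFibre {f : X ⟶ Y} [IsProper f] (h2 : HensBij f) {ℓ : ℕ} (hl : 0 < ℓ) (I : EtCoh.Ab X)
    (hI : EtCoh.KilledBy ℓ I) (q : ℕ) (R : Type u) [CommRing R] [HenselianLocalRing R]
    (a : Spec (CommRingCat.of R) ⟶ Y) :
    Van f I q a ↔ Van f I q (Spec.map (CommRingCat.ofHom (IsLocalRing.residue R)) ≫ a) := by
  let s := Spec.map (CommRingCat.ofHom (IsLocalRing.residue R))
  let f' := pullback.snd f a
  haveI : IsProper f' := MorphismProperty.pullback_snd _ _ ‹IsProper f›
  let J := (EtCoh.pull (pullback.fst f a)).obj I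
  haveI := BCCrit13.pull_additive (pullback.fst f a)
  haveI : PreservesFiniteLimits (EtCoh.pull (pullback.fst f' s)) := EtFound.pull_preservesFiniteLimits _
  have hb := h2 R a J
    (EtTrace.isTorsion_of_nsmul_id hl ((killedBy_iff_nsmul _ _).1 (killedBy_map _ hI))) q
  have h1 : Subsingleton (EtCoh.H (pullback f' s) ((EtCoh.pull (pullback.fst f' s)).obj J) q) ↔ Van f I q (s ≫ a) :=
    (sub_pull_comp_iff _ _ _ rfl I q).trans
      (van_iff ((IsPullback.of_hasPullback f' s).paste_horiz (IsPullback.of_hasPullback f a)) I q)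
  exact ⟨fun h => h1.1 (@Function.Surjective.subsingleton _ _ _ h hb.2), fun h => @Function.Injective.subsingleton _ _ _ hb.1 (h1.2 h)⟩

/-- Universal homeomorphisms do not matter. -/
theorem van_of_radicial {f : X ⟶ Y} (I : EtCoh.Ab X) (q : ℕ) {k K : Type u} [Field k] [IsSepClosed k] [Field K]
    (ρ : k →+* K) (hρ : ρ.IsIntegral) (a : Spec (CommRingCat.of k) ⟶ Y) (h : Van f I q a) :
    Van f I q (Spec.map (CommRingCat.ofHom ρ) ≫ a) := by
  letI : Algebra k K := ρ.toAlgebra
  haveI : Algebra.IsIntegral k K := ⟨hρ⟩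
  haveI : Algebra.IsAlgebraic k K := Algebra.IsIntegral.isAlgebraic
  haveI : IsPurelyInseparable k K := inferInstance
  let s := Spec.map (CommRingCat.ofHom ρ)
  haveI : IsIntegralHom s := IsIntegralHom.SpecMap_iff.2 hρ
  haveI : UniversallyInjective s := (MorLib.RUH.universallyInjective_SpecMap_iff ρ).2 fun L _ g g' e =>
    IsPurelyInseparable.injective_comp_algebraMap k K L e
  haveI : Surjective s := ⟨hρ.comap_surjective ρ.injective⟩
  let f' := pullback.snd f a
  let i := pullback.fst f' s
  haveI : IsIntegralHom i := MorphismProperty.pullback_fst _ _ ‹IsIntegralHom s›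
  haveI : UniversallyInjective i := MorphismProperty.pullback_fst (P := @UniversallyInjective) _ _ inferInstance
  haveI : Surjective i := MorphismProperty.pullback_fst (P := @Surjective) _ _ inferInstance
  haveI : PreservesFiniteLimits (EtCoh.pull i) := EtFound.pull_preservesFiniteLimits _
  refine (van_iff ((IsPullback.of_hasPullback f' s).paste_horiz (IsPullback.of_hasPullback f a)) I q).1
    ((sub_pull_comp_iff i (pullback.fst f a) _ rfl I q).1 ?_)
  exact (S0642.result i ((EtCoh.pull (pullback.fst f a)).obj I) q).2.subsingleton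

/-- Vanishing at every geometric point. -/
theorem van_point {f : X ⟶ Y} [IsProper f] (h2 : HensBij f) {ℓ : ℕ} (hl : 0 < ℓ) (I : EtCoh.Ab X)
    (hI : InjKilled ℓ I) (q : ℕ) (K : Type u) [Field K] [IsSepClosed K] (c : Spec (CommRingCat.of K) ⟶ Y) :
    Van f I (q + 1) c := by
  let y := c.base (default : Spec (CommRingCat.of K))
  obtain ⟨R, _, _, _, _, hR⟩ := S0537.result (Y.presheaf.stalk y)
  haveI := hR
  haveI : IsSepClosed (IsLocalRing.ResidueField R) :=
    (Hensel.IsStrictHenselization.isSepClosure (R := Y.presheaf.stalk y) (S := R)).sep_closed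
  haveI : HenselianLocalRing R := Hensel.IsStrictHenselization.henselian (Y.presheaf.stalk y)
  obtain ⟨τ, hτ⟩ := UnitStalk.exists_resPt c rfl R
  -- the strict localization
  have h1 : Van f I (q + 1) (Hens2.specOf Y y R) := by
    obtain ⟨e⟩ := S6186.result f y R (q + 1)
    have hz := AddCommGrpCat.subsingleton_of_isZero
      ((EtCoh.stalk (Hens2.geomPt Y y R)).map_isZero (isRightAcyclic_of_injKilled f hl hI (q + 1) q.succ_pos))
    exact @Equiv.subsingleton _ _ (e.app I).addCommGroupIsoToAddEquiv.symm.toEquiv hz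
  let s := Spec.map (CommRingCat.ofHom (IsLocalRing.residue R))
  let a₀ := s ≫ Hens2.specOf Y y R
  have h0 : Van f I (q + 1) a₀ := (van_iff_closedFibre h2 hl I hI.1 (q + 1) R _).1 h1
  -- the field extension
  let k₀ := IsLocalRing.ResidueField R
  let f₀ := pullback.snd f a₀
  haveI : IsProper f₀ := MorphismProperty.pullback_snd _ _ ‹IsProper f›
  let G := (EtCoh.pull (pullback.fst f a₀)).obj I
  letI : Algebra k₀ K := τ.toAlgebra
  have main := subsingleton_field_ext f₀ G (q + 1) (fun R' _ _ _ φ hφ => by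
    let b := Spec.map (CommRingCat.ofHom φ)
    refine (sub_pull_comp_iff _ (pullback.fst f a₀) _ rfl I _).2 ?_
    refine (van_iff ((IsPullback.of_hasPullback b f₀).flip.paste_horiz (IsPullback.of_hasPullback f a₀)) I _).2 ?_
    refine (van_iff_closedFibre h2 hl I hI.1 _ R' _).2 ?_
    rw [← Category.assoc, ← Spec.map_comp, ← CommRingCat.ofHom_comp]
    exact van_of_radicial I _ _ hφ a₀ h0) K
  have h3 := (van_iff ((IsPullback.of_hasPullback (Spec.map (CommRingCat.ofHom (algebraMap k₀ K))) f₀).flip.paste_horiz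
    (IsPullback.of_hasPullback f a₀)) I _).1 ((sub_pull_comp_iff _ (pullback.fst f a₀) _ rfl I _).1 main)
  have e : Spec.map (CommRingCat.ofHom τ) ≫ a₀ = c := by
    rw [← hτ]
    simp [a₀, s, EtBC.resPt, CommRingCat.ofHom_comp, Spec.map_comp]
    rfl
  exact e ▸ h3

/-- Cohomology commutes with base change. -/
theorem cohCommutes_of_hensBij {f : X ⟶ Y} [IsProper f] (h2 : HensBij f) : EtPBC.CohCommutesWithBC f := by
  refine (cohCommutes_iff f).2 fun X' Y' f' g' g hpb ℓ hℓ I hI n hn => ?_
  obtain ⟨q, rfl⟩ := Nat.exists_eq_succ_of_ne_zero hn.ne'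
  haveI : IsProper f' := MorphismProperty.of_isPullback hpb ‹IsProper f›
  refine isZero_of_geomPt _ fun y R _ _ _ _ _ _ => ?_
  haveI : HenselianLocalRing R := Hensel.IsStrictHenselization.henselian (Y'.presheaf.stalk y)
  obtain ⟨e⟩ := S6186.result f' y R (q + 1)
  let a := Hens2.specOf Y' y R
  have hv : Subsingleton (EtCoh.H (pullback f' a) ((EtCoh.pull (pullback.fst f' a)).obj ((EtCoh.pull g').obj I)) (q + 1)) := by
    refine (sub_pull_comp_iff _ g' _ rfl I _).2 ?_
    refine (van_iff ((IsPullback.of_hasPullback f' a).paste_horiz hpb) I _).2 ?_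
    refine (van_iff_closedFibre h2 hℓ.pos I hI.1 _ R _).2 ?_
    exact van_point h2 hℓ.pos I hI q _ _
  refine @AddCommGrpCat.isZero_of_subsingleton _ ?_
  exact @Equiv.subsingleton _ _ (e.app ((EtCoh.pull g').obj I)).addCommGroupIsoToAddEquiv.toEquiv hv

/-- Morphisms covered by two affines over affine bases. -/
theorem cohCommutes_of_relTwo {f : X ⟶ Y} [IsProper f] (h2 : RelTwo f) : EtPBC.CohCommutesWithBC f :=
  cohCommutes_of_hensBij (hensBij_of_relTwo h2)

end Groth.Agent.GabberAff13
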