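import Groth.Agent.GabberAff13.ChowTower
import Groth.Agent.GabberAff13.PBC

/-!
# Proper base change for the cohomology of torsion sheaves
-/

set_option autoImplicit false
set_option linter.style.haveILetI false
set_option backward.isDefEq.respectTransparency false
set_option backward.isDefEq.respectTransparency.types false
set_option maxHeartbeats 1000000

universe u

open CategoryTheory CategoryTheory.Limits AlgebraicGeometry Opposite

namespace Groth.Agent.GabberAff13

open Groth.Agent.EtFound Groth.Agent.BCCrit13 CohB1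

/-- Projective lines are covered by two affines over affine bases. -/
theorem relTwo_lineMap : RelTwo lineMap.{u} := by
  intro T _ a U p v sq
  let Z := ULift.{u} ℤ
  let G := polyGrading 1 Z
  let T' : Fin (1 + 1) → MvPolynomial (Fin (1 + 1)) Z := MvPolynomial.X
  have hT : ∀ j, T' j ∈ G 1 := fun j => MvPolynomial.isHomogeneous_X _ _
  haveI : IsAffineHom p := MorphismProperty.of_isPullback sq.flip (inferInstanceAs (IsAffineHom a))
  have hc : Proj.basicOpen G (T' 0) ⊔ Proj.basicOpen G (T' 1) = ⊤ := by
    have h : ⨆ j, Proj.basicOpen G (T' j) = ⊤ := by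
      refine Proj.iSup_basicOpen_eq_top' _ _ (fun j => ⟨1, hT j⟩) ?_
      refine top_le_iff.1 fun f _ => ?_
      induction f using MvPolynomial.induction_on with
      | C r => exact Subalgebra.algebraMap_mem _ (⟨MvPolynomial.C r, MvPolynomial.isHomogeneous_C _ _⟩ : G 0)
      | add a b ha hb => exact add_mem (ha trivial) (hb trivial)
      | mul_X a j ha => exact mul_mem (ha trivial) (Algebra.subset_adjoin ⟨j, rfl⟩)
    refine eq_top_iff.2 (h.ge.trans (iSup_le fun j => ?_))
    fin_cases j
    · exact le_sup_left
    · exact le_sup_right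
  refine ⟨p ⁻¹ᵁ Proj.basicOpen G (T' 0), p ⁻¹ᵁ Proj.basicOpen G (T' 1),
    (Proj.isAffineOpen_basicOpen G (T' 0) (hT 0) one_pos).preimage p,
    (Proj.isAffineOpen_basicOpen G (T' 1) (hT 1) one_pos).preimage p, ?_, ?_⟩
  · have h : IsAffineOpen (Proj.basicOpen G (T' 0) ⊓ Proj.basicOpen G (T' 1)) := by
      rw [← Proj.basicOpen_mul]
      exact Proj.isAffineOpen_basicOpen G _ (SetLike.mul_mem_graded (hT 0) (hT 1)) two_pos
    exact h.preimage p
  · ext x
    have hx : p x ∈ Proj.basicOpen G (T' 0) ⊔ Proj.basicOpen G (T' 1) := hc.symm ▸ trivial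
    exact ⟨fun _ => trivial, fun _ => hx⟩

theorem ucomm_lineMap : UComm lineMap.{u} := by
  haveI : IsProper lineMap.{u} := PnCoh.Chow.isProper_toSpec 1 _
  refine ⟨inferInstance, fun T U a p v sq => ?_⟩
  haveI : IsProper v := MorphismProperty.of_isPullback sq ‹IsProper lineMap.{u}›
  exact cohCommutes_of_relTwo (relTwo_lineMap.base sq)

variable {X Y : Scheme.{u}}

/-- Acyclicity on fibres over closed subschemes of affine bases. -/
theorem subsingleton_H_closed_fibre {S S₀ : Scheme.{u}} [IsAffine S] (f : X ⟶ S) [IsProper f] (s : S₀ ⟶ S)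
    [IsClosedImmersion s] {ℓ : ℕ} (hl : ℓ.Prime) {I : EtCoh.Ab X} (hI : InjKilled ℓ I) (q : ℕ) :
    Subsingleton (EtCoh.H (pullback f s) ((EtCoh.pull (pullback.fst f s)).obj I) (q + 1)) := by
  let f₀ := pullback.snd f s
  let i := pullback.fst f s
  have hsq : IsPullback i f₀ f s := IsPullback.of_hasPullback f s
  haveI : IsProper f₀ := MorphismProperty.of_isPullback hsq ‹IsProper f›
  have hgood := goodSquare_of_cohCommutes (cohCommutes_of_affine_base ucomm_lineMap f) hsq ℓ hl I hI
  haveI : PreservesFiniteLimits (EtCoh.pull f₀) := EtFound.pull_preservesFiniteLimits _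
  have hb := BigSiteLib.hofPush_bijective f₀ ((EtCoh.pull i).obj I) hgood (q + 1)
  have hS := subsingleton_H_pull_injKilled s hl.pos (injKilled_push f hI) q
  haveI := ProperBC13.isIso_baseChange0 f s f₀ i hsq I
  have hc := CohCrit13.hmap_bijective_of_isIso (EtCoh.baseChange0 f s f₀ i hsq.w I) (q + 1)
  haveI := hS
  haveI : Subsingleton (EtCoh.H S₀ ((EtCoh.push f₀).obj ((EtCoh.pull i).obj I)) (q + 1)) := hc.2.subsingleton
  exact hb.2.subsingleton

/-- Proper schemes over henselian local rings: restriction to the closed fibre. -/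
theorem bijective_Hpull_closedFibre (A : Type u) [CommRing A] [HenselianLocalRing A] {X : Scheme.{u}}
    (f : X ⟶ Spec (CommRingCat.of A)) [IsProper f]
    [PreservesFiniteLimits (EtCoh.pull (pullback.fst f (Spec.map (CommRingCat.ofHom (IsLocalRing.residue A)))))]
    (F : EtCoh.Ab X) (hF : EtCoh.IsTorsion F) (q : ℕ) :
    Function.Bijective
      (EtCore.Hpull (pullback.fst f (Spec.map (CommRingCat.ofHom (IsLocalRing.residue A)))) F q) := by
  let s := Spec.map (CommRingCat.ofHom (IsLocalRing.residue A))
  haveI : IsClosedImmersion s := IsClosedImmersion.spec_of_surjective _ IsLocalRing.residue_surjective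
  let i := pullback.fst f s
  haveI : IsClosedImmersion i := MorphismProperty.pullback_fst _ _ ‹IsClosedImmersion s›
  haveI : HenselianRing A (IsLocalRing.maximalIdeal A) := inferInstance
  haveI : CompactSpace X := QuasiCompact.compactSpace_of_compactSpace f
  haveI : QuasiSeparatedSpace X := quasiSeparatedSpace_of_quasiSeparated f
  have hrange : Set.range i = f ⁻¹' PrimeSpectrum.zeroLocus (IsLocalRing.maximalIdeal A : Set A) :=
    HensCouple7.range_fst_mk (IsLocalRing.maximalIdeal A) f
  exact bijective_Hpull_of_vanish i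
    (bijective_Hpull_zero i fun F => ProperH0.bijective_unit (IsLocalRing.maximalIdeal A) f i hrange F)
    (fun ℓ hl I hI q => subsingleton_H_closed_fibre f s hl hI q) F hF q

/-- Proper schemes over henselian local rings. -/
theorem hensBij (f : X ⟶ Y) [IsProper f] : HensBij f := fun R _ _ a _ F hF q => by
  haveI : IsProper (pullback.snd f a) := MorphismProperty.pullback_snd _ _ ‹IsProper f›
  exact bijective_Hpull_closedFibre R (pullback.snd f a) F hF q

/-- Proper base change for torsion sheaves. -/
theorem cohCommutes_of_isProper (f : X ⟶ Y) [IsProper f] : EtPBC.CohCommutesWithBC f :=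
  cohCommutes_of_hensBij (hensBij f)

end Groth.Agent.GabberAff13
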