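import Groth.Agent.GabberAff13.FieldBij
import Groth.Agent.HenselConn.SpecLoc

/-!
# Stalks of higher direct images of proper morphisms
-/

set_option autoImplicit false
set_option linter.style.haveILetI false
set_option backward.isDefEq.respectTransparency false
set_option backward.isDefEq.respectTransparency.types false
set_option maxHeartbeats 1000000

universe u

open CategoryTheory CategoryTheory.Limits AlgebraicGeometry Opposite

namespace Groth.Agent.GabberAff13

open Groth.Agent.EtFound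

variable {Ω : Type u} [Field Ω] [IsSepClosed Ω]

/-- Over a separably closed field. -/
theorem nonempty_stalk_Rpush_point {X : Scheme.{u}} (f : X ⟶ Spec (CommRingCat.of Ω)) [QuasiCompact f] [QuasiSeparated f]
    (G : EtCoh.Ab X) (n : ℕ) :
    Nonempty ((EtCoh.stalk (𝟙 (Spec (CommRingCat.of Ω)))).obj ((EtCoh.Rpush f n).obj G) ≅
      AddCommGrpCat.of (EtCoh.H X G n)) := by
  let Z := Spec (CommRingCat.of Ω)
  let y : Z := IsLocalRing.closedPoint Ω
  obtain ⟨γ, α, hα, -, -, hspec⟩ := HenselConn.exists_stalk_equiv Ω y rfl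
  letI : Algebra (Z.presheaf.stalk y) Ω := α.toAlgebra
  haveI : IsLocalHom (algebraMap (Z.presheaf.stalk y) Ω) := ⟨fun a ha => (isUnit_map_iff (RingEquiv.ofBijective α hα) a).1 ha⟩
  haveI : IsSepClosed (IsLocalRing.ResidueField Ω) :=
    Hensel.isSepClosed_of_ringEquiv
      (RingEquiv.ofBijective (IsLocalRing.residue Ω) ⟨RingHom.injective _, IsLocalRing.residue_surjective⟩)
  haveI : Hensel.IsStrictHenselization (Z.presheaf.stalk y) Ω :=
    HenselConn.isStrictHenselization_of_bijective _ _ hα inferInstance inferInstance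
  obtain ⟨e⟩ := S6186.result f y Ω n
  let r := Spec.map (CommRingCat.ofHom (IsLocalRing.residue Ω))
  have hs : Hens2.specOf Z y Ω = 𝟙 Z := hspec
  haveI : IsIso (Hens2.specOf Z y Ω) := by rw [hs]; infer_instance
  let w := pullback.fst f (Hens2.specOf Z y Ω)
  haveI : PreservesFiniteLimits (EtCoh.pull w) := EtFound.pull_preservesFiniteLimits _
  let eH : EtCoh.H X G n ≃+ EtCoh.H (pullback f (Hens2.specOf Z y Ω)) ((EtCoh.pull w).obj G) n :=
    AddEquiv.ofBijective (EtCore.Hpull w G n) (EtFound.Hpull_bijective_of_isIso w G n)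
  have hr : Hens2.geomPt Z y Ω = r ≫ 𝟙 Z := congrArg (r ≫ ·) hs
  exact ⟨(stalkExtIso AddCommGrpCat.{u + 1} (𝟙 Z) r).app _ ≪≫
    (eqToIso (congrArg EtCoh.stalk hr.symm)).app _ ≪≫ e.app G ≪≫ eH.symm.toAddCommGrpIso⟩

/-- Stalks of higher direct images at geometric points. -/
theorem nonempty_stalk_Rpush_geometric {X Y : Scheme.{u}} (f : X ⟶ Y) [IsProper f]
    (ξ : Spec (CommRingCat.of Ω) ⟶ Y) (F : EtCoh.Ab X) (hF : EtCoh.IsTorsion F) (n : ℕ) :
    Nonempty ((EtCoh.stalk ξ).obj ((EtCoh.Rpush f n).obj F) ≅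
      AddCommGrpCat.of (EtCoh.H (pullback f ξ) ((EtCoh.pull (pullback.fst f ξ)).obj F) n)) := by
  haveI : IsProper (pullback.snd f ξ) := MorphismProperty.pullback_snd _ _ ‹IsProper f›
  obtain ⟨e⟩ := cohCommutes_of_isProper f (pullback.snd f ξ) (pullback.fst f ξ) ξ (IsPullback.of_hasPullback f ξ) F hF n
  obtain ⟨e'⟩ := nonempty_stalk_Rpush_point (pullback.snd f ξ) ((EtCoh.pull (pullback.fst f ξ)).obj F) n
  exact ⟨(eqToIso (congrArg EtCoh.stalk (Category.id_comp ξ).symm)).app _ ≪≫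
    ((stalkPullIso ξ (𝟙 _)).app _).symm ≪≫ (EtCoh.stalk (𝟙 _)).mapIso e ≪≫ e'⟩

end Groth.Agent.GabberAff13
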