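import Groth.Agent.BCCrit13.BC
import Groth.Agent.SiteBase.DerivedComp

/-!
# Derived functors on a reflective subcategory
-/

set_option autoImplicit false
set_option linter.style.haveILetI false
set_option backward.isDefEq.respectTransparency false
set_option backward.isDefEq.respectTransparency.types false

universe u₁ u₂ u₃ u₄ v₁ v₂ v₃ v₄

open CategoryTheory CategoryTheory.Limits

namespace Groth.Agent.GabberAff13

open Groth.Agent.TriCat

section comp

variable {A : Type u₁} [Category.{v₁} A] [Abelian A] [EnoughInjectives A]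
  {B : Type u₂} [Category.{v₂} B] [Abelian B] [EnoughInjectives B]
  {D : Type u₃} [Category.{v₃} D] [Abelian D]
  (E : A ⥤ B) [E.Additive] [PreservesFiniteLimits E] [E.PreservesInjectiveObjects]
  (G : B ⥤ D) [G.Additive] [PreservesFiniteLimits G]

/-- Derived functors of a composite at an acyclic object. -/
theorem nonempty_rightDerived_comp_of_acyclic (q : ℕ) : ∀ F : A, IsRightAcyclic E F →
    Nonempty ((G.rightDerived q).obj (E.obj F) ≅ ((E ⋙ G).rightDerived q).obj F) := by
  let := HasDerivedCategory.standard A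
  let := HasDerivedCategory.standard B
  let := HasDerivedCategory.standard D
  haveI : PreservesFiniteLimits (E ⋙ G) := comp_preservesFiniteLimits E G
  induction q with
  | zero => exact fun F _ => ⟨G.rightDerivedZeroIsoSelf.app (E.obj F) ≪≫ ((E ⋙ G).rightDerivedZeroIsoSelf.app F).symm⟩
  | succ q ih =>
    intro F hF
    let S := (Classical.arbitrary (InjectivePresentation F)).shortComplex
    have hS : S.ShortExact := InjectivePresentation.shortExact_shortComplex _
    haveI : Injective S.X₂ := (Classical.arbitrary (InjectivePresentation F)).injective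
    haveI : Injective (E.obj S.X₂) := E.injective_obj _
    have hSE : (S.map E).ShortExact := EtFound.map_shortExact_of_isZero E hS (hF 1 one_pos)
    have hQ : IsRightAcyclic E S.X₃ := acyclic₃ hS hF (isRightAcyclic_of_injective S.X₂)
    obtain ⟨δ₁, a₁, b₁, c₁, -, e₁, f₁⟩ := exists_rightDerived_ses G hSE q
    obtain ⟨δ₂, a₂, b₂, c₂, -, e₂, f₂⟩ := exists_rightDerived_ses (E ⋙ G) hS q
    haveI : Epi δ₁ := f₁.epi_f ((G.isZero_rightDerived_obj_injective_succ q (E.obj S.X₂)).eq_of_tgt _ _)
    haveI : Epi δ₂ := f₂.epi_f (((E ⋙ G).isZero_rightDerived_obj_injective_succ q S.X₂).eq_of_tgt _ _)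
    cases q with
    | zero =>
      let u : G.rightDerived 0 ≅ G := G.rightDerivedZeroIsoSelf
      let v : (E ⋙ G).rightDerived 0 ≅ E ⋙ G := (E ⋙ G).rightDerivedZeroIsoSelf
      let w₂ : (G.rightDerived 0).obj (E.obj S.X₂) ≅ ((E ⋙ G).rightDerived 0).obj S.X₂ :=
        u.app _ ≪≫ (v.app _).symm
      let w₃ : (G.rightDerived 0).obj (E.obj S.X₃) ≅ ((E ⋙ G).rightDerived 0).obj S.X₃ :=
        u.app _ ≪≫ (v.app _).symm
      have hw : (G.rightDerived 0).map (S.map E).g ≫ w₃.hom = w₂.hom ≫ ((E ⋙ G).rightDerived 0).map S.g := by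
        simp only [w₂, w₃, Iso.trans_hom, Iso.app_hom, Iso.symm_hom, Iso.app_inv, Category.assoc]
        have h1 : (G.rightDerived 0).map (S.map E).g ≫ u.hom.app (E.obj S.X₃) =
            u.hom.app (E.obj S.X₂) ≫ G.map (E.map S.g) := u.hom.naturality (E.map S.g)
        refine (Category.assoc _ _ _).symm.trans ((congrArg (· ≫ v.inv.app S.X₃) h1).trans ((Category.assoc _ _ _).trans ?_))
        exact congrArg (_ ≫ ·) (v.inv.naturality S.g)
      exact ⟨IsColimit.coconePointUniqueUpToIso e₁.gIsCokernel (cokernelIsCokernel _) ≪≫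
        cokernel.mapIso _ _ w₂ w₃ hw ≪≫
        IsColimit.coconePointUniqueUpToIso (cokernelIsCokernel _) e₂.gIsCokernel⟩
    | succ p =>
      haveI : Mono δ₁ := e₁.mono_g ((G.isZero_rightDerived_obj_injective_succ p (E.obj S.X₂)).eq_of_src _ _)
      haveI : Mono δ₂ := e₂.mono_g (((E ⋙ G).isZero_rightDerived_obj_injective_succ p S.X₂).eq_of_src _ _)
      haveI : IsIso δ₁ := isIso_of_mono_of_epi δ₁
      haveI : IsIso δ₂ := isIso_of_mono_of_epi δ₂
      exact ⟨(asIso δ₁).symm ≪≫ (ih S.X₃ hQ).some ≪≫ asIso δ₂⟩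

end comp

variable {A : Type u₁} [Category.{v₁} A] [Abelian A] [EnoughInjectives A]
  {A' : Type u₂} [Category.{v₂} A'] [Abelian A'] [EnoughInjectives A']
  {B : Type u₃} [Category.{v₃} B] [Abelian B]
  {B' : Type u₄} [Category.{v₄} B'] [Abelian B']
  (P : A ⥤ B) [P.Additive] (ε : A ⥤ A') [ε.Additive] [PreservesFiniteLimits ε] [ε.PreservesInjectiveObjects]
  (P' : A' ⥤ B') [P'.Additive] [PreservesFiniteLimits P'] (ε' : B ⥤ B') [ε'.Full] [ε'.Faithful]
  (L : B' ⥤ B) [L.Additive] [PreservesFiniteLimits L] [PreservesFiniteColimits L]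

/-- Derived functors restricted along reflective embeddings. -/
theorem nonempty_rightDerived_reflect (adj : L ⊣ ε') (φ : P ⋙ ε' ≅ ε ⋙ P') (F : A) (hF : IsRightAcyclic ε F)
    (q : ℕ) {R : B} (e : (P'.rightDerived q).obj (ε.obj F) ≅ ε'.obj R) :
    Nonempty ((P.rightDerived q).obj F ≅ R) := by
  haveI : IsIso adj.counit := inferInstance
  let ψ : P ≅ (ε ⋙ P') ⋙ L :=
    P.rightUnitor.symm ≪≫ Functor.isoWhiskerLeft P (asIso adj.counit).symm ≪≫
      (Functor.associator P ε' L).symm ≪≫ Functor.isoWhiskerRight φ L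
  obtain ⟨g⟩ := nonempty_rightDerived_comp_of_acyclic ε P' q F hF
  exact ⟨(SiteBase.rightDerivedCongr ψ q).app F ≪≫ (SiteBase.rightDerivedCompIso (ε ⋙ P') L q).app F ≪≫
    L.mapIso (g.symm ≪≫ e) ≪≫ (asIso adj.counit).app R⟩

end Groth.Agent.GabberAff13
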