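import Groth.Agent.GabberAff13.Proper
import Groth.Agent.EtFound.SepClosedField
import Groth.Agent.EtLimit.ColimCase

/-!
# Invariance of cohomology under extensions of separably closed fields
-/

set_option autoImplicit false
set_option linter.style.haveILetI false
set_option backward.isDefEq.respectTransparency false
set_option backward.isDefEq.respectTransparency.types false
set_option maxHeartbeats 1000000

universe u

open CategoryTheory CategoryTheory.Limits AlgebraicGeometry Opposite

namespace Groth.Agent.GabberAff13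

open Groth.Agent.EtFound Groth.Agent.BCCrit13

variable {k K : Type u} [Field k] [IsSepClosed k] [Field K] [IsSepClosed K]

/-- Germs at a geometric point of global sections on a separably closed field. -/
theorem bijective_germ_top (η : Spec (CommRingCat.of K) ⟶ Spec (CommRingCat.of k))
    (t : (Scheme.pointSmallEtale η).fiber.obj (EtCoh.top (Spec (CommRingCat.of k))))
    (P : (Spec (CommRingCat.of k)).Etaleᵒᵖ ⥤ AddCommGrpCat.{u + 1}) :
    Function.Bijective ((Scheme.pointSmallEtale η).toPresheafFiber _ t P) := by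
  have hex : ∀ {U : (Spec (CommRingCat.of k)).Etale} (v : (Scheme.pointSmallEtale η).fiber.obj U),
      ∃ g : EtCoh.top (Spec (CommRingCat.of k)) ⟶ U, (Scheme.pointSmallEtale η).fiber.map g t = v := fun {U} v => by
    haveI : AlgebraicGeometry.Etale U.hom := U.prop
    obtain ⟨a, ⟨ha, hla⟩, -⟩ := existsUnique_of_etale_of_isSepClosed U.hom η
      (v.left : Spec (CommRingCat.of K) ⟶ U.left) (CategoryTheory.Over.w v)
    refine ⟨MorphismProperty.Over.homMk a ha, CategoryTheory.Over.OverMorphism.ext ?_⟩
    have ht : (t.left : Spec (CommRingCat.of K) ⟶ Spec (CommRingCat.of k)) = η :=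
      (Category.comp_id _).symm.trans (CategoryTheory.Over.w t)
    exact (congrArg (· ≫ a) ht).trans hla
  refine ⟨fun s s' h => ?_, fun p => ?_⟩
  · obtain ⟨V, f, v, hv, hf⟩ := ((Scheme.pointSmallEtale η).toPresheafFiber_eq_iff' _ _ s s').1 h
    obtain ⟨g, -⟩ := hex v
    have := congr(P.map g.op $hf)
    simpa only [← ConcreteCategory.comp_apply, ← Functor.map_comp, ← op_comp, hom_top_eq_id (g ≫ f), op_id,
      CategoryTheory.Functor.map_id, ConcreteCategory.id_apply] using this
  · obtain ⟨V, v, z, rfl⟩ := (Scheme.pointSmallEtale η).toPresheafFiber_jointly_surjective p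
    obtain ⟨g, hg⟩ := hex v
    exact ⟨P.map g.op z, by rw [← hg]; exact (Scheme.pointSmallEtale η).toPresheafFiber_w_apply g _ P z⟩

/-- Global sections do not change under extensions of separably closed fields. -/
theorem bijective_unit_field (g : Spec (CommRingCat.of K) ⟶ Spec (CommRingCat.of k))
    (G : EtCoh.Ab (Spec (CommRingCat.of k))) :
    Function.Bijective (((EtCoh.pullPushAdj g).unit.app G).hom.app (op (EtCoh.top (Spec (CommRingCat.of k))))) := by
  let P := Scheme.pointSmallEtale (𝟙 (Spec (CommRingCat.of K)))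
  let e : (EtCoh.bc g).obj (EtCoh.top (Spec (CommRingCat.of k))) ⟶ EtCoh.top (Spec (CommRingCat.of K)) :=
    (EtCore.topIsTerminal _).from _
  haveI : IsIso e.left := by
    have he : e.left = pullback.snd (𝟙 (Spec (CommRingCat.of k))) g :=
      (Category.comp_id _).symm.trans (MorphismProperty.Over.w e)
    rw [he]; infer_instance
  haveI : IsIso e := by
    have hi : (MorphismProperty.Over.isoMk (asIso e.left) (MorphismProperty.Over.w e)).hom = e :=
      (EtCore.topIsTerminal _).hom_ext _ _
    exact hi ▸ inferInstance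
  let t := P.fiber.map (inv e) (idTop K)
  have hgerm : Function.Bijective (P.toPresheafFiber _ t ((EtCoh.pull g).obj G).obj) := by
    have hw : ⇑(P.toPresheafFiber _ t ((EtCoh.pull g).obj G).obj) =
        ⇑(P.toPresheafFiber _ (idTop K) ((EtCoh.pull g).obj G).obj) ∘ ⇑(((EtCoh.pull g).obj G).obj.map (inv e).op) :=
      funext fun z => (P.toPresheafFiber_w_apply (inv e) (idTop K) _ z).symm
    rw [hw]
    exact (toPresheafFiber_idTop_bijective _).comp ((ConcreteCategory.isIso_iff_bijective _).1 inferInstance)
  have hcomp : Function.Bijective fun s => P.toPresheafFiber _ t ((EtCoh.pull g).obj G).obj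
      (((EtCoh.pullPushAdj g).unit.app G).hom.app (op (EtCoh.top _)) s) := by
    have h1 : Function.Bijective ((sheafFiberPullIso g (𝟙 (Spec (CommRingCat.of K)))).inv.app G) :=
      (ConcreteCategory.isIso_iff_bijective _).1 inferInstance
    have h2 := bijective_germ_top (𝟙 (Spec (CommRingCat.of K)) ≫ g)
      (bcFiberEquiv g (𝟙 (Spec (CommRingCat.of K))) (EtCoh.top _) t) G.obj
    exact (congrArg Function.Bijective
      (funext fun s => EtLimit.germ_unit g (𝟙 (Spec (CommRingCat.of K))) G _ t s)).mpr (h1.comp h2)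
  exact ⟨fun a b h => hcomp.1 (congrArg _ h), fun y => by
    obtain ⟨s, hs⟩ := hcomp.2 (P.toPresheafFiber _ t ((EtCoh.pull g).obj G).obj y)
    exact ⟨s, hgerm.1 hs⟩⟩

/-- Degree zero for any morphism. -/
theorem bijective_Hpull_zero_of_unit {X Z : Scheme.{u}} (i : Z ⟶ X) [PreservesFiniteLimits (EtCoh.pull i)]
    (F : EtCoh.Ab X)
    (h0 : Function.Bijective (((EtCoh.pullPushAdj i).unit.app F).hom.app (op (EtCoh.top X)))) :
    Function.Bijective (EtCore.Hpull i F 0) := by
  let e := fun K : EtCoh.Ab X => Sheaf.H.equiv₀ K (EtCore.topIsTerminal X)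
  have hu : Function.Bijective (EtLimit.hmap ((EtCoh.pullPushAdj i).unit.app F) 0) := by
    refine ⟨fun a b hab => (e F).injective (h0.1 ?_), fun y => ?_⟩
    · exact ((Sheaf.H.equiv₀_naturality (EtCore.topIsTerminal _) _ a).trans (congrArg (e _) hab)).trans
        (Sheaf.H.equiv₀_naturality (EtCore.topIsTerminal _) _ b).symm
    · obtain ⟨t, ht⟩ := h0.2 (e _ y)
      refine ⟨(e F).symm t, (e _).injective ?_⟩
      refine (Sheaf.H.equiv₀_naturality (EtCore.topIsTerminal _) _ ((e F).symm t)).symm.trans ?_
      rw [AddEquiv.apply_symm_apply]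
      exact ht
  haveI : (EtCoh.pull i).IsLeftAdjoint := (EtCoh.pullPushAdj i).isLeftAdjoint
  haveI : (EtCoh.pull i).Additive := (EtCoh.pullPushAdj i).left_adjoint_additive
  have hp : Function.Bijective (EtLim.HofPush i ((EtCoh.pull i).obj F) 0) := by
    have h := BigSiteLib.HofBij.hof_bijective_zero (EtCoh.pullPushAdj i) (EtCore.pullConst i ℤ).inv inferInstance
      ((EtCoh.pull i).obj F)
    exact h
  refine ⟨fun a b hab => hu.1 (hp.1 ?_), fun y => ?_⟩
  · rwa [← Hpull_eq, ← Hpull_eq]
  · obtain ⟨z, rfl⟩ := hp.2 y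
    obtain ⟨x, rfl⟩ := hu.2 z
    exact ⟨x, Hpull_eq i F 0 x⟩

/-- Degree zero for proper schemes over separably closed fields. -/
theorem bijective_unit_proper {X X' : Scheme.{u}} (f : X ⟶ Spec (CommRingCat.of k)) [IsProper f]
    (g : Spec (CommRingCat.of K) ⟶ Spec (CommRingCat.of k)) {f' : X' ⟶ Spec (CommRingCat.of K)} {g' : X' ⟶ X}
    (h : IsPullback g' f' f g) (F : EtCoh.Ab X) :
    Function.Bijective (((EtCoh.pullPushAdj g').unit.app F).hom.app (op (EtCoh.top X))) := by
  let V := EtCoh.top (Spec (CommRingCat.of k))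
  haveI := ProperBC13.isIso_baseChange0 f g f' g' h F
  have hb : Function.Bijective ((EtCoh.baseChange0 f g f' g' h.w F).hom.app (op ((EtCoh.bc g).obj V))) := by
    haveI : IsIso (EtCoh.baseChange0 f g f' g' h.w F).hom :=
      (sheafToPresheaf _ _).map_isIso (EtCoh.baseChange0 f g f' g' h.w F)
    exact (ConcreteCategory.isIso_iff_bijective _).1 inferInstance
  haveI : IsIso (bcSquare h.w V) := by unfold bcSquare; infer_instance
  have he := baseChange0_unit f g f' g' h.w F V
  have h1 : Function.Bijective ((((EtCoh.pullPushAdj g').unit.app F).hom.app (op ((EtCoh.bc f).obj V))) ≫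
      ((EtCoh.pull g').obj F).obj.map (bcSquare h.w V).op) := by
    rw [← he]
    exact hb.comp (bijective_unit_field g _)
  have h2 : Function.Bijective (((EtCoh.pullPushAdj g').unit.app F).hom.app (op ((EtCoh.bc f).obj V))) :=
    Function.Bijective.of_comp_iff' ((ConcreteCategory.isIso_iff_bijective
      (((EtCoh.pull g').obj F).obj.map (bcSquare h.w V).op)).1 inferInstance) _ |>.1 h1
  let e : (EtCoh.bc f).obj V ⟶ EtCoh.top X := (EtCore.topIsTerminal _).from _
  haveI : IsIso e.left := by
    have he : e.left = pullback.snd (𝟙 (Spec (CommRingCat.of k))) f :=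
      (Category.comp_id _).symm.trans (MorphismProperty.Over.w e)
    rw [he]; infer_instance
  haveI : IsIso e := by
    have hi : (MorphismProperty.Over.isoMk (asIso e.left) (MorphismProperty.Over.w e)).hom = e :=
      (EtCore.topIsTerminal _).hom_ext _ _
    exact hi ▸ inferInstance
  have hn := ((EtCoh.pullPushAdj g').unit.app F).hom.naturality e.op
  haveI : IsIso (((EtCoh.pullPushAdj g').unit.app F).hom.app (op ((EtCoh.bc f).obj V))) :=
    (ConcreteCategory.isIso_iff_bijective _).2 h2
  haveI : IsIso (((EtCoh.pullPushAdj g').unit.app F).hom.app (op (EtCoh.top X)) ≫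
      (((EtCoh.pull g') ⋙ EtCoh.push g').obj F).obj.map e.op) := by
    rw [← hn]; infer_instance
  exact (ConcreteCategory.isIso_iff_bijective _).1 (IsIso.of_isIso_comp_right _
    ((((EtCoh.pull g') ⋙ EtCoh.push g').obj F).obj.map e.op))

/-- Invariance of cohomology under extensions of separably closed fields. -/
theorem bijective_Hpull_field {X X' : Scheme.{u}} (f : X ⟶ Spec (CommRingCat.of k)) [IsProper f]
    (g : Spec (CommRingCat.of K) ⟶ Spec (CommRingCat.of k)) {f' : X' ⟶ Spec (CommRingCat.of K)} {g' : X' ⟶ X}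
    (h : IsPullback g' f' f g) [PreservesFiniteLimits (EtCoh.pull g')]
    (F : EtCoh.Ab X) (hF : EtCoh.IsTorsion F) (q : ℕ) : Function.Bijective (EtCore.Hpull g' F q) := by
  haveI : IsProper f' := MorphismProperty.of_isPullback h ‹IsProper f›
  haveI : CompactSpace X := QuasiCompact.compactSpace_of_compactSpace f
  haveI : QuasiSeparatedSpace X := quasiSeparatedSpace_of_quasiSeparated f
  haveI : CompactSpace X' := QuasiCompact.compactSpace_of_compactSpace f'
  haveI : QuasiSeparatedSpace X' := quasiSeparatedSpace_of_quasiSeparated f'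
  refine bijective_Hpull_of_vanish' g' (fun F => bijective_Hpull_zero_of_unit g' F (bijective_unit_proper f g h F))
    (fun ℓ hl I hI q => ?_) F hF q
  exact (van_iff h I (q + 1)).2 (van_point (hensBij f) hl.pos I hI q K g)

end Groth.Agent.GabberAff13
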