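import Groth.Agent.GabberAff13.DerivedComm
import Groth.Agent.GabberAff13.Proper
import Groth.Agent.BigSiteLib.ProperPushTheta

/-!
# Proper direct images of torsion sheaves and the big etale site
-/

set_option autoImplicit false
set_option linter.style.haveILetI false
set_option backward.isDefEq.respectTransparency false
set_option backward.isDefEq.respectTransparency.types false
set_option maxHeartbeats 1000000

universe u

open CategoryTheory CategoryTheory.Limits AlgebraicGeometry Opposite

namespace Groth.Agent.GabberAff13

open Groth.Agent.BigSiteLib Groth.Agent.BCCrit13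

variable {X Y : Scheme.{u}} (f : X ⟶ Y)

theorem theta_naturality {F G : EtCoh.Ab X} (a : F ⟶ G) :
    (BigSite.piEtPull Scheme.etalePrecoverage Y).map ((EtCoh.push f).map a) ≫ theta f G =
      theta f F ≫ (BigSite.pushBig Scheme.etalePrecoverage f AddCommGrpCat.{u + 1}).map
        ((BigSite.piEtPull Scheme.etalePrecoverage X).map a) := by
  unfold theta
  rw [← Adjunction.homEquiv_naturality_left_symm, ← Adjunction.homEquiv_naturality_right_symm]
  congr 1
  simp only [pushToRes, Category.assoc]
  refine ((congrArg (· ≫ _) (((EtCoh.push f).map_comp _ _).symm.trans ((congrArg (EtCoh.push f).map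
    ((BigSite.piEtAdj Scheme.etalePrecoverage X).unit.naturality a)).trans ((EtCoh.push f).map_comp _ _))))).trans ?_
    |> (Category.assoc _ _ _).symm.trans
  refine (Category.assoc _ _ _).trans (congrArg (_ ≫ ·) ?_)
  exact (pushResIso f).inv.naturality _

variable [IsProper f]

theorem isRightAcyclic_pushBig_torsEnv (J : EtCoh.Ab X) [Injective J] :
    TriCat.IsRightAcyclic (BigSite.pushBig Scheme.etalePrecoverage f AddCommGrpCat.{u + 1})
      ((BigSite.piEtPull Scheme.etalePrecoverage X).obj (torsEnv J)) := fun q hq =>
  isZero_of_resEtAlong _ fun {Y'} g => by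
    have hsq := IsPullback.of_hasPullback f g
    haveI : IsProper (pullback.snd f g) := MorphismProperty.of_isPullback hsq ‹IsProper f›
    have h := isRightAcyclic_of_iso (resAlongPiPullIso (pullback.fst f g) (torsEnv J))
      (isRightAcyclic_pull_torsEnv (goodSquare_of_cohCommutes (cohCommutes_of_isProper f) hsq) J)
    exact (h q hq).of_iso ((resAlongRpushIso f hsq q).app _)

/-- Higher direct images of torsion sheaves commute with pullback to the big etale site. -/
theorem nonempty_piPull_Rpush_iso (q : ℕ) (F : EtCoh.Ab X) (hF : EtCoh.IsTorsion F) :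
    Nonempty ((BigSite.piEtPull Scheme.etalePrecoverage Y).obj ((EtCoh.Rpush f q).obj F) ≅
      (BigSite.RpushBig Scheme.etalePrecoverage f q).obj ((BigSite.piEtPull Scheme.etalePrecoverage X).obj F)) := by
  haveI := EtFound.push_preservesFiniteLimits f
  haveI : (BigSite.pushBig Scheme.etalePrecoverage f AddCommGrpCat.{u + 1}).IsRightAdjoint :=
    (BigSite.bigAdj Scheme.etalePrecoverage f AddCommGrpCat.{u + 1}).isRightAdjoint
  haveI : PreservesFiniteLimits (BigSite.pushBig Scheme.etalePrecoverage f AddCommGrpCat.{u + 1}) :=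
    ⟨fun _ => inferInstance⟩
  haveI : (BigSite.piEtPull Scheme.etalePrecoverage Y).Additive :=
    (BigSite.piEtAdj Scheme.etalePrecoverage Y).left_adjoint_additive
  haveI : (BigSite.piEtPull Scheme.etalePrecoverage X).Additive :=
    (BigSite.piEtAdj Scheme.etalePrecoverage X).left_adjoint_additive
  haveI : (BigSite.piEtPull Scheme.etalePrecoverage Y).IsLeftAdjoint :=
    (BigSite.piEtAdj Scheme.etalePrecoverage Y).isLeftAdjoint
  haveI : (BigSite.piEtPull Scheme.etalePrecoverage X).IsLeftAdjoint :=
    (BigSite.piEtAdj Scheme.etalePrecoverage X).isLeftAdjoint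
  haveI : PreservesFiniteColimits (BigSite.piEtPull Scheme.etalePrecoverage Y) := ⟨fun _ => inferInstance⟩
  haveI : PreservesFiniteColimits (BigSite.piEtPull Scheme.etalePrecoverage X) := ⟨fun _ => inferInstance⟩
  haveI := piEtPull_exact X Scheme.etalePrecoverage
  haveI := fun F : EtCoh.Ab X => isIso_theta_of_proper f F
  refine nonempty_iso_derived (EtCoh.push f) (BigSite.piEtPull Scheme.etalePrecoverage Y)
    (BigSite.piEtPull Scheme.etalePrecoverage X) (BigSite.pushBig Scheme.etalePrecoverage f AddCommGrpCat.{u + 1})
    (fun F => EtCoh.IsTorsion F) (fun F => asIso (theta f F)) (fun a => theta_naturality f a) (fun F hF => ?_) q F hF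
  obtain ⟨φ, hφ⟩ := exists_mono_torsEnv hF
  exact ⟨_, φ, hφ, isTorsion_of_epi (cokernel.π φ) (isTorsion_torsEnv _),
    isRightAcyclic_colimit f _ fun i => isRightAcyclic_torsN f _ (Nat.factorial_pos _),
    isRightAcyclic_pushBig_torsEnv f _⟩

end Groth.Agent.GabberAff13
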