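import Groth.Agent.GabberAff13.Proper
import Groth.Agent.EtBC.BcQ
import Groth.Agent.EtBC.Devissage
import Groth.Agent.BcBridge.Single

/-!
# Proper base change for the canonical base change morphisms
-/

set_option autoImplicit false
set_option linter.style.haveILetI false
set_option backward.isDefEq.respectTransparency false
set_option backward.isDefEq.respectTransparency.types false
set_option maxHeartbeats 1000000

universe u

open CategoryTheory CategoryTheory.Limits AlgebraicGeometry Opposite

namespace Groth.Agent.GabberAff13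

open Groth.Agent.BCCrit13

variable {X S X' S' : Scheme.{u}} (f : X ⟶ S) (g : S' ⟶ S) (f' : X' ⟶ S') (g' : X' ⟶ X)
  (h : IsPullback g' f' f g) [IsProper f] [PreservesFiniteLimits (EtCoh.pull g')]

include h in
theorem isIso_bcQ_zero (F : EtCoh.Ab X) : IsIso (EtBC.bcQ f g f' g' h.w 0 F) := by
  haveI := ProperBC13.isIso_baseChange0 f g f' g' h F
  haveI := BcMapZero.preservesFiniteLimits_push f
  haveI := BcMapZero.preservesFiniteLimits_push f'
  haveI : IsIso ((EtCoh.pull g).map ((EtCoh.push f).toRightDerivedZero.app F) ≫ EtBC.bcQ f g f' g' h.w 0 F) := by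
    rw [EtBC.bcQ_zero_compat]
    infer_instance
  exact IsIso.of_isIso_comp_left ((EtCoh.pull g).map ((EtCoh.push f).toRightDerivedZero.app F)) _

include h in
/-- The canonical base change morphisms of a proper morphism are isomorphisms on torsion sheaves. -/
theorem isIso_bcQ (q : ℕ) : ∀ F : EtCoh.Ab X, EtCoh.IsTorsion F → IsIso (EtBC.bcQ f g f' g' h.w q F) := by
  induction q with
  | zero => exact fun F _ => isIso_bcQ_zero f g f' g' h F
  | succ q ih =>
    intro F hF
    haveI : IsProper f' := MorphismProperty.of_isPullback h ‹IsProper f›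
    obtain ⟨φ, hφ⟩ := exists_mono_torsEnv hF
    let J := Injective.under F
    let E := ShortComplex.mk φ (cokernel.π φ) (cokernel.condition φ)
    have hE : E.ShortExact := { exact := ShortComplex.exact_of_g_is_cokernel _ (cokernelIsCokernel _) }
    haveI : (EtCoh.pull g).Additive := pull_additive g
    haveI : (EtCoh.pull g').Additive := pull_additive g'
    haveI := pull_preservesFiniteColimits g'
    haveI := pull_preservesFiniteColimits g
    haveI : PreservesFiniteLimits (EtCoh.pull g) := EtFound.pull_preservesFiniteLimits g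
    have hE' : (E.map (EtCoh.pull g')).ShortExact := hE.map_of_exact _
    have hG : TriCat.IsRightAcyclic (EtCoh.push f) E.X₂ :=
      isRightAcyclic_colimit f _ fun i => isRightAcyclic_torsN f _ (Nat.factorial_pos _)
    have hG' : TriCat.IsRightAcyclic (EtCoh.push f') (E.map (EtCoh.pull g')).X₂ :=
      isRightAcyclic_pull_torsEnv (goodSquare_of_cohCommutes (cohCommutes_of_isProper f) h) J
    let Δ := SESResLib.derivedLES (EtCoh.push f)
    let Δ' := SESResLib.derivedLES (EtCoh.push f')
    haveI : IsIso (EtBC.bcQ f g f' g' h.w q E.X₂) := ih _ (isTorsion_torsEnv J)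
    haveI : IsIso (EtBC.bcQ f g f' g' h.w q E.X₃) := ih _ (isTorsion_of_epi (cokernel.π φ) (isTorsion_torsEnv J))
    haveI : Epi (Δ.δ E hE q (q + 1) rfl) := (Δ.exact₁ E hE q (q + 1) rfl).epi_f ((hG (q + 1) q.succ_pos).eq_of_tgt _ _)
    haveI : Epi ((EtCoh.pull g).map (Δ.δ E hE q (q + 1) rfl)) := Functor.map_epi _ _
    haveI : Epi (Δ'.δ (E.map (EtCoh.pull g')) hE' q (q + 1) rfl) :=
      (Δ'.exact₁ _ hE' q (q + 1) rfl).epi_f ((hG' (q + 1) q.succ_pos).eq_of_tgt _ _)
    have hδ := EtBC.bcQ_δ f g f' g' h.w hE hE' q (q + 1) rfl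
    haveI : Epi (EtBC.bcQ f g f' g' h.w (q + 1) E.X₁) := by
      haveI : Epi ((EtCoh.pull g).map (Δ.δ E hE q (q + 1) rfl) ≫ EtBC.bcQ f g f' g' h.w (q + 1) E.X₁) :=
        hδ.symm ▸ epi_comp _ _
      exact epi_of_epi ((EtCoh.pull g).map (Δ.δ E hE q (q + 1) rfl)) _
    have hn := EtBC.bcQ_naturality f g f' g' h.w q E.g
    haveI : Mono (EtBC.bcQ f g f' g' h.w (q + 1) E.X₁) :=
      EtBC.mono_of_ladder (u := (EtCoh.pull g).map ((EtCoh.Rpush f q).map E.g))
        ((Functor.map_comp _ _ _).symm.trans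
          ((congrArg (EtCoh.pull g).map (Δ.comp_δ E hE q (q + 1) rfl)).trans (Functor.map_zero _ _ _)))
        (Δ'.comp_δ _ hE' q (q + 1) rfl) (Δ'.exact₃ _ hE' q (q + 1) rfl) hn hδ
    exact isIso_of_mono_of_epi (EtBC.bcQ f g f' g' h.w (q + 1) E.X₁)

variable [PreservesFiniteLimits (EtCoh.pull g)] [DCoh.HasRpushEt X f] [DCoh.HasRpushEt X' f'] [DCoh.HasRpushEt S' g]
  (adj : EtBC.pullD g ⊣ DCoh.RpushEt S' g)

attribute [local instance] HasDerivedCategory.standard

include h in
theorem isIso_bcMap_single (F : EtCoh.Ab X) (hF : EtCoh.IsTorsion F) :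
    IsIso (EtBC.bcMap f g f' g' h.w adj (EtBC.single X F)) := by
  refine (DerivedCategory.isIso_iff _ _).2 fun n => ?_
  rcases lt_or_ge n 0 with hn | hn
  · exact BcBridge.isIso_homology_bcMap_neg f g f' g' h.w F adj n hn
  · obtain ⟨q, rfl⟩ := Int.eq_ofNat_of_zero_le hn
    exact (BcBridge.isIso_homology_bcMap_iff f g f' g' h.w F adj q).2 (isIso_bcQ f g f' g' h q F hF)

end Groth.Agent.GabberAff13
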