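import Groth.Agent.GabberAff13.AffineHens

/-!
# Cohomology on closed subschemes of schemes with finitely many affine opens
-/

set_option autoImplicit false
set_option linter.style.haveILetI false
set_option backward.isDefEq.respectTransparency false
set_option backward.isDefEq.respectTransparency.types false
set_option maxHeartbeats 1000000

universe u

open CategoryTheory CategoryTheory.Limits AlgebraicGeometry Opposite

namespace Groth.Agent.GabberAff13

/-- Restriction of an open to a larger open. -/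
theorem subsingleton_H_preimage {Z : Scheme.{u}} (Q P : Z.Opens) (hPQ : P ≤ Q) (G : EtCoh.Ab Z) (n : ℕ)
    (h : Subsingleton (EtCoh.H ↑P ((EtCoh.pull P.ι).obj G) n)) :
    Subsingleton (EtCoh.H ↑(Q.ι ⁻¹ᵁ P) ((EtCoh.pull (Q.ι ⁻¹ᵁ P).ι).obj ((EtCoh.pull Q.ι).obj G)) n) := by
  let a := (Q.ι ⁻¹ᵁ P).ι ≫ Q.ι
  have hr : Set.range a = Set.range P.ι := by
    have h1 : Set.range a = Q.ι '' Set.range (Q.ι ⁻¹ᵁ P).ι := by
      rw [← Set.range_comp]
      exact congrArg Set.range (funext fun x => Scheme.Hom.comp_apply _ _ _)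
    rw [h1, Scheme.Opens.range_ι, Scheme.Opens.range_ι]
    show Q.ι '' (Q.ι ⁻¹' (P : Set Z)) = P
    rw [Set.image_preimage_eq_inter_range, Scheme.Opens.range_ι]
    exact Set.inter_eq_left.2 hPQ
  refine subsingleton_H_pull_pull (Q.ι ⁻¹ᵁ P).ι Q.ι a rfl G n ?_
  exact subsingleton_of_iso (IsOpenImmersion.isoOfRangeEq a P.ι hr).hom P.ι a
    (IsOpenImmersion.isoOfRangeEq_hom_fac _ _ _) G n h

variable {X Z : Scheme.{u}} (i : Z ⟶ X) [IsClosedImmersion i]
  (hΔ : ∀ U V : X.Opens, IsAffineOpen U → IsAffineOpen V → IsAffineOpen (U ⊓ V))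
  (F : EtCoh.Ab X) (hT : EtCoh.IsTorsion F) (hF : EtaleAffAcyclic F)

include hΔ hT hF in
/-- Vanishing above the number of affine opens. -/
theorem subsingleton_H_cover : ∀ (n : ℕ) (W : Fin (n + 1) → X.Opens), (∀ k, IsAffineOpen (W k)) →
    ∀ O : X.Opens, O = ⨆ k, W k → ∀ q, n < q →
      Subsingleton (EtCoh.H ↑(i ⁻¹ᵁ O) ((EtCoh.pull (i ⁻¹ᵁ O).ι).obj ((EtCoh.pull i).obj F)) q) := by
  intro n
  induction n with
  | zero =>
    intro W hW O hO q hq
    obtain ⟨q, rfl⟩ := Nat.exists_eq_succ_of_ne_zero (Nat.ne_of_gt hq)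
    have hO' : O = W 0 := hO.trans (le_antisymm (iSup_le fun k => by rw [Fin.fin_one_eq_zero k]) (le_iSup W 0))
    haveI : IsAffine (O : Scheme.{u}) := hO' ▸ hW 0
    haveI : IsClosedImmersion (i ∣_ O) := IsZariskiLocalAtTarget.restrict ‹IsClosedImmersion i› O
    have h := subsingleton_H_pull_closed_affine (i ∣_ O) ((EtCoh.pull O.ι).obj F) (BigDesc.isTorsion_pull O.ι hT)
      (etaleAffAcyclic_pull O.ι hF) q
    exact subsingleton_H_pull_pull _ _ ((i ⁻¹ᵁ O).ι ≫ i) rfl F (q + 1)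
      (subsingleton_H_pull_of_pull _ _ _ (morphismRestrict_ι i O) F (q + 1) h)
  | succ n ih =>
    intro W hW O hO q hq
    obtain ⟨q, rfl⟩ := Nat.exists_eq_succ_of_ne_zero (Nat.ne_of_gt (Nat.lt_of_le_of_lt (Nat.zero_le _) hq))
    let U := W 0
    let V := ⨆ k, W (Fin.succ k)
    let G := (EtCoh.pull i).obj F
    let Q := i ⁻¹ᵁ O
    have hcov : U ⊔ V = O := by
      rw [hO]
      refine le_antisymm (sup_le (le_iSup W 0) (iSup_le fun k => le_iSup W _)) (iSup_le fun k => ?_)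
      induction k using Fin.cases with
      | zero => exact le_sup_left
      | succ k => exact le_sup_of_le_right (le_iSup (fun k => W (Fin.succ k)) k)
    have hU : U ≤ O := hcov ▸ le_sup_left
    have hV : V ≤ O := hcov ▸ le_sup_right
    have hUV : U ⊓ V = ⨆ k, U ⊓ W (Fin.succ k) := inf_iSup_eq _ _
    have h1 := ih (fun k => U ⊓ W (Fin.succ k)) (fun k => hΔ _ _ (hW 0) (hW _)) _ hUV q (by omega)
    have h2 := ih (fun k => W (Fin.succ k)) (fun k => hW _) _ rfl (q + 1) (by omega)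
    have h3 : Subsingleton (EtCoh.H ↑(i ⁻¹ᵁ U) ((EtCoh.pull (i ⁻¹ᵁ U).ι).obj G) (q + 1)) :=
      ih (fun _ => U) (fun _ => hW 0) U (iSup_const).symm (q + 1) (by omega)
    have hcov' : Q.ι ⁻¹ᵁ (i ⁻¹ᵁ U) ⊔ Q.ι ⁻¹ᵁ (i ⁻¹ᵁ V) = ⊤ := eq_top_iff.2 fun z _ => by
      have hz : i (Q.ι z) ∈ U ⊔ V := hcov.symm ▸ z.2
      exact hz.imp id id
    refine subsingleton_of_forall_eq 0 fun c => eq_zero_of_two _ _ hcov' ?_ c ?_ ?_
    · exact subsingleton_H_preimage Q (i ⁻¹ᵁ (U ⊓ V)) (fun z hz => hU hz.1) G q h1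
    · intro _
      exact @Subsingleton.elim _ (subsingleton_H_preimage Q (i ⁻¹ᵁ U) (fun z hz => hU hz) G (q + 1) h3) _ _
    · intro _
      exact @Subsingleton.elim _ (subsingleton_H_preimage Q (i ⁻¹ᵁ V) (fun z hz => hV hz) G (q + 1) h2) _ _

include hΔ hT hF in
/-- Vanishing on the whole closed subscheme. -/
theorem subsingleton_H_of_cover (n : ℕ) (W : Fin (n + 1) → X.Opens) (hW : ∀ k, IsAffineOpen (W k))
    (hcov : ⨆ k, W k = ⊤) (q : ℕ) (hq : n < q) : Subsingleton (EtCoh.H Z ((EtCoh.pull i).obj F) q) := by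
  have h := subsingleton_H_cover i hΔ F hT hF n W hW ⊤ hcov.symm q hq
  have hr : Set.range (𝟙 Z : Z ⟶ Z) = Set.range (i ⁻¹ᵁ (⊤ : X.Opens)).ι := by
    rw [Scheme.Opens.range_ι]
    exact Set.range_id
  have h1 := subsingleton_of_iso (IsOpenImmersion.isoOfRangeEq (𝟙 Z) (i ⁻¹ᵁ (⊤ : X.Opens)).ι hr).hom _ (𝟙 Z)
    (IsOpenImmersion.isoOfRangeEq_hom_fac _ _ _) _ q h
  haveI : PreservesFiniteLimits (EtCoh.pull (𝟙 Z)) := EtFound.pull_preservesFiniteLimits _
  exact (EtFound.Hpull_bijective_of_isIso (𝟙 Z) ((EtCoh.pull i).obj F) q).1.subsingleton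

end Groth.Agent.GabberAff13
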