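import Groth.Agent.CohCrit13.Formal
import Groth.Agent.EtMVLib.MV
import Groth.Agent.EtFound.Excision
import Groth.Agent.EtLimit.Const

/-!
# Cohomology classes die locally
-/

set_option autoImplicit false
set_option linter.style.haveILetI false
set_option backward.isDefEq.respectTransparency false
set_option backward.isDefEq.respectTransparency.types false

universe u

open CategoryTheory CategoryTheory.Limits AlgebraicGeometry Opposite CategoryTheory.Abelian

namespace Groth.Agent.GabberAff13

open Groth.Agent.EtMVLib Groth.Agent.EtFound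

variable {X : Scheme.{u}}

/-- A class dies after restriction along a morphism. -/
def Killed {T : Scheme.{u}} (j : T ⟶ X) {F : EtCoh.Ab X} {n : ℕ} (c : EtCoh.H X F n) : Prop :=
  ∀ [PreservesFiniteLimits (EtCoh.pull j)], EtCore.Hpull j F n c = 0

/-- A class of degree one coming from a section that lifts on an étale object dies there. -/
theorem Hpull_extClass_eq_zero {S : ShortComplex (EtCoh.Ab X)} (hS : S.ShortExact)
    {U : Scheme.{u}} (h : U ⟶ X) [AlgebraicGeometry.Etale h] [PreservesFiniteLimits (EtCoh.pull h)]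
    (ψ : EtCoh.const X ℤ ⟶ S.X₃) (s : S.X₂.obj.obj (op (Scheme.Etale.mk h)))
    (hs : (S.g.hom.app _).hom s =
      (S.X₃.obj.map ((EtCore.topIsTerminal X).from (Scheme.Etale.mk h)).op).hom (constVal ψ)) :
    EtCore.Hpull h S.X₁ 1 ((Ext.mk₀ ψ).comp hS.extClass (zero_add 1)) = 0 := by
  have e : 𝟙 _ ≫ h = h := Category.id_comp _
  let ψ' : EtCoh.const _ ℤ ⟶ (EtCoh.pull h).obj S.X₂ := ofVal (atPt h (Scheme.Etale.mk h) (𝟙 _) e S.X₂ s)
  have key : ψ' ≫ (EtCoh.pull h).map S.g =
      (EtCore.pullConst h ℤ).inv ≫ (EtCoh.pull h).map ψ := by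
    apply (constVal_bijective _).1
    rw [constVal_comp, constVal_pullConst, constVal_ofVal, ← atPt_naturality_apply]
    refine (congrArg _ hs).trans ?_
    have e' : h ≫ (EtCoh.top X).hom = h := Category.comp_id _
    rw [pullSec_eq_atPt h e']
    exact ConcreteCategory.congr_hom
      (atPt_map h ((EtCore.topIsTerminal X).from (Scheme.Etale.mk h)) (𝟙 _) e h
        ((MorphismProperty.Over.w ((EtCore.topIsTerminal X).from (Scheme.Etale.mk h))).symm.trans
          ((Category.comp_id _).trans (Category.id_comp _).symm)) e' S.X₃) (constVal ψ)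
  rw [Hpull_apply, Ext.mapExactFunctor_comp, Ext.mapExactFunctor_mk₀,
    Ext.mapExactFunctor_extClass, Ext.mk₀_comp_mk₀_assoc, ← key, ← Ext.mk₀_comp_mk₀_assoc]
  refine (congrArg (fun t => (Ext.mk₀ ψ').comp t (zero_add 1))
    (ShortComplex.ShortExact.comp_extClass (hS.map_of_exact (EtCoh.pull h)))).trans ?_
  exact Ext.comp_zero (Ext.mk₀ ψ') _ _ _ _

/-- Classes in positive degree die étale locally. -/
theorem exists_etale_kill : ∀ (q : ℕ) (F : EtCoh.Ab X) (c : EtCoh.H X F (q + 1)) (x : X),
    ∃ (U : Scheme.{u}) (h : U ⟶ X) (_ : AlgebraicGeometry.Etale h) (w : U), h w = x ∧ Killed h c := by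
  intro q
  induction q with
  | zero =>
    intro F c x
    let f := Injective.ι F
    let S := ShortComplex.mk f (cokernel.π f) (cokernel.condition f)
    have hS : S.ShortExact := ShortComplex.ShortExact.mk' (ShortComplex.exact_cokernel f)
      inferInstance inferInstance
    haveI : Injective S.X₂ := inferInstanceAs (Injective (Injective.under _))
    haveI : Epi S.g := hS.epi_g
    obtain ⟨e, rfl⟩ := EtLimit.exists_hδ_of_hmap_eq_zero hS (rfl : 0 + 1 = 1) c (Ext.eq_zero_of_injective _)
    obtain ⟨ψ, rfl⟩ := (Ext.mk₀_bijective _ _).2 e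
    have h : Presheaf.IsLocallySurjective X.smallEtaleTopology S.g.hom :=
      (Sheaf.isLocallySurjective_iff_epi' AddCommGrpCat.{u + 1} S.g).2 inferInstance
    obtain ⟨W, m, w, ⟨t, ht⟩, hw⟩ := (mem_topology_iff _).1 (h.imageSieve_mem (U := EtCoh.top X) (constVal ψ)) x
    haveI : AlgebraicGeometry.Etale W.hom := W.prop
    refine ⟨W.left, W.hom, inferInstance, w, ?_, ?_⟩
    · have hm : m.left ≫ 𝟙 X = W.hom := MorphismProperty.Over.w m
      rw [← hw]
      exact (congrArg (fun q : W.left ⟶ X => q w) ((Category.comp_id _).symm.trans hm)).symm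
    · intro _
      exact Hpull_extClass_eq_zero (U := W.left) hS W.hom ψ t (ht.trans
        (congrArg (fun q => S.X₃.obj.map (Quiver.Hom.op q) (constVal ψ)) ((EtCore.topIsTerminal X).hom_ext m _)))
  | succ q ih =>
    intro F c x
    let f := Injective.ι F
    let S := ShortComplex.mk f (cokernel.π f) (cokernel.condition f)
    have hS : S.ShortExact := ShortComplex.ShortExact.mk' (ShortComplex.exact_cokernel f)
      inferInstance inferInstance
    haveI : Injective S.X₂ := inferInstanceAs (Injective (Injective.under _))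
    obtain ⟨e, rfl⟩ := EtLimit.exists_hδ_of_hmap_eq_zero hS (rfl : (q + 1) + 1 = q + 1 + 1) c (Ext.eq_zero_of_injective _)
    obtain ⟨U, h, _, w, hw, hk⟩ := ih S.X₃ e x
    refine ⟨U, h, inferInstance, w, hw, ?_⟩
    intro _
    haveI : PreservesFiniteColimits (EtCoh.pull h) := EtCore.pull_preservesFiniteColimits _
    haveI : (EtCoh.pull h).Additive := Functor.additive_of_preserves_binary_products _
    exact (CohCrit13.Hpull_hδ h hS (hS.map_of_exact (EtCoh.pull h)) rfl e).trans
      ((congrArg _ hk).trans (map_zero _))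

theorem killed_iff_restr {T T' : Scheme.{u}} (j : T ⟶ X) (k : T' ⟶ T) (w : T' ⟶ X) (e : k ≫ j = w)
    [PreservesFiniteLimits (EtCoh.pull j)] [PreservesFiniteLimits (EtCoh.pull k)]
    {F : EtCoh.Ab X} {n : ℕ} (c : EtCoh.H X F n) :
    Killed w c ↔ EtCore.Hpull k ((EtCoh.pull j).obj F) n (EtCore.Hpull j F n c) = 0 := by
  haveI : PreservesFiniteLimits (EtCoh.pull w) := EtFound.pull_preservesFiniteLimits _
  have h := EtFound.Hpull_comp k j w e F n c
  refine ⟨fun hk => ?_, fun hk => ?_⟩
  · refine (EtFound.postcomp_bijective _ _).1 ((h.symm.trans hk).trans ?_)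
    exact (Ext.zero_comp _ _ _ _ _).symm
  · intro _
    exact h.trans ((congrArg (fun z => Ext.comp z _ _) hk).trans (Ext.zero_comp _ _ _ _ _))

theorem killed_of_factor {T T' : Scheme.{u}} (j : T ⟶ X) (k : T' ⟶ T) (w : T' ⟶ X) (e : k ≫ j = w)
    {F : EtCoh.Ab X} {n : ℕ} {c : EtCoh.H X F n} (hc : Killed j c) : Killed w c := by
  haveI : PreservesFiniteLimits (EtCoh.pull j) := EtFound.pull_preservesFiniteLimits _
  haveI : PreservesFiniteLimits (EtCoh.pull k) := EtFound.pull_preservesFiniteLimits _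
  intro _
  exact (killed_iff_restr j k w e c).2 ((congrArg _ hc).trans (map_zero _))

/-- Two pieces with an acyclic overlap. -/
theorem eq_zero_of_two (U V : X.Opens) (hUV : U ⊔ V = ⊤) {F : EtCoh.Ab X} {n : ℕ}
    (hsub : Subsingleton (EtCoh.H ↑(U ⊓ V) ((EtCoh.pull (U ⊓ V).ι).obj F) n))
    (c : EtCoh.H X F (n + 1)) (hU : Killed U.ι c) (hV : Killed V.ι c) : c = 0 := by
  haveI : PreservesFiniteLimits (EtCoh.pull U.ι) := EtFound.pull_preservesFiniteLimits _
  haveI : PreservesFiniteLimits (EtCoh.pull V.ι) := EtFound.pull_preservesFiniteLimits _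
  haveI : PreservesFiniteLimits (EtCoh.pull (X.homOfLE (inf_le_left : U ⊓ V ≤ U))) :=
    EtFound.pull_preservesFiniteLimits _
  haveI : PreservesFiniteLimits (EtCoh.pull (X.homOfLE (inf_le_right : U ⊓ V ≤ V))) :=
    EtFound.pull_preservesFiniteLimits _
  obtain ⟨δ, -, hker, -, -⟩ := EtMVLib.mayerVietoris X U V hUV F
  have hc : c ∈ (AddMonoidHom.prod (EtCore.Hpull U.ι F (n + 1)) (EtCore.Hpull V.ι F (n + 1))).ker :=
    AddMonoidHom.mem_ker.2 (Prod.ext hU hV)
  rw [hker n] at hc
  obtain ⟨t, rfl⟩ := hc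
  rw [hsub.elim t 0, map_zero]

end Groth.Agent.GabberAff13
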