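import Groth.Agent.GabberAff13.Pair
import Groth.Agent.GabberAff13.FieldExt
import Groth.Agent.GabberAff13.BigDesc.Main
import Groth.Agent.GabberAff13.Kill
import Groth.Agent.Hensel.Colim
import Groth.Agent.Hensel.Henselization
import Groth.Agent.S1958
import Mathlib.CategoryTheory.Presentable.Directed

/-!
# Cohomology on closed subschemes of affine schemes via henselization
-/

set_option autoImplicit false
set_option linter.style.haveILetI false
set_option backward.isDefEq.respectTransparency false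
set_option backward.isDefEq.respectTransparency.types false
set_option maxHeartbeats 1000000

universe u

open CategoryTheory CategoryTheory.Limits AlgebraicGeometry Opposite

namespace Groth.Agent.GabberAff13

open Groth.Agent.EtFound

/-- A sheaf without higher cohomology on affine schemes étale over the base. -/
def EtaleAffAcyclic {X : Scheme.{u}} (F : EtCoh.Ab X) : Prop :=
  ∀ (V : Scheme.{u}) (j : V ⟶ X) [AlgebraicGeometry.Etale j] [IsAffine V] (q : ℕ),
    Subsingleton (EtCoh.H V ((EtCoh.pull j).obj F) (q + 1))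

/-- Transport along equal morphisms into the base. -/
theorem subsingleton_H_pull_pull {X Y T : Scheme.{u}} (k : T ⟶ Y) (b : Y ⟶ X) (a : T ⟶ X) (e : k ≫ b = a)
    (F : EtCoh.Ab X) (n : ℕ) (h : Subsingleton (EtCoh.H T ((EtCoh.pull a).obj F) n)) :
    Subsingleton (EtCoh.H T ((EtCoh.pull k).obj ((EtCoh.pull b).obj F)) n) :=
  (CohCrit13.hmap_bijective_of_isIso ((EtFound.θPull k b a e).hom.app F) n).1.subsingleton

/-- The converse transport. -/
theorem subsingleton_H_pull_of_pull {X Y T : Scheme.{u}} (k : T ⟶ Y) (b : Y ⟶ X) (a : T ⟶ X) (e : k ≫ b = a)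
    (F : EtCoh.Ab X) (n : ℕ) (h : Subsingleton (EtCoh.H T ((EtCoh.pull k).obj ((EtCoh.pull b).obj F)) n)) :
    Subsingleton (EtCoh.H T ((EtCoh.pull a).obj F) n) :=
  haveI : Subsingleton (EtCoh.H T ((EtCoh.pull b ⋙ EtCoh.pull k).obj F) n) := h
  (CohCrit13.hmap_bijective_of_isIso ((EtFound.θPull k b a e).hom.app F) n).2.subsingleton

theorem etaleAffAcyclic_pull {X U : Scheme.{u}} (j : U ⟶ X) [AlgebraicGeometry.Etale j] {F : EtCoh.Ab X}
    (hF : EtaleAffAcyclic F) : EtaleAffAcyclic ((EtCoh.pull j).obj F) := fun V k _ _ q =>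
  subsingleton_H_pull_pull k j (k ≫ j) rfl F (q + 1) (hF V (k ≫ j) q)

section henselization

variable (A : Type u) [CommRing A] (I : Ideal A)

/-- On the henselization of a pair. -/
theorem subsingleton_H_henz (F : EtCoh.Ab (Spec (CommRingCat.of A))) (hF : EtaleAffAcyclic F) (q : ℕ) :
    Subsingleton (EtCoh.H (Spec (CommRingCat.of (Hensel.PairHenz A I)))
      ((EtCoh.pull (Spec.map (CommRingCat.ofHom (algebraMap A (Hensel.PairHenz A I))))).obj F) (q + 1)) := by
  obtain ⟨α, _, _, _, G, hG⟩ := IsFiltered.exists_directed (Hensel.NbhdCat A (A ⧸ I))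
  haveI : IsFiltered α := isFiltered_of_directed_le_nonempty _
  haveI : IsConnected α := IsFiltered.isConnected _
  haveI : IsConnected (Hensel.NbhdCat A (A ⧸ I)) := IsFiltered.isConnected _
  let D : α ⥤ CommRingCat.{u} := G ⋙ Hensel.nbhdDiagram A (A ⧸ I) ⋙ Under.forget _
  let c : Cocone D := ((Under.forget _).mapCocone (Hensel.nbhdCocone A (A ⧸ I))).whisker G
  have hc : IsColimit c :=
    (Functor.Final.isColimitWhiskerEquiv G _).symm
      (isColimitOfPreserves (Under.forget _) (Hensel.isColimitNbhdCocone A (A ⧸ I)))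
  let Xs : αᵒᵖ ⥤ Scheme.{u} := D.op ⋙ Scheme.Spec
  let cX : Cone Xs := Scheme.Spec.mapCone c.op
  have hcX : IsLimit cX := isLimitOfPreserves Scheme.Spec hc.op
  let e : ∀ s : α, Xs.obj (op s) ⟶ Spec (CommRingCat.of A) :=
    fun s => Spec.map (CommRingCat.ofHom (algebraMap A (G.obj s).N.B))
  have he : ∀ {s t : α} (h : s ≤ t), EtLimit.tr Xs h ≫ e s = e t := fun {s t} h => by
    show Spec.map (D.map (homOfLE h)) ≫ e s = e t
    rw [← Spec.map_comp]
    exact congrArg Spec.map (CategoryTheory.Under.w ((Hensel.nbhdDiagram A (A ⧸ I)).map (G.map (homOfLE h))))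
  have he₀ : ∀ s : α, cX.π.app (op s) ≫ e s =
      Spec.map (CommRingCat.ofHom (algebraMap A (Hensel.PairHenz A I))) := fun s => by
    show Spec.map (c.ι.app s) ≫ e s = _
    rw [← Spec.map_comp]
    exact congrArg Spec.map (CategoryTheory.Under.w ((Hensel.nbhdCocone A (A ⧸ I)).ι.app (G.obj s)))
  have haff : ∀ ⦃a b : αᵒᵖ⦄ (m : a ⟶ b), IsAffineHom (Xs.map m) := fun a b m =>
    show IsAffineHom (Spec.map (D.map m.unop)) from isAffineHom_of_isAffine _
  have hqc : ∀ a, CompactSpace ↥(Xs.obj a) := fun a =>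
    show CompactSpace ↥(Spec (D.obj a.unop)) from inferInstance
  have hqs : ∀ a, QuasiSeparatedSpace ↥(Xs.obj a) := fun a =>
    show QuasiSeparatedSpace ↥(Spec (D.obj a.unop)) from inferInstance
  haveI : ∀ a, PreservesFiniteLimits (EtCoh.pull (cX.π.app a)) := fun a => EtFound.pull_preservesFiniteLimits _
  haveI : ∀ ⦃a b : αᵒᵖ⦄ (h : a ⟶ b), PreservesFiniteLimits (EtCoh.pull (Xs.map h)) :=
    fun a b h => EtFound.pull_preservesFiniteLimits _
  have H := EtLimit.genSys_comparison Xs haff cX hcX hqc hqs e he F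
    (Spec.map (CommRingCat.ofHom (algebraMap A (Hensel.PairHenz A I)))) he₀ (q + 1)
  refine subsingleton_of_forall_eq 0 fun ξ => ?_
  obtain ⟨s, x, hx⟩ := H.1 ξ
  haveI : AlgebraicGeometry.Etale (e s) :=
    (HasRingHomProperty.Spec_iff (P := @AlgebraicGeometry.Etale)).2 (RingHom.etale_algebraMap.2 (G.obj s).N.etale)
  haveI : IsAffine (Xs.obj (op s)) := show IsAffine (Spec (D.obj s)) from inferInstance
  haveI := hF (Xs.obj (op s)) (e s) q
  rw [← hx, Subsingleton.elim x 0, map_zero]

/-- On a closed subscheme of an affine scheme. -/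
theorem subsingleton_H_spec_quotient (F : EtCoh.Ab (Spec (CommRingCat.of A))) (hT : EtCoh.IsTorsion F)
    (hF : EtaleAffAcyclic F) (q : ℕ) :
    Subsingleton (EtCoh.H (Spec (CommRingCat.of (A ⧸ I)))
      ((EtCoh.pull (Spec.map (CommRingCat.ofHom (Ideal.Quotient.mk I)))).obj F) (q + 1)) := by
  let B := Hensel.PairHenz A I
  let J : Ideal B := I.map (algebraMap A B)
  have hB := Hensel.isPairHenselization_pairHenz A I
  haveI : HenselianRing B J := hB.1
  let g := Spec.map (CommRingCat.ofHom (algebraMap A B))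
  let G := (EtCoh.pull g).obj F
  haveI hH := subsingleton_H_henz A I F hF q
  let i := Spec.map (CommRingCat.ofHom (Ideal.Quotient.mk J))
  haveI : IsClosedImmersion i := IsClosedImmersion.spec_of_surjective _ Ideal.Quotient.mk_surjective
  haveI : PreservesFiniteLimits (EtCoh.pull i) := EtFound.pull_preservesFiniteLimits _
  haveI := EtFound.push_preservesFiniteLimits i
  haveI := EtFound.push_preservesFiniteColimits i
  have h1 : Subsingleton (EtCoh.H (Spec (CommRingCat.of B)) ((EtCoh.push i).obj ((EtCoh.pull i).obj G)) (q + 1)) :=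
    haveI : Subsingleton (EtCoh.H (Spec (CommRingCat.of B)) ((𝟭 (EtCoh.Ab (Spec (CommRingCat.of B)))).obj G) (q + 1)) := hH
    (henselian_pair B J G (BigDesc.isTorsion_pull g hT) (q + 1)).2.subsingleton
  have h2 : Subsingleton (EtCoh.H (Spec (CommRingCat.of (B ⧸ J))) ((EtCoh.pull i).obj G) (q + 1)) :=
    (BigSiteLib.hofPush_bijective i _ (fun j hj => by
      obtain ⟨m, rfl⟩ := Nat.exists_eq_succ_of_ne_zero hj.ne'
      exact LerayDegen.isZero_rightDerived_of_exact (EtCoh.push i) _ m) (q + 1)).2.subsingleton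
  have h3 := subsingleton_H_pull_of_pull i g (i ≫ g) rfl F (q + 1) h2
  have hle : I ≤ Ideal.comap (algebraMap A B) J := Ideal.le_comap_map
  let φ := Ideal.quotientMap J (algebraMap A B) hle
  have hbij : Function.Bijective φ := by
    have h := (S1958.result A I B hB).2 1
    rw [pow_one] at h
    exact h
  let e := RingEquiv.ofBijective φ hbij
  haveI : IsIso (Spec.map (CommRingCat.ofHom e.symm.toRingHom)) :=
    inferInstanceAs (IsIso (Scheme.Spec.map e.symm.toCommRingCatIso.hom.op))
  refine subsingleton_of_iso (Spec.map (CommRingCat.ofHom e.symm.toRingHom)) (i ≫ g) _ ?_ F (q + 1) h3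
  rw [← Spec.map_comp, ← Spec.map_comp, ← CommRingCat.ofHom_comp, ← CommRingCat.ofHom_comp]
  refine congrArg Spec.map (congrArg CommRingCat.ofHom ?_)
  ext a
  exact (e.symm_apply_eq).2 (Ideal.quotientMap_mk (H := hle)).symm

end henselization

/-- Affine analogue for sheaves acyclic on affines. -/
theorem subsingleton_H_pull_closed_affine {X Z : Scheme.{u}} [IsAffine X] (i : Z ⟶ X) [IsClosedImmersion i]
    (F : EtCoh.Ab X) (hT : EtCoh.IsTorsion F) (hF : EtaleAffAcyclic F) (q : ℕ) :
    Subsingleton (EtCoh.H Z ((EtCoh.pull i).obj F) (q + 1)) := by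
  let A : CommRingCat.{u} := Γ(X, ⊤)
  let s := X.isoSpec
  obtain ⟨I, e, he⟩ := IsClosedImmersion.Spec_iff.1 (inferInstance : IsClosedImmersion (i ≫ s.hom))
  have hG := subsingleton_H_spec_quotient A I ((EtCoh.pull s.inv).obj F) (BigDesc.isTorsion_pull s.inv hT)
    (etaleAffAcyclic_pull s.inv hF) q
  have h1 := subsingleton_H_pull_of_pull (Spec.map (CommRingCat.ofHom (Ideal.Quotient.mk I))) s.inv _ rfl F (q + 1) hG
  refine subsingleton_of_iso e.hom _ i ?_ F (q + 1) h1
  rw [← Category.assoc]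
  erw [← he]
  rw [Category.assoc, Iso.hom_inv_id, Category.comp_id]

end Groth.Agent.GabberAff13
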