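import Groth.Agent.EtFound.AbsNormal
import Groth.Agent.EtFound.LiftEtale
import Groth.Agent.Hensel.LiftEtaleAlg
import Mathlib.AlgebraicGeometry.Morphisms.Finite
import Mathlib.AlgebraicGeometry.PullbackCarrier

/-!
# Closed subschemes of absolutely integrally closed affine schemes
-/

set_option autoImplicit false
set_option linter.style.haveILetI false
set_option backward.isDefEq.respectTransparency false
set_option backward.isDefEq.respectTransparency.types false

universe u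

open CategoryTheory CategoryTheory.Limits AlgebraicGeometry TopologicalSpace TensorProduct

namespace Groth.Agent.GabberAff13

/-- An affine open subscheme of a normal integral scheme with separably closed function field. -/
def IsAic (S : Scheme.{u}) : Prop :=
  IsAffine S ∧ ∃ (S₀ : Scheme.{u}) (o : S ⟶ S₀) (_ : IsOpenImmersion o) (_ : IsIntegral S₀),
    IsSepClosed S₀.functionField ∧ ∀ w : S₀, IsIntegrallyClosed (S₀.presheaf.stalk w)

theorem IsAic.basicOpen {S : Scheme.{u}} (hS : IsAic S) (f : Γ(S, ⊤)) : IsAic (S.basicOpen f) := by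
  obtain ⟨hA, S₀, o, ho, hI, hsc, hN⟩ := hS
  exact ⟨(isAffineOpen_top S).basicOpen f, S₀, (S.basicOpen f).ι ≫ o, inferInstance, hI, hsc, hN⟩

/-- Every affine scheme receives an integral surjection from a closed subscheme of such a scheme. -/
theorem exists_aic_cover (Y : Scheme.{u}) [IsAffine Y] :
    ∃ (W S : Scheme.{u}) (q : W ⟶ Y) (k : W ⟶ S), IsIntegralHom q ∧ Function.Surjective q ∧
      IsClosedImmersion k ∧ IsAic S := by
  let P : CommRingCat.{u} := CommRingCat.of (MvPolynomial Γ(Y, ⊤) (ULift.{u} ℤ))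
  let φ : P ⟶ Γ(Y, ⊤) := CommRingCat.ofHom (MvPolynomial.eval₂Hom
    ((Int.castRingHom Γ(Y, ⊤)).comp (ULift.ringEquiv : ULift.{u} ℤ ≃+* ℤ).toRingHom) id)
  have hφ : Function.Surjective φ.hom := fun x => ⟨MvPolynomial.X x, MvPolynomial.eval₂Hom_X' _ _ _⟩
  haveI : IsClosedImmersion (Spec.map φ) := IsClosedImmersion.spec_of_surjective φ hφ
  let i : Y ⟶ Spec P := Y.isoSpec.hom ≫ Spec.map φ
  haveI : IsClosedImmersion i := inferInstance
  haveI : IsDomain (ULift.{u} ℤ) := MulEquiv.isDomain ℤ (ULift.ringEquiv : ULift.{u} ℤ ≃+* ℤ).toMulEquiv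
  haveI : IsDomain P := inferInstanceAs (IsDomain (MvPolynomial Γ(Y, ⊤) (ULift.{u} ℤ)))
  haveI : IsIntegral (Spec P) := inferInstance
  obtain ⟨S, ω, _, _, hcl, hN, hη⟩ := AbsNormal.exists_absolute (Spec P)
  haveI : IsAffine S := isAffine_of_isAffineHom ω
  haveI : Surjective ω := by
    refine ⟨fun y => ?_⟩
    have hc : IsClosed (Set.range ω) := ω.isClosedMap.isClosed_range
    have : closure {genericPoint (Spec P)} ⊆ Set.range ω := hc.closure_subset_iff.2 (by
      rintro _ rfl; exact ⟨_, hη⟩)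
    exact this (by rw [(genericPoint_spec (Spec P)).def]; trivial)
  haveI : IsSepClosed S.functionField := inferInstance
  exact ⟨pullback i ω, S, pullback.fst i ω, pullback.snd i ω, MorphismProperty.pullback_fst _ _ ‹IsIntegralHom ω›,
    (MorphismProperty.pullback_fst (P := @Surjective) _ _ ‹Surjective ω› : Surjective (pullback.fst i ω)).surj,
    inferInstance, ‹IsAffine S›, S, 𝟙 S, inferInstance, inferInstance, inferInstance, hN⟩

/-- Étale schemes over such a scheme split into open subschemes of it. -/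
theorem IsAic.exists_decomp {S T : Scheme.{u}} (hS : IsAic S) (q : T ⟶ S) [AlgebraicGeometry.Etale q]
    [CompactSpace T] [IsSeparated q] :
    ∃ (κ : Type u) (_ : Finite κ) (C : κ → T.Opens),
      (∀ t, ∃! k, t ∈ C k) ∧ ∀ k, IsOpenImmersion ((C k).ι ≫ q) := by
  obtain ⟨-, S₀, o, _, _, hsc, hN⟩ := hS
  haveI : IsSepClosed S₀.functionField := hsc
  haveI : IsSeparated o := inferInstance
  let f : T ⟶ S₀ := q ≫ o
  haveI : AlgebraicGeometry.Etale f := inferInstance
  haveI : IsSeparated f := inferInstance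
  let η := genericPoint S₀
  -- charts contain exactly one point over the generic point
  have hgen : ∀ (O : T.Opens), IsOpenImmersion (O.ι ≫ f) → ∀ t ∈ O, ∃ e ∈ O, f e = η ∧ e ⤳ t := by
    intro O hO t ht
    haveI := hO
    have hη : η ∈ Set.range (O.ι ≫ f) := (genericPoint_spec S₀).mem_open_set_iff
      (O.ι ≫ f).isOpenEmbedding.isOpen_range |>.2 ⟨(O.ι ≫ f) ⟨t, ht⟩, trivial, ⟨_, rfl⟩⟩
    obtain ⟨⟨e, he⟩, hee⟩ := hη
    refine ⟨e, he, hee, ?_⟩
    have h1 : (O.ι ≫ f) ⟨e, he⟩ ⤳ (O.ι ≫ f) ⟨t, ht⟩ := by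
      rw [hee]; exact genericPoint_specializes _
    exact ((O.ι ≫ f).isOpenEmbedding.isInducing.specializes_iff.1 h1).map O.ι.continuous
  have huniq : ∀ (O : T.Opens), IsOpenImmersion (O.ι ≫ f) → ∀ e ∈ O, ∀ e' ∈ O, f e = f e' → e = e' := by
    intro O hO e he e' he' h
    haveI := hO
    exact congrArg Subtype.val (@Subtype.ext _ _ ⟨e, he⟩ ⟨e', he'⟩ (congrArg Subtype.val
      ((O.ι ≫ f).isOpenEmbedding.injective (a₁ := ⟨e, he⟩) (a₂ := ⟨e', he'⟩) h)))
  choose ch hch hopen using fun t => AbsNormal.exists_chart hN f t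
  let κ : Type u := {e : T // f e = η}
  haveI : Finite κ := by
    obtain ⟨s, hs⟩ := isCompact_univ.elim_finite_subcover (fun t : T => (ch t : Set T)) (fun t => (ch t).2)
      fun t _ => Set.mem_iUnion.2 ⟨t, hch t⟩
    have hx : ∀ e : κ, ∃ t : s, e.1 ∈ ch t.1 := fun e => by
      obtain ⟨i, hi, hei⟩ : ∃ i ∈ s, e.1 ∈ ch i := by simpa using hs (Set.mem_univ e.1)
      exact ⟨⟨i, hi⟩, hei⟩
    choose g hg using hx
    exact Finite.of_injective g fun e e' h => Subtype.ext
      (huniq _ (hopen _) _ (hg e) _ (h ▸ hg e') (e.2.trans e'.2.symm))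
  let C : κ → T.Opens := fun k => sSup {O | IsOpenImmersion (O.ι ≫ f) ∧ k.1 ∈ O}
  have hC : ∀ t k, t ∈ C k ↔ ∃ O : T.Opens, IsOpenImmersion (O.ι ≫ f) ∧ k.1 ∈ O ∧ t ∈ O := fun t k => by
    simp only [C, Opens.mem_sSup, Set.mem_ofPred_eq, and_assoc]
  refine ⟨κ, inferInstance, C, fun t => ?_, fun k => ?_⟩
  · obtain ⟨e, he, hee, -⟩ := hgen _ (hopen t) t (hch t)
    refine ⟨⟨e, hee⟩, (hC t _).2 ⟨_, hopen t, he, hch t⟩, fun k' hk' => ?_⟩
    obtain ⟨O', hO', hk'O, htO'⟩ := (hC t k').1 hk'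
    haveI := hopen t
    haveI : IsOpenImmersion ((ch t ⊓ O').ι ≫ f) := by
      rw [← T.homOfLE_ι (inf_le_left : ch t ⊓ O' ≤ ch t), Category.assoc]
      infer_instance
    obtain ⟨e'', he'', hee'', -⟩ := hgen (ch t ⊓ O') inferInstance t ⟨hch t, htO'⟩
    exact Subtype.ext ((huniq O' hO' _ hk'O _ he''.2 (k'.2.trans hee''.symm)).trans
      (huniq _ (hopen t) _ he''.1 _ he (hee''.trans hee.symm)))
  · let c : (C k : Scheme.{u}) ⟶ S₀ := (C k).ι ≫ f
    haveI : AlgebraicGeometry.Etale c := inferInstance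
    haveI : IsSeparated c := inferInstance
    haveI : IsOpenImmersion (pullback.diagonal c) := inferInstance
    have hkey : ∀ t : (C k : Scheme.{u}), c t = η → t.1 = k.1 := fun t ht => by
      obtain ⟨O, hO, hkO, htO⟩ := (hC t.1 k).1 t.2
      exact huniq O hO _ htO _ hkO (ht.trans k.2.symm)
    obtain ⟨O, hO, hkO⟩ : ∃ O : T.Opens, IsOpenImmersion (O.ι ≫ f) ∧ k.1 ∈ O := ⟨_, hopen k.1, hch k.1⟩
    have hOC : O ≤ C k := le_sSup (show O ∈ {O : T.Opens | IsOpenImmersion (O.ι ≫ f) ∧ k.1 ∈ O} from ⟨hO, hkO⟩)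
    let l : (O : Scheme.{u}) ⟶ C k := T.homOfLE hOC
    have hl : l ≫ c = O.ι ≫ f := by simp [l, c]
    haveI : IsOpenImmersion (l ≫ c) := by rw [hl]; exact hO
    haveI : Mono (l ≫ c) := inferInstance
    haveI : Surjective (pullback.diagonal c) := by
      refine ⟨fun p => ?_⟩
      let P := pullback c c
      haveI : AlgebraicGeometry.Etale (pullback.fst c c) := MorphismProperty.pullback_fst _ _ inferInstance
      let g : P ⟶ S₀ := pullback.fst c c ≫ c
      haveI : AlgebraicGeometry.Etale g := inferInstance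
      obtain ⟨Op, hpO, hOp⟩ := AbsNormal.exists_chart hN g p
      haveI := hOp
      have hη : η ∈ Set.range (Op.ι ≫ g) := (genericPoint_spec S₀).mem_open_set_iff
        (Op.ι ≫ g).isOpenEmbedding.isOpen_range |>.2 ⟨(Op.ι ≫ g) ⟨p, hpO⟩, trivial, ⟨_, rfl⟩⟩
      obtain ⟨pη, hpη⟩ := hη
      have hsp : Op.ι pη ⤳ p := by
        have h1 : (Op.ι ≫ g) pη ⤳ (Op.ι ≫ g) ⟨p, hpO⟩ := by rw [hpη]; exact genericPoint_specializes _
        exact ((Op.ι ≫ g).isOpenEmbedding.isInducing.specializes_iff.1 h1).map Op.ι.continuous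
      suffices Op.ι pη ∈ Set.range (pullback.diagonal c) from
        hsp.mem_closed (pullback.diagonal c).isClosedMap.isClosed_range this
      have hmem : ∀ t : (C k : Scheme.{u}), c t = η → t ∈ Set.range l := fun t ht =>
        ⟨⟨k.1, hkO⟩, Subtype.ext ((by simp [l] : (l ⟨k.1, hkO⟩).1 = k.1).trans (hkey t ht).symm)⟩
      have h2 : Op.ι pη ∈ Set.range (pullback.map (l ≫ c) (l ≫ c) c c l l (𝟙 _) (by simp) (by simp)) := by
        rw [Scheme.Pullback.range_map]
        refine ⟨hmem _ hpη, hmem _ ?_⟩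
        rw [← Scheme.Hom.comp_apply, ← pullback.condition]
        exact hpη
      obtain ⟨r, hr⟩ := h2
      haveI : IsIso (pullback.diagonal (l ≫ c)) := (pullback.isIso_diagonal_iff _).2 inferInstance
      obtain ⟨r', rfl⟩ := (pullback.diagonal (l ≫ c)).surjective r
      refine ⟨l r', ?_⟩
      rw [← hr, ← Scheme.Hom.comp_apply, ← Scheme.Hom.comp_apply]
      refine congrArg (fun t : (O : Scheme.{u}) ⟶ pullback c c => t r') ?_
      apply pullback.hom_ext <;> simp
    haveI : IsIso (pullback.diagonal c) := (isIso_iff_isOpenImmersion_and_surjective _).2 ⟨inferInstance, inferInstance⟩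
    haveI : Mono c := (pullback.isIso_diagonal_iff c).1 inferInstance
    haveI : IsOpenImmersion c := IsOpenImmersion.of_flat_of_mono c
    haveI : IsOpenImmersion (((C k).ι ≫ q) ≫ o) := by rw [Category.assoc]; exact ‹IsOpenImmersion c›
    exact IsOpenImmersion.of_comp _ o

/-- Finite étale covers of closed subschemes have sections. -/
theorem exists_section {S Z E : Scheme.{u}} (hS : IsAic S) (i : Z ⟶ S) [IsClosedImmersion i]
    (p : E ⟶ Z) [IsFinite p] [AlgebraicGeometry.Etale p] (hp : Function.Surjective p) :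
    ∃ s : Z ⟶ E, s ≫ p = 𝟙 Z := by
  classical
  haveI : IsAffine S := hS.1
  obtain ⟨T, q, h, hq, hTc, hTs, hh⟩ : ∃ (T : Scheme.{u}) (q : T ⟶ S) (h : E ⟶ T),
      AlgebraicGeometry.Etale q ∧ CompactSpace T ∧ IsSeparated q ∧ IsPullback h p q i := by
    haveI : IsAffine Z := isAffine_of_isAffineHom i
    haveI : IsAffine E := isAffine_of_isAffineHom p
    let φ : Γ(S, ⊤) ⟶ Γ(Z, ⊤) := i.appTop
    let ψ : Γ(Z, ⊤) ⟶ Γ(E, ⊤) := p.appTop
    algebraize [φ.hom, ψ.hom]
    have hT : Function.Surjective (algebraMap Γ(S, ⊤) Γ(Z, ⊤)) :=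
      (IsClosedImmersion.isAffine_surjective_of_isAffine (f := i)).2
    haveI : Algebra.Etale Γ(Z, ⊤) Γ(E, ⊤) := RingHom.etale_algebraMap.1
      ((HasRingHomProperty.iff_of_isAffine (P := @AlgebraicGeometry.Etale)).1 ‹AlgebraicGeometry.Etale p›)
    obtain ⟨B, _, _, hB, ⟨e⟩⟩ := Hensel.exists_etale_algebra_lift (A := Γ(S, ⊤)) (T := Γ(Z, ⊤)) (C := Γ(E, ⊤)) hT
    let q₀ : Spec (CommRingCat.of B) ⟶ S := Spec.map (CommRingCat.ofHom (algebraMap Γ(S, ⊤) B)) ≫ S.isoSpec.inv
    haveI : AlgebraicGeometry.Etale (Spec.map (CommRingCat.ofHom (algebraMap Γ(S, ⊤) B))) :=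
      (HasRingHomProperty.Spec_iff (P := @AlgebraicGeometry.Etale)).2 (RingHom.etale_algebraMap.2 hB)
    refine ⟨_, q₀, E.isoSpec.hom ≫ Spec.map (CommRingCat.ofHom
      (e.toRingHom.comp (Algebra.TensorProduct.includeRight : B →ₐ[Γ(S, ⊤)] Γ(Z, ⊤) ⊗[Γ(S, ⊤)] B).toRingHom)),
      inferInstance, inferInstance, inferInstance, ?_⟩
    have sq := (IsPullback.of_hasPullback (Spec.map (CommRingCat.ofHom (algebraMap Γ(S, ⊤) Γ(Z, ⊤))))
      (Spec.map (CommRingCat.ofHom (algebraMap Γ(S, ⊤) B)))).flip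
    let k : E ≅ pullback (Spec.map (CommRingCat.ofHom (algebraMap Γ(S, ⊤) Γ(Z, ⊤))))
        (Spec.map (CommRingCat.ofHom (algebraMap Γ(S, ⊤) B))) :=
      E.isoSpec ≪≫ Scheme.Spec.mapIso e.toRingEquiv.toCommRingCatIso.op ≪≫ (pullbackSpecIso _ _ _).symm
    refine sq.of_iso k.symm (Iso.refl _) Z.isoSpec.symm S.isoSpec.symm ?_ ?_ ?_ ?_
    · rw [Iso.refl_hom, Category.comp_id, ← Iso.inv_comp_eq]
      simp [k, Scheme.Spec_map, ← Spec.map_comp]
    · rw [← Iso.inv_comp_eq]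
      simp only [k, Iso.trans_inv, Iso.symm_hom, Iso.symm_inv, Category.assoc, pullbackSpecIso_inv_fst_assoc,
        Iso.trans_hom, Functor.mapIso_hom, Scheme.Spec_map, Iso.op_hom, Quiver.Hom.unop_op]
      have he : Spec.map e.toRingEquiv.toCommRingCatIso.hom ≫
          Spec.map (CommRingCat.ofHom (Algebra.TensorProduct.includeLeftRingHom (A := Γ(Z, ⊤)) (B := B) (R := Γ(S, ⊤)))) =
          Spec.map ψ := by
        rw [← Spec.map_comp]
        congr 1
        ext z
        exact e.commutes z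
      rw [reassoc_of% he, Scheme.isoSpec_inv_naturality, Iso.hom_inv_id_assoc]
    · simp [q₀]
    · show _ = Z.isoSpec.inv ≫ i
      rw [← Scheme.isoSpec_inv_naturality]
      rfl
  obtain ⟨κ, _, C, hC, hCo⟩ := hS.exists_decomp q
  let F : κ → E.Opens := fun k => h ⁻¹ᵁ C k
  have hmono : ∀ k, Mono ((F k).ι ≫ p) := fun k => by
    haveI := hCo k
    have := IsPullback.paste_horiz (isPullback_morphismRestrict h (C k)).flip hh.flip
    refine ⟨fun {W} a b hab => this.hom_ext hab ?_⟩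
    rw [← cancel_mono ((C k).ι ≫ q)]
    have e1 : (h ∣_ C k) ≫ (C k).ι ≫ q = ((F k).ι ≫ p) ≫ i := this.w.symm
    simp only [Category.assoc] at e1 ⊢
    rw [e1]
    simpa only [Category.assoc] using congrArg (· ≫ i) hab
  have hcl : ∀ k, IsClosed (F k : Set E) := fun k => by
    have : (F k : Set E) = (⋃ k' ≠ k, (F k' : Set E))ᶜ := by
      ext e
      simp only [Set.mem_compl_iff, Set.mem_iUnion, not_exists]
      obtain ⟨k₀, hk₀, huni⟩ := hC (h e)
      refine ⟨fun he k' hk' he' => hk' ((huni k' he').trans (huni k he).symm), fun he => ?_⟩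
      by_cases hk : k₀ = k
      · exact hk ▸ hk₀
      · exact absurd hk₀ (he k₀ hk)
    rw [this, isClosed_compl_iff]
    exact isOpen_iUnion fun k' => isOpen_iUnion fun _ => (F k').2
  let Img : κ → Set Z := fun k => p '' F k
  have hImg : ∀ k, IsClopen (Img k) := fun k => ⟨p.isClosedMap _ (hcl k), p.isOpenMap _ (F k).2⟩
  obtain ⟨n, ⟨σ⟩⟩ := Finite.exists_equiv_fin κ
  let P : κ → Z.Opens := fun k =>
    ⟨Img k \ ⋃ k' ∈ {k' : κ | σ k' < σ k}, Img k', ((hImg k).diff
      (Set.Finite.isClopen_biUnion (Set.toFinite _) fun k' _ => hImg k')).isOpen⟩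
  have hPd : ∀ k k', k ≠ k' → Disjoint (P k : Set Z) (P k' : Set Z) := fun k k' hne => by
    rw [Set.disjoint_left]
    rintro z ⟨hz, hz'⟩ ⟨hz₂, hz₂'⟩
    rcases lt_or_gt_of_ne (σ.injective.ne hne) with hlt | hlt
    · exact hz₂' (Set.mem_biUnion hlt hz)
    · exact hz' (Set.mem_biUnion hlt hz₂)
  have hPc : ∀ z, ∃ k, z ∈ P k := fun z => by
    have hne : ∃ j : Fin n, z ∈ Img (σ.symm j) := by
      obtain ⟨e, he⟩ := hp z
      obtain ⟨k₀, hk₀, -⟩ := hC (h e)
      exact ⟨σ k₀, by rw [Equiv.symm_apply_apply]; exact ⟨e, hk₀, he⟩⟩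
    refine ⟨σ.symm (Fin.find (fun j => z ∈ Img (σ.symm j)) hne), Fin.find_spec hne, ?_⟩
    simp only [Set.mem_ofPred_eq, Set.mem_iUnion, not_exists]
    intro k' hk' hz'
    rw [Equiv.apply_symm_apply] at hk'
    exact Fin.find_min hne hk' (by rw [Equiv.symm_apply_apply]; exact hz')
  have hiso : ∀ k, ∃ s : (P k : Scheme.{u}) ⟶ E, s ≫ p = (P k).ι := fun k => by
    let g := ((F k).ι ≫ p) ∣_ P k
    haveI := hmono k
    haveI : AlgebraicGeometry.Etale ((F k).ι ≫ p) := inferInstance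
    haveI : IsOpenImmersion ((F k).ι ≫ p) := IsOpenImmersion.of_flat_of_mono _
    haveI : IsOpenImmersion g := inferInstance
    haveI : Surjective g := ⟨fun z => by
      obtain ⟨e, he, hez⟩ := z.2.1
      refine ⟨⟨⟨e, he⟩, ?_⟩, Subtype.ext ?_⟩
      · show p e ∈ P k; rw [hez]; exact z.2
      · exact (morphismRestrict_base_coe ((F k).ι ≫ p) (P k) _).trans hez⟩
    haveI : IsIso g := (isIso_iff_isOpenImmersion_and_surjective _).2 ⟨inferInstance, inferInstance⟩
    refine ⟨inv g ≫ (((F k).ι ≫ p) ⁻¹ᵁ P k).ι ≫ (F k).ι, ?_⟩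
    rw [Category.assoc, Category.assoc, ← morphismRestrict_ι, IsIso.inv_hom_id_assoc]
  choose s hs using hiso
  let 𝒰 : Z.OpenCover := Z.openCoverOfIsOpenCover P (by
    rw [IsOpenCover, eq_top_iff]
    exact fun z _ => Opens.mem_iSup.2 (hPc z))
  have hglue : ∀ a b, pullback.fst (𝒰.f a) (𝒰.f b) ≫ s a = pullback.snd (𝒰.f a) (𝒰.f b) ≫ s b := fun a b => by
    by_cases hab : a = b
    · subst hab
      haveI : Mono (𝒰.f a) := inferInstance
      rw [fst_eq_snd_of_mono_eq]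
    · haveI : IsEmpty (pullback (𝒰.f a) (𝒰.f b) : Scheme.{u}) := ⟨fun w => by
        let w1 : (P a : Scheme.{u}) := pullback.fst (𝒰.f a) (𝒰.f b) w
        let w2 : (P b : Scheme.{u}) := pullback.snd (𝒰.f a) (𝒰.f b) w
        have e : w1.1 = w2.1 := congrArg (fun t => t w) (pullback.condition (f := 𝒰.f a) (g := 𝒰.f b))
        exact Set.disjoint_left.1 (hPd a b hab) w1.2 (e ▸ w2.2)⟩
      exact (isInitialOfIsEmpty (X := pullback (𝒰.f a) (𝒰.f b))).hom_ext _ _
  refine ⟨𝒰.glueMorphisms s hglue, 𝒰.hom_ext _ _ fun a => ?_⟩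
  rw [Scheme.Cover.ι_glueMorphisms_assoc, Category.comp_id]
  exact hs a

/-- Étale schemes over closed subschemes have sections near each point. -/
theorem exists_local_section {S Z V : Scheme.{u}} (hS : IsAic S) (i : Z ⟶ S) [IsClosedImmersion i]
    (v : V ⟶ Z) [AlgebraicGeometry.Etale v] (x : V) :
    ∃ (O : Z.Opens) (s : (O : Scheme.{u}) ⟶ V), v x ∈ O ∧ s ≫ v = O.ι := by
  obtain ⟨W, h, hh, hh', w, hw⟩ := EtFound.exists_etale_lift i v x
  obtain ⟨-, S₀, o, _, _, hsc, hN⟩ := hS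
  haveI : IsSepClosed S₀.functionField := hsc
  haveI : AlgebraicGeometry.Etale W.hom := W.prop
  obtain ⟨O, hO, hOi⟩ := AbsNormal.exists_chart hN (W.hom ≫ o) (pullback.fst W.hom i w)
  haveI := hOi
  haveI : IsOpenImmersion ((O.ι ≫ W.hom) ≫ o) := by rw [Category.assoc]; exact hOi
  haveI : IsOpenImmersion (O.ι ≫ W.hom) := IsOpenImmersion.of_comp _ o
  let ρ : pullback (O.ι ≫ W.hom) i ⟶ Z := pullback.snd (O.ι ≫ W.hom) i
  haveI : IsOpenImmersion ρ := inferInstance
  refine ⟨ρ.opensRange, ρ.isoOpensRange.inv ≫ pullback.map (O.ι ≫ W.hom) i W.hom i O.ι (𝟙 _) (𝟙 _) (by simp) (by simp) ≫ h,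
    ?_, ?_⟩
  · obtain ⟨a, ha1, ha2⟩ := Scheme.Pullback.exists_preimage_pullback (f := O.ι ≫ W.hom) (g := i) ⟨_, hO⟩
      (pullback.snd W.hom i w) (by
        show W.hom (pullback.fst W.hom i w) = i (pullback.snd W.hom i w)
        rw [← Scheme.Hom.comp_apply, pullback.condition]; rfl)
    refine ⟨a, ha2.trans ?_⟩
    rw [← hw, ← hh]
    exact (Scheme.Hom.comp_apply _ _ _)
  · rw [Category.assoc, Category.assoc, hh, pullback.lift_snd, Category.comp_id]
    exact ρ.isoOpensRange_inv_comp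

end Groth.Agent.GabberAff13
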