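import Groth.Agent.GabberAff13.BcIso
import Groth.Agent.BcBridge.Paste
import Groth.Agent.SiteBase.RpushD.Single
import Mathlib.CategoryTheory.Abelian.DiagramLemmas.Four

/-!
# Proper base change for bounded below complexes with torsion cohomology
-/

set_option autoImplicit false
set_option linter.style.haveILetI false
set_option backward.isDefEq.respectTransparency false
set_option backward.isDefEq.respectTransparency.types false
set_option maxHeartbeats 1000000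

universe v w u

open CategoryTheory CategoryTheory.Limits AlgebraicGeometry Opposite Pretriangulated
open Groth.Agent.BCCrit13 (isTorsion_of_epi)

attribute [local instance] HasDerivedCategory.standard

namespace Groth.Agent.GabberAff13

section Chase

variable {C : Type w} [Category.{v} C] [Abelian C]

theorem isIso_middle {A₀ A₁ A₂ A₃ A₄ B₀ B₁ B₂ B₃ B₄ : C} {f₀ : A₀ ⟶ A₁} {f₁ : A₁ ⟶ A₂} {f₂ : A₂ ⟶ A₃} {f₃ : A₃ ⟶ A₄}
    {g₀ : B₀ ⟶ B₁} {g₁ : B₁ ⟶ B₂} {g₂ : B₂ ⟶ B₃} {g₃ : B₃ ⟶ B₄}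
    {w₀ : f₀ ≫ f₁ = 0} {w₁ : f₁ ≫ f₂ = 0} {w₂ : f₂ ≫ f₃ = 0}
    {v₀ : g₀ ≫ g₁ = 0} {v₁ : g₁ ≫ g₂ = 0} {v₂ : g₂ ≫ g₃ = 0}
    (hA₁ : (ShortComplex.mk f₁ f₂ w₁).Exact) (hA₂ : (ShortComplex.mk f₂ f₃ w₂).Exact)
    (hB₀ : (ShortComplex.mk g₀ g₁ v₀).Exact) (hB₁ : (ShortComplex.mk g₁ g₂ v₁).Exact)
    {a₀ : A₀ ⟶ B₀} {a₁ : A₁ ⟶ B₁} {a₂ : A₂ ⟶ B₂} {a₃ : A₃ ⟶ B₃} {a₄ : A₄ ⟶ B₄}
    [Epi a₀] [IsIso a₁] [IsIso a₃] [Mono a₄]
    (h₀ : f₀ ≫ a₁ = a₀ ≫ g₀) (h₁ : f₁ ≫ a₂ = a₁ ≫ g₁) (h₂ : f₂ ≫ a₃ = a₂ ≫ g₂) (h₃ : f₃ ≫ a₄ = a₃ ≫ g₃) :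
    IsIso a₂ := by
  haveI : Mono a₂ := by
    refine Preadditive.mono_of_cancel_zero _ fun {T} x hx => ?_
    have h : x ≫ f₂ = 0 := (cancel_mono a₃).1 (by rw [zero_comp, Category.assoc, h₂, ← Category.assoc, hx, zero_comp])
    obtain ⟨T₁, p, hp, y, hy⟩ := hA₁.exact_up_to_refinements x h
    have h' : (y ≫ a₁) ≫ g₁ = 0 := by
      rw [Category.assoc, ← h₁, ← Category.assoc]
      refine (congrArg (· ≫ a₂) hy.symm).trans ?_
      rw [Category.assoc, hx, comp_zero]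
    obtain ⟨T₂, p₂, hp₂, z, hz⟩ := hB₀.exact_up_to_refinements (y ≫ a₁) h'
    obtain ⟨T₃, p₃, hp₃, t, ht⟩ := surjective_up_to_refinements_of_epi a₀ z
    dsimp at hy hz
    have key : p₃ ≫ p₂ ≫ y = t ≫ f₀ := (cancel_mono a₁).1 (by
      rw [Category.assoc, Category.assoc, Category.assoc, h₀, hz, reassoc_of% ht])
    refine (cancel_epi (p₃ ≫ p₂ ≫ p)).1 ?_
    rw [comp_zero, Category.assoc, Category.assoc, hy, reassoc_of% key, w₀, comp_zero]
  haveI : Epi a₂ := by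
    refine (epi_iff_surjective_up_to_refinements a₂).2 fun {T} b => ?_
    have h : ((b ≫ g₂) ≫ inv a₃) ≫ f₃ = 0 := (cancel_mono a₄).1 (by
      rw [zero_comp, Category.assoc, h₃, Category.assoc, IsIso.inv_hom_id_assoc, Category.assoc, v₂, comp_zero])
    obtain ⟨T₁, p, hp, x, hx⟩ := hA₂.exact_up_to_refinements _ h
    dsimp at hx
    have h' : (p ≫ b - x ≫ a₂) ≫ g₂ = 0 := by
      rw [Preadditive.sub_comp, sub_eq_zero, Category.assoc, Category.assoc, ← h₂, ← reassoc_of% hx,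
        IsIso.inv_hom_id, Category.comp_id]
    obtain ⟨T₂, p₂, hp₂, y, hy⟩ := hB₁.exact_up_to_refinements _ h'
    dsimp at hy
    refine ⟨T₂, p₂ ≫ p, epi_comp _ _, p₂ ≫ x + (y ≫ inv a₁) ≫ f₁, ?_⟩
    rw [Preadditive.comp_sub, sub_eq_iff_eq_add] at hy
    rw [Category.assoc, hy, Preadditive.add_comp, Category.assoc, Category.assoc, Category.assoc, h₁,
      IsIso.inv_hom_id_assoc, add_comm]
  exact isIso_of_mono_of_epi a₂

end Chase

theorem isTorsion_of_injective_map {Y : Scheme.{u}} {F G : EtCoh.Ab Y} (a : F ⟶ G) [Mono a] (hG : EtCoh.IsTorsion G) :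
    EtCoh.IsTorsion F := fun U s x => by
  obtain ⟨V, k, hv, hfin⟩ := hG U (a.hom.app (op U) s) x
  refine ⟨V, k, hv, ?_⟩
  haveI : Mono a.hom := (sheafToPresheaf _ _).map_mono a
  have hinj : Function.Injective (a.hom.app (op V)).hom := (AddCommGrpCat.mono_iff_injective _).1 inferInstance
  refine (hinj.isOfFinAddOrder_iff (x := F.obj.map k.op s)).1 ?_
  exact Eq.mp (congrArg IsOfFinAddOrder (ConcreteCategory.congr_hom (a.hom.naturality k.op) s).symm) hfin

variable {X S X' S' : Scheme.{u}} (f : X ⟶ S) (g : S' ⟶ S) (f' : X' ⟶ S') (g' : X' ⟶ X)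

theorem exact_H_rpush {Y Z : Scheme.{u}} (p : Y ⟶ Z) [DCoh.HasRpushEt Y p] (T : Triangle (DCoh.DEt Y))
    (hT : T ∈ distTriang (DCoh.DEt Y)) :
    ∃ c, Triangle.mk ((DCoh.RpushEt Y p).map T.mor₁) ((DCoh.RpushEt Y p).map T.mor₂) c ∈ distTriang (DCoh.DEt Z) :=
  SiteBase.RpushD.exists_triangle (EtCoh.push p) T hT

variable [PreservesFiniteLimits (EtCoh.pull g)] [PreservesFiniteLimits (EtCoh.pull g')]
  [DCoh.HasRpushEt X f] [DCoh.HasRpushEt X' f']

/-- The source of the base change morphism in degree `q`. -/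
noncomputable abbrev srcF (q : ℤ) (K : DCoh.DEt X) : EtCoh.Ab S' :=
  (DerivedCategory.homologyFunctor (EtCoh.Ab S') q).obj ((EtBC.pullD g).obj ((DCoh.RpushEt X f).obj K))

/-- The target of the base change morphism in degree `q`. -/
noncomputable abbrev tgtF (q : ℤ) (K : DCoh.DEt X) : EtCoh.Ab S' :=
  (DerivedCategory.homologyFunctor (EtCoh.Ab S') q).obj ((DCoh.RpushEt X' f').obj ((EtBC.pullD g').obj K))

/-- Functoriality of the source. -/
noncomputable abbrev srcMap (q : ℤ) {K L : DCoh.DEt X} (a : K ⟶ L) : srcF f g q K ⟶ srcF f g q L :=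
  (DerivedCategory.homologyFunctor (EtCoh.Ab S') q).map ((EtBC.pullD g).map ((DCoh.RpushEt X f).map a))

/-- Functoriality of the target. -/
noncomputable abbrev tgtMap (q : ℤ) {K L : DCoh.DEt X} (a : K ⟶ L) : tgtF f' g' q K ⟶ tgtF f' g' q L :=
  (DerivedCategory.homologyFunctor (EtCoh.Ab S') q).map ((DCoh.RpushEt X' f').map ((EtBC.pullD g').map a))

omit [PreservesFiniteLimits (EtCoh.pull g')] [DCoh.HasRpushEt X' f'] in
theorem exact_src (q : ℤ) (T : Triangle (DCoh.DEt X)) (hT : T ∈ distTriang (DCoh.DEt X)) :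
    ∃ w : srcMap f g q T.mor₁ ≫ srcMap f g q T.mor₂ = 0, (ShortComplex.mk _ _ w).Exact := by
  obtain ⟨c, hc⟩ := exact_H_rpush f T hT
  have h := (DerivedCategory.homologyFunctor (EtCoh.Ab S') q).map_distinguished_exact _
    ((EtBC.pullD g).map_distinguished _ hc)
  exact ⟨_, h⟩

omit [PreservesFiniteLimits (EtCoh.pull g)] [DCoh.HasRpushEt X f] in
theorem exact_tgt (q : ℤ) (T : Triangle (DCoh.DEt X)) (hT : T ∈ distTriang (DCoh.DEt X)) :
    ∃ w : tgtMap f' g' q T.mor₁ ≫ tgtMap f' g' q T.mor₂ = 0, (ShortComplex.mk _ _ w).Exact := by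
  obtain ⟨c, hc⟩ := exact_H_rpush f' _ ((EtBC.pullD g').map_distinguished T hT)
  have h := (DerivedCategory.homologyFunctor (EtCoh.Ab S') q).map_distinguished_exact _ hc
  exact ⟨_, h⟩

variable (w : g' ≫ f = f' ≫ g) [DCoh.HasRpushEt S' g] (adj : EtBC.pullD g ⊣ DCoh.RpushEt S' g)

/-- The base change morphism in degree `q`. -/
noncomputable abbrev tauQ (q : ℤ) (K : DCoh.DEt X) : srcF f g q K ⟶ tgtF f' g' q K :=
  (DerivedCategory.homologyFunctor (EtCoh.Ab S') q).map (EtBC.bcMap f g f' g' w adj K)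

theorem tauQ_naturality (q : ℤ) {K L : DCoh.DEt X} (a : K ⟶ L) :
    srcMap f g q a ≫ tauQ f g f' g' w adj q L = tauQ f g f' g' w adj q K ≫ tgtMap f' g' q a := by
  simp only [← Functor.map_comp]
  refine congrArg (DerivedCategory.homologyFunctor (EtCoh.Ab S') q).map ?_
  simp only [EtBC.bcMap]
  refine (adj.homEquiv_naturality_left_symm _ _).symm.trans (Eq.trans ?_ (adj.homEquiv_naturality_right_symm _ _))
  exact congrArg _ ((EtBC.bcAdj f g f' g' w).naturality a)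

theorem isIso_tauQ_obj₂ (q : ℤ) (T : Triangle (DCoh.DEt X)) (hT : T ∈ distTriang (DCoh.DEt X))
    [IsIso (tauQ f g f' g' w adj q T.obj₁)] [IsIso (tauQ f g f' g' w adj q T.obj₃)]
    [Epi (tauQ f g f' g' w adj q T.invRotate.obj₁)] [Mono (tauQ f g f' g' w adj q T.rotate.obj₃)] :
    IsIso (tauQ f g f' g' w adj q T.obj₂) := by
  have hl := inv_rot_of_distTriang _ hT
  have hr := rot_of_distTriang _ hT
  obtain ⟨w₀, e₀⟩ := exact_src f g q _ hl
  obtain ⟨w₁, e₁⟩ := exact_src f g q _ hT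
  obtain ⟨w₂, e₂⟩ := exact_src f g q _ hr
  obtain ⟨v₀, d₀⟩ := exact_tgt f' g' q _ hl
  obtain ⟨v₁, d₁⟩ := exact_tgt f' g' q _ hT
  obtain ⟨v₂, d₂⟩ := exact_tgt f' g' q _ hr
  haveI : IsIso (tauQ f g f' g' w adj q T.invRotate.obj₂) := inferInstanceAs (IsIso (tauQ f g f' g' w adj q T.obj₁))
  haveI : Mono (tauQ f g f' g' w adj q (T.obj₁⟦(1 : ℤ)⟧)) := inferInstanceAs (Mono (tauQ f g f' g' w adj q T.rotate.obj₃))
  haveI : IsIso (tauQ f g f' g' w adj q T.rotate.obj₂) := inferInstanceAs (IsIso (tauQ f g f' g' w adj q T.obj₃))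
  exact isIso_middle (w₀ := w₀) (v₂ := v₂) e₁ e₂ d₀ d₁ (tauQ_naturality f g f' g' w adj q T.invRotate.mor₁)
    (tauQ_naturality f g f' g' w adj q T.mor₁) (tauQ_naturality f g f' g' w adj q T.mor₂)
    (tauQ_naturality f g f' g' w adj q T.mor₃)

theorem isIso_tauQ_of_iso (q : ℤ) {K L : DCoh.DEt X} (e : K ≅ L) (hK : IsIso (tauQ f g f' g' w adj q K)) :
    IsIso (tauQ f g f' g' w adj q L) := by
  haveI : IsIso (srcMap f g q e.hom) := inferInstance
  haveI : IsIso (tgtMap f' g' q e.hom) := inferInstance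
  haveI : IsIso (srcMap f g q e.hom ≫ tauQ f g f' g' w adj q L) := by
    rw [tauQ_naturality]; infer_instance
  exact IsIso.of_isIso_comp_left (srcMap f g q e.hom) _

/-- A chain map on shifted complexes. -/
noncomputable abbrev shiftσ {I : CochainComplex (EtCoh.Ab X) ℤ} {J : CochainComplex (EtCoh.Ab X') ℤ}
    (σ : ((EtCoh.pull g').mapHomologicalComplex (ComplexShape.up ℤ)).obj I ⟶ J) (m : ℤ) :
    ((EtCoh.pull g').mapHomologicalComplex (ComplexShape.up ℤ)).obj (I⟦m⟧) ⟶ J⟦m⟧ :=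
  (((EtCoh.pull g').mapHomologicalComplex (ComplexShape.up ℤ)).commShiftIso m).hom.app I ≫ σ⟦m⟧'

omit [PreservesFiniteLimits (EtCoh.pull g)] [PreservesFiniteLimits (EtCoh.pull g')] [DCoh.HasRpushEt X f]
  [DCoh.HasRpushEt X' f'] [DCoh.HasRpushEt S' g] in
theorem quasiIso_bcChain_shift {I : CochainComplex (EtCoh.Ab X) ℤ} {J : CochainComplex (EtCoh.Ab X') ℤ}
    (σ : ((EtCoh.pull g').mapHomologicalComplex (ComplexShape.up ℤ)).obj I ⟶ J) (m : ℤ)
    [QuasiIso (BcBridge.bcChain f g f' g' w σ)] : QuasiIso (BcBridge.bcChain f g f' g' w (shiftσ g' σ m)) := by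
  let eS := ((EtCoh.pull g).mapHomologicalComplex (ComplexShape.up ℤ)).mapIso
      ((((EtCoh.push f).mapHomologicalComplex (ComplexShape.up ℤ)).commShiftIso m).app I) ≪≫
    (((EtCoh.pull g).mapHomologicalComplex (ComplexShape.up ℤ)).commShiftIso m).app _
  let eT := (((EtCoh.push f').mapHomologicalComplex (ComplexShape.up ℤ)).commShiftIso m).app J
  have h : BcBridge.bcChain f g f' g' w (shiftσ g' σ m) =
      eS.hom ≫ (BcBridge.bcChain f g f' g' w σ)⟦m⟧' ≫ eT.inv := by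
    refine HomologicalComplex.hom_ext _ _ fun i => ?_
    simp [eS, eT, shiftσ, BcBridge.bcChain, BcBridge.bcCx]
    repeat erw [Category.id_comp]
  haveI : QuasiIso ((BcBridge.bcChain f g f' g' w σ)⟦m⟧') := inferInstance
  rw [h]
  infer_instance

variable [IsProper f]

omit w in
theorem isIso_bcMap_singleFunctor (h : IsPullback g' f' f g) (m : ℤ) (F : EtCoh.Ab X) (hF : EtCoh.IsTorsion F) :
    IsIso (EtBC.bcMap f g f' g' h.w adj ((DerivedCategory.singleFunctor (EtCoh.Ab X) m).obj F)) := by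
  obtain ⟨I, hI, ⟨e⟩⟩ := BcBridge.exists_model X (EtBC.single X F)
  obtain ⟨J, σ, hJ, hσ⟩ := BcBridge.exists_pull_model g' I
  haveI : QuasiIso (BcBridge.bcChain f g f' g' h.w σ) :=
    (BcBridge.isIso_bcMap_iff f g f' g' h.w adj I J σ e).1 (isIso_bcMap_single f g f' g' h adj F hF)
  haveI : QuasiIso (σ⟦-m⟧') := inferInstance
  haveI : QuasiIso (shiftσ g' σ (-m)) := inferInstance
  haveI := quasiIso_bcChain_shift f g f' g' h.w σ (-m)
  let e' : (DerivedCategory.singleFunctor (EtCoh.Ab X) m).obj F ≅ BcBridge.qq (I⟦-m⟧) :=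
    (((DerivedCategory.singleFunctors (EtCoh.Ab X)).shiftIso (-m) m 0 (by omega)).app F).symm ≪≫
      (shiftFunctor _ (-m)).mapIso e ≪≫
      ((HomotopyCategory.quotient (EtCoh.Ab X) (ComplexShape.up ℤ) ⋙ DerivedCategory.Qh).commShiftIso (-m)).symm.app I
  exact (BcBridge.isIso_bcMap_iff f g f' g' h.w adj _ _ (shiftσ g' σ (-m)) e').2 inferInstance

omit [DCoh.HasRpushEt X' f'] [PreservesFiniteLimits (EtCoh.pull g)] in
theorem isGE_pullD {Y Z : Scheme.{u}} (p : Y ⟶ Z) [PreservesFiniteLimits (EtCoh.pull p)] (K : DCoh.DEt Z) (n : ℤ)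
    [K.IsGE n] : ((EtBC.pullD p).obj K).IsGE n := by
  refine (DerivedCategory.isGE_iff _ _).2 fun i hi => ?_
  exact ((EtCoh.pull p).map_isZero ((DerivedCategory.isGE_iff K n).1 inferInstance i hi)).of_iso
    ((KFlatLib.mapDCHomologyIso (EtCoh.pull p) i).app K)

omit w in
theorem isIso_tauQ_of_isGE (h : IsPullback g' f' f g) (q : ℤ) : ∀ (k : ℕ) (n : ℤ) (E : DCoh.DEt X), E.IsGE n →
    q < n + k → (∀ i : ℤ, EtCoh.IsTorsion (DCoh.HDEt E i)) → IsIso (tauQ f g f' g' h.w adj q E) := by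
  intro k
  induction k with
  | zero =>
    intro n E hE hq _
    have h1 : IsZero (srcF f g q E) := by
      haveI : ((DCoh.RpushEt X f).obj E).IsGE n := SiteBase.RpushD.isGE_RD (EtCoh.push f) E n
      haveI := isGE_pullD g ((DCoh.RpushEt X f).obj E) n
      exact (DerivedCategory.isGE_iff _ n).1 inferInstance q (by simpa using hq)
    have h2 : IsZero (tgtF f' g' q E) := by
      haveI := isGE_pullD g' E n
      haveI : ((DCoh.RpushEt X' f').obj ((EtBC.pullD g').obj E)).IsGE n := SiteBase.RpushD.isGE_RD (EtCoh.push f') _ n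
      exact (DerivedCategory.isGE_iff _ n).1 inferInstance q (by simpa using hq)
    exact ⟨⟨h2.to_ _, h1.eq_of_src _ _, h2.eq_of_src _ _⟩⟩
  | succ k ih =>
    intro n E hE hq htor
    let t := DerivedCategory.TStructure.t (C := EtCoh.Ab X)
    let T := (t.triangleLEGE n (n + 1) rfl).obj E
    let H := DerivedCategory.homologyFunctor (EtCoh.Ab X)
    have hT : T ∈ distTriang _ := t.triangleLEGE_distinguished n (n + 1) rfl E
    haveI : T.obj₁.IsLE n := t.isLE_truncLE_obj E n n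
    haveI : T.obj₃.IsGE (n + 1) := t.isGE_truncGE_obj E (n + 1) (n + 1)
    have z₃ : ∀ i, i ≤ n → IsZero ((H i).obj T.obj₃) := fun i hi =>
      (DerivedCategory.isGE_iff T.obj₃ (n + 1)).1 inferInstance i (by omega)
    have z₁ : ∀ i, n < i → IsZero ((H i).obj T.obj₁) := fun i hi =>
      (DerivedCategory.isLE_iff T.obj₁ n).1 inferInstance i hi
    have zE : ∀ i, i < n → IsZero ((H i).obj T.obj₂) := fun i hi => (DerivedCategory.isGE_iff E n).1 hE i hi
    have hmono : ∀ i, i ≤ n → Mono ((H i).map T.mor₁) := fun i hi =>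
      (DerivedCategory.HomologySequence.exact₁ T hT (i - 1) i (by omega)).mono_g
        ((z₃ (i - 1) (by omega)).eq_of_src _ _)
    haveI : T.obj₁.IsGE n := (DerivedCategory.isGE_iff _ _).2 fun i hi =>
      haveI := hmono i hi.le
      (zE i hi).of_mono ((H i).map T.mor₁)
    have htor₁ : EtCoh.IsTorsion ((H n).obj T.obj₁) :=
      haveI := hmono n le_rfl
      isTorsion_of_injective_map ((H n).map T.mor₁) (htor n)
    have htor₃ : ∀ i, EtCoh.IsTorsion ((H i).obj T.obj₃) := fun i => by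
      rcases le_or_gt i n with hi | hi
      · haveI : Epi (0 : DCoh.HDEt E i ⟶ (H i).obj T.obj₃) := ⟨fun a b _ => (z₃ i hi).eq_of_src a b⟩
        exact isTorsion_of_epi (0 : DCoh.HDEt E i ⟶ (H i).obj T.obj₃) (htor i)
      · haveI : Epi ((H i).map T.mor₂) := (DerivedCategory.HomologySequence.exact₃ T hT i (i + 1) rfl).epi_f
          ((z₁ (i + 1) (by omega)).eq_of_tgt _ _)
        exact isTorsion_of_epi ((H i).map T.mor₂) (htor i)
    obtain ⟨M, ⟨eM⟩⟩ := T.obj₁.exists_iso_singleFunctor_obj_of_isGE_of_isLE n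
    have hM : EtCoh.IsTorsion M := EtFound.isTorsion_of_iso
      ((H n).mapIso eM ≪≫ (DerivedCategory.singleFunctorCompHomologyFunctorIso (EtCoh.Ab X) n).app M) htor₁
    haveI : IsIso (tauQ f g f' g' h.w adj q T.obj₁) := isIso_tauQ_of_iso f g f' g' h.w adj q eM.symm
      (haveI := isIso_bcMap_singleFunctor f g f' g' adj h n M hM; Functor.map_isIso _ _)
    haveI : IsIso (tauQ f g f' g' h.w adj q T.rotate.obj₃) := isIso_tauQ_of_iso f g f' g' h.w adj q
      ((shiftFunctor _ (1 : ℤ)).mapIso eM ≪≫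
        ((DerivedCategory.singleFunctors (EtCoh.Ab X)).shiftIso 1 (n - 1) n (by omega)).app M).symm
      (haveI := isIso_bcMap_singleFunctor f g f' g' adj h (n - 1) M hM; Functor.map_isIso _ _)
    haveI : IsIso (tauQ f g f' g' h.w adj q T.obj₃) := ih (n + 1) T.obj₃ inferInstance (by omega) htor₃
    haveI : IsIso (tauQ f g f' g' h.w adj q T.invRotate.obj₁) := ih (n + 2) (T.obj₃⟦(-1 : ℤ)⟧)
      (t.isGE_shift T.obj₃ (n + 1) (-1) (n + 2) (by omega)) (by omega) fun i =>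
        EtFound.isTorsion_of_iso (((H 0).shiftIso (-1) i (i - 1) (by omega)).app T.obj₃).symm (htor₃ (i - 1))
    exact isIso_tauQ_obj₂ f g f' g' h.w adj q T hT

end Groth.Agent.GabberAff13
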