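import Groth.Agent.GabberAff13.Tower

/-!
# Chow's lemma with towers of projective lines
-/

set_option autoImplicit false
set_option backward.isDefEq.respectTransparency false
set_option backward.isDefEq.respectTransparency.types false
set_option linter.style.haveILetI false
set_option maxHeartbeats 1000000

universe u

open CategoryTheory CategoryTheory.Limits AlgebraicGeometry

namespace Groth.Agent.GabberAff13

open CohB1
open Groth.Agent.Chow17 (exists_lift isSTDom_toImage' isSTDom_restrict exists_strata_cover)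

variable {X S : Scheme.{u}}

/-- Chow's construction: a modification immersing into projective space. -/
theorem exists_chow_ucomm (hline : UComm lineMap.{u}) (f : X ⟶ S) [IsSeparated f] [LocallyOfFiniteType f] [QuasiCompact f]
    [IsAffine S] (W : X.Opens) (hW : IsCompact (W : Set X)) {m : ℕ} (U : Fin m → X.Opens)
    (hU : ∀ i, IsAffineOpen (U i)) (hWU : ∀ i, W ≤ U i) (hcov : ∀ x : X, ∃ i, x ∈ U i) :
    ∃ (X' Q : Scheme.{u}) (π : X' ⟶ X) (r : Q ⟶ S) (p : X' ⟶ Q),
      UComm r ∧ IsImmersion p ∧ p ≫ r = π ≫ f ∧ IsProper π ∧ (W : Set X) ⊆ Set.range π := by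
  haveI : ∀ i, IsAffine (U i).toScheme := fun i => hU i
  haveI : CompactSpace W.toScheme := isCompact_iff_compactSpace.1 hW
  have hQ : ∀ i, ∃ (T : Scheme.{u}) (c : T ⟶ S) (j : (U i).toScheme ⟶ T), UComm c ∧ IsImmersion j ∧ j ≫ c = (U i).ι ≫ f :=
    fun i => exists_compactification hline _
  choose P q e hq he hec using hQ
  haveI : ∀ i, IsProper (q i) := fun i => (hq i).1
  obtain ⟨Q, r, pr, hr, hpr, huniv⟩ := exists_product m P q hq
  haveI hrp := hr.1
  obtain ⟨w, hw, hwe⟩ := huniv W.toScheme (W.ι ≫ f) (fun i => X.homOfLE (hWU i) ≫ e i)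
    (fun i => by rw [Category.assoc, hec, Scheme.homOfLE_ι_assoc])
  let γ : W.toScheme ⟶ pullback f r := pullback.lift W.ι w hw.symm
  haveI : QuasiSeparatedSpace ↥(pullback f r) :=
    quasiSeparatedSpace_of_quasiSeparated (pullback.fst f r ≫ f)
  haveI : QuasiCompact γ := inferInstance
  haveI := isSTDom_toImage' γ
  let j₀ : W.toScheme ⟶ γ.image := γ.toImage
  let π : γ.image ⟶ X := γ.imageι ≫ pullback.fst f r
  let p : γ.image ⟶ Q := γ.imageι ≫ pullback.snd f r
  haveI hd : ∀ A : γ.image.Opens, IsSchemeTheoreticallyDominant (j₀ ∣_ A) := fun A => isSTDom_restrict _ A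
  have hπf : π ≫ f = p ≫ r := by simp only [π, p, Category.assoc, pullback.condition]
  have hjπ : j₀ ≫ π = W.ι := by
    simp only [j₀, π, Scheme.Hom.toImage_imageι_assoc, γ, pullback.lift_fst]
  have hjp : j₀ ≫ p = w := by
    simp only [j₀, p, Scheme.Hom.toImage_imageι_assoc, γ, pullback.lift_snd]
  have himm : IsImmersion p := by
    refine VAmpleX.isImmersion_of_immersion_on p
      (fun i : ULift.{u} (Fin m) => pr i.down ⁻¹ᵁ (e i.down).coborderRange) (fun x => ?_) (fun ⟨i⟩ => ?_)
    · obtain ⟨i, hi⟩ := hcov (π x)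
      refine ⟨⟨i⟩, ?_⟩
      let A := π ⁻¹ᵁ U i
      have hA : (π ∣_ U i) ≫ e i = A.ι ≫ p ≫ pr i := by
        have hres : (j₀ ∣_ A) ≫ (π ∣_ U i) = (j₀ ⁻¹ᵁ A).ι ≫ X.homOfLE (hWU i) := by
          rw [← cancel_mono (U i).ι]
          simp only [Category.assoc, morphismRestrict_ι, Scheme.homOfLE_ι]
          rw [morphismRestrict_ι_assoc, hjπ]
        refine Groth.Agent.Approx.ext_of_schDom (j₀ ∣_ A) ((q i)) _ _ ?_ ?_
        · simp only [Category.assoc, hec, hpr]
          rw [morphismRestrict_ι_assoc, hπf]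
        · rw [reassoc_of% hres, morphismRestrict_ι_assoc, reassoc_of% hjp, hwe]
      have h1 : (p ≫ pr i) x ∈ Set.range (e i) := ⟨(π ∣_ U i) ⟨x, hi⟩, congr($hA (⟨x, hi⟩ : A.toScheme))⟩
      rw [← (e i).liftCoborder_ι] at h1
      obtain ⟨z, hz⟩ := h1
      show (p ≫ pr i) x ∈ (e i).coborderRange
      rw [← hz]
      exact ((e i).liftCoborder z).2
    · haveI := he i
      let O := (e i).coborderRange
      let O' := pr i ⁻¹ᵁ O
      let V := p ⁻¹ᵁ O'
      let g : V.toScheme ⟶ O.toScheme := (p ∣_ O') ≫ (pr i ∣_ O)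
      have hg : g ≫ O.ι = V.ι ≫ p ≫ pr i := by
        simp only [g, Category.assoc, morphismRestrict_ι, O']
        rw [morphismRestrict_ι_assoc]
      let g' : (j₀ ⁻¹ᵁ V).toScheme ⟶ (U i).toScheme := (j₀ ⁻¹ᵁ V).ι ≫ X.homOfLE (hWU i)
      have hg' : g' ≫ (e i).liftCoborder = (j₀ ∣_ V) ≫ g := by
        rw [← cancel_mono O.ι]
        simp only [Category.assoc, hg, g', O, Scheme.Hom.liftCoborder_ι]
        rw [morphismRestrict_ι_assoc, reassoc_of% hjp, hwe]
      obtain ⟨h, hh⟩ := exists_lift (j₀ ∣_ V) (e i).liftCoborder g g' hg'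
      have hhe : h ≫ e i = V.ι ≫ p ≫ pr i := by
        rw [← hg, ← (e i).liftCoborder_ι, ← Category.assoc, hh]
      have hhπ : h ≫ (U i).ι = V.ι ≫ π := by
        refine Groth.Agent.Approx.ext_of_schDom (j₀ ∣_ V) f _ _ ?_ ?_
        · rw [Category.assoc, Category.assoc, hπf, ← hec i, reassoc_of% hhe, hpr]
        · have hjh : (j₀ ∣_ V) ≫ h = g' := by
            rw [← cancel_mono (e i).liftCoborder, Category.assoc, hh, hg']
          rw [reassoc_of% hjh, morphismRestrict_ι_assoc, hjπ]
          simp [g']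
      let M := pullback (e i).liftCoborder (pr i ∣_ O)
      let c : V.toScheme ⟶ M := pullback.lift h (p ∣_ O') hh
      let ψ : M ⟶ pullback f r := pullback.lift (pullback.fst _ _ ≫ (U i).ι) (pullback.snd _ _ ≫ O'.ι) (by
        have e1 : (U i).ι ≫ f = (e i).liftCoborder ≫ O.ι ≫ (q i) := by
          rw [← hec, Scheme.Hom.liftCoborder_ι_assoc]
        have e2 : O'.ι ≫ r = (pr i ∣_ O) ≫ O.ι ≫ (q i) := by
          rw [morphismRestrict_ι_assoc, hpr]
        rw [Category.assoc, Category.assoc, e1, e2]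
        exact pullback.condition_assoc _)
      haveI : IsImmersion (c ≫ ψ) := by
        have : c ≫ ψ = V.ι ≫ γ.imageι := by
          apply pullback.hom_ext
          · simp only [c, ψ, Category.assoc, pullback.lift_fst, pullback.lift_fst_assoc, hhπ, π]
          · simp only [c, ψ, Category.assoc, pullback.lift_snd, pullback.lift_snd_assoc, p]
            exact (morphismRestrict_ι p O').trans rfl
        rw [this]
        infer_instance
      haveI : IsImmersion c := IsImmersion.of_comp c ψ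
      show IsImmersion (p ∣_ O')
      rw [show (p ∣_ O') = c ≫ pullback.snd _ _ from (pullback.lift_snd _ _ _).symm]
      infer_instance
  exact ⟨γ.image, Q, π, r, p, hr, himm, hπf.symm, inferInstance,
    fun x hx => ⟨j₀ ⟨x, hx⟩, congr($hjπ (⟨x, hx⟩ : W.toScheme))⟩⟩

/-- Proper morphisms to affine schemes. -/
theorem ucomm_of_chow (hline : UComm lineMap.{u}) (f : X ⟶ S) [IsProper f] [IsAffine S] :
    ∃ (X' : Scheme.{u}) (π : X' ⟶ X), Surjective π ∧ UComm π ∧ UComm (π ≫ f) := by
  haveI : CompactSpace X := QuasiCompact.compactSpace_of_compactSpace f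
  haveI : QuasiSeparatedSpace X := quasiSeparatedSpace_of_quasiSeparated f
  obtain ⟨X₁, d, W, m, U, hd, hW, hWd, hU, hWU, hcov, hlift⟩ := exists_strata_cover X
  haveI := hd
  obtain ⟨X', Q, π, r, p, hr, hp, hpr, hπ, hsub⟩ := exists_chow_ucomm hline (d ≫ f) W hW.isCompact U hU hWU hcov
  haveI := hr.1
  haveI : IsProper (p ≫ r) := by rw [hpr]; infer_instance
  haveI : IsProper p := IsProper.of_comp p r
  haveI : IsClosedImmersion p := (IsClosedImmersion.iff_isProper_and_mono p).2 ⟨inferInstance, inferInstance⟩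
  have hc : p ≫ r = (π ≫ d) ≫ f := by rw [hpr, Category.assoc]
  refine ⟨X', π ≫ d, ⟨fun x => ?_⟩, ?_, hc ▸ (ucomm_of_isFinite p).comp hr⟩
  · obtain ⟨w, hw, rfl, -⟩ := hlift x
    obtain ⟨z, hz⟩ := hsub hw
    exact ⟨z, (Scheme.Hom.comp_apply π d z).trans (congrArg d hz)⟩
  · let g : X' ⟶ pullback r f := pullback.lift p (π ≫ d) hc
    haveI : IsClosedImmersion (g ≫ pullback.fst r f) := by rw [pullback.lift_fst]; infer_instance
    haveI : IsClosedImmersion g := IsClosedImmersion.of_comp g (pullback.fst r f)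
    have e : g ≫ pullback.snd r f = π ≫ d := pullback.lift_snd _ _ _
    exact e ▸ (ucomm_of_isFinite g).comp (hr.of_isPullback (IsPullback.of_hasPullback r f))

/-- Proper morphisms to affine schemes have cohomology commuting with base change. -/
theorem cohCommutes_of_affine_base (hline : UComm lineMap.{u}) (f : X ⟶ S) [IsProper f] [IsAffine S] :
    EtPBC.CohCommutesWithBC f := by
  obtain ⟨X', π, hs, hπ, hπf⟩ := ucomm_of_chow hline f
  haveI := hπ.1
  exact BCCrit13.cohCommutes_cancel π f hπ.comm hπf.comm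

end Groth.Agent.GabberAff13
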