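import Groth.Agent.GabberAff13.FieldBij

/-!
# Proper schemes forming henselian couples with a fibre
-/

set_option autoImplicit false
set_option linter.style.haveILetI false
set_option backward.isDefEq.respectTransparency false
set_option backward.isDefEq.respectTransparency.types false
set_option maxHeartbeats 1000000

universe u

open CategoryTheory CategoryTheory.Limits AlgebraicGeometry Opposite

namespace Groth.Agent.GabberAff13

theorem finiteLifts_of_couple {X Z : Scheme.{u}} (i : Z ⟶ X)
    (h : ∀ (Y : Scheme.{u}) (g : Y ⟶ X), IsFinite g → ∀ V : Set ↥(pullback g i), IsClopen V →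
        ∃! U : Set ↥Y, IsClopen U ∧ (pullback.fst g i).base ⁻¹' U = V) :
    IntegralConn.FiniteLifts (Set.range i) := by
  intro X' π hπ V hV
  let φ : ↥(pullback π i) → (π ⁻¹' Set.range i : Set X') := fun z =>
    ⟨pullback.fst π i z, (Scheme.Pullback.range_fst π i).subset ⟨z, rfl⟩⟩
  have hφc : Continuous φ := (pullback.fst π i).continuous.subtype_mk _
  have hφs : Function.Surjective φ := fun ⟨x, hx⟩ => by
    obtain ⟨z, hz⟩ := (Scheme.Pullback.range_fst π i).superset hx
    exact ⟨z, Subtype.ext hz⟩
  have he : ∀ U : Set X', (pullback.fst π i).base ⁻¹' U = φ ⁻¹' (Subtype.val ⁻¹' U) := fun U => rfl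
  obtain ⟨U, ⟨hU, hUV⟩, hu⟩ := h X' π hπ (φ ⁻¹' V) (hV.preimage hφc)
  refine ⟨U, ⟨hU, hφs.preimage_injective ((he U).symm.trans hUV)⟩, fun U' hU' => hu U' ⟨hU'.1, ?_⟩⟩
  rw [he, hU'.2]

/-- The comparison with the fibre for henselian couples. -/
theorem bijective_Hpull_couple {A : Type u} [CommRing A] (I : Ideal A) {X : Scheme.{u}}
    (f : X ⟶ Spec (CommRingCat.of A)) [IsProper f]
    (hX : IntegralConn.FiniteLifts (Set.range (pullback.fst f (Spec.map (CommRingCat.ofHom (Ideal.Quotient.mk I))))))
    [PreservesFiniteLimits (EtCoh.pull (pullback.fst f (Spec.map (CommRingCat.ofHom (Ideal.Quotient.mk I)))))]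
    (F : EtCoh.Ab X) (hF : EtCoh.IsTorsion F) (q : ℕ) :
    Function.Bijective (EtCore.Hpull (pullback.fst f (Spec.map (CommRingCat.ofHom (Ideal.Quotient.mk I)))) F q) := by
  let s := Spec.map (CommRingCat.ofHom (Ideal.Quotient.mk I))
  haveI : IsClosedImmersion s := IsClosedImmersion.spec_of_surjective _ Ideal.Quotient.mk_surjective
  let i := pullback.fst f s
  haveI : IsClosedImmersion i := MorphismProperty.pullback_fst _ _ ‹IsClosedImmersion s›
  haveI : CompactSpace X := QuasiCompact.compactSpace_of_compactSpace f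
  haveI : QuasiSeparatedSpace X := quasiSeparatedSpace_of_quasiSeparated f
  exact bijective_Hpull_of_vanish i (bijective_Hpull_zero i fun F => GabberH0.bijective_unit i F hX)
    (fun ℓ hl I hI q => subsingleton_H_closed_fibre f s hl hI q) F hF q

/-- The comparison phrased with the unit. -/
theorem bijective_H_map_unit {X Z : Scheme.{u}} (i : Z ⟶ X) [IsClosedImmersion i]
    [PreservesFiniteLimits (EtCoh.pull i)] (F : EtCoh.Ab X) (q : ℕ)
    (h : Function.Bijective (EtCore.Hpull i F q)) :
    Function.Bijective (EtLimit.hmap ((EtCoh.pullPushAdj i).unit.app F) q) := by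
  have hp := BigSiteLib.hofPush_bijective i ((EtCoh.pull i).obj F) (fun j hj => by
    obtain ⟨m, rfl⟩ := Nat.exists_eq_succ_of_ne_zero hj.ne'
    haveI := EtFound.push_preservesFiniteLimits i
    haveI := EtFound.push_preservesFiniteColimits i
    exact LerayDegen.isZero_rightDerived_of_exact (EtCoh.push i) _ m) q
  have e : ⇑(EtCore.Hpull i F q) = ⇑(EtLim.HofPush i ((EtCoh.pull i).obj F) q) ∘
      ⇑(EtLimit.hmap ((EtCoh.pullPushAdj i).unit.app F) q) := funext fun x => Hpull_eq i F q x
  rw [e] at h
  exact (Function.Bijective.of_comp_iff' hp _).1 h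

end Groth.Agent.GabberAff13
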