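import Groth.Agent.BCCrit13.BC

/-!
# Commuting derived functors with exact functors
-/

set_option autoImplicit false
set_option linter.style.haveILetI false
set_option backward.isDefEq.respectTransparency false
set_option backward.isDefEq.respectTransparency.types false

universe w u₁ u₂ u₃ u₄ v₁ v₂ v₃ v₄

open CategoryTheory CategoryTheory.Limits

namespace Groth.Agent.GabberAff13

open Groth.Agent.TriCat

variable {A : Type u₁} [Category.{v₁} A] [Abelian A] [EnoughInjectives A]
  {B : Type u₂} [Category.{v₂} B] [Abelian B]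
  {A' : Type u₃} [Category.{v₃} A'] [Abelian A'] [EnoughInjectives A']
  {B' : Type u₄} [Category.{v₄} B'] [Abelian B']
  (P : A ⥤ B) [P.Additive] [PreservesFiniteLimits P] (Q : B ⥤ B') [Q.Additive] [PreservesFiniteColimits Q]
  (R : A ⥤ A') [R.Additive] [PreservesFiniteLimits R] [PreservesFiniteColimits R]
  (P' : A' ⥤ B') [P'.Additive] [PreservesFiniteLimits P']

/-- Derived functors commute with exact functors on a class of objects with common acyclic envelopes. -/
theorem nonempty_iso_derived (C : A → Prop) (e : ∀ F, Q.obj (P.obj F) ≅ P'.obj (R.obj F))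
    (he : ∀ {F G : A} (a : F ⟶ G), Q.map (P.map a) ≫ (e G).hom = (e F).hom ≫ P'.map (R.map a))
    (hemb : ∀ F, C F → ∃ (G : A) (φ : F ⟶ G) (_ : Mono φ), C (cokernel φ) ∧ IsRightAcyclic P G ∧
      IsRightAcyclic P' (R.obj G)) (q : ℕ) :
    ∀ F, C F → Nonempty (Q.obj ((P.rightDerived q).obj F) ≅ (P'.rightDerived q).obj (R.obj F)) := by
  let := HasDerivedCategory.standard A
  let := HasDerivedCategory.standard A'
  let := HasDerivedCategory.standard B
  let := HasDerivedCategory.standard B'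
  let bcR : ∀ F, Q.obj ((P.rightDerived 0).obj F) ≅ (P'.rightDerived 0).obj (R.obj F) := fun F =>
    Q.mapIso (P.rightDerivedZeroIsoSelf.app F) ≪≫ e F ≪≫ (P'.rightDerivedZeroIsoSelf.app _).symm
  induction q with
  | zero => exact fun F _ => ⟨bcR F⟩
  | succ q ih =>
    intro F hF
    obtain ⟨G, φ, hφ, hQ, hK, hK'⟩ := hemb F hF
    let S : ShortComplex A := ShortComplex.mk φ (cokernel.π φ) (cokernel.condition φ)
    have hS : S.ShortExact := { exact := ShortComplex.exact_of_g_is_cokernel _ (cokernelIsCokernel φ) }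
    have hS' := hS.map_of_exact R
    obtain ⟨δ₁, w₁, w₂, w₃, -, e₁, f₁⟩ := exists_rightDerived_ses P hS q
    obtain ⟨δ₂, v₁, v₂, v₃, -, e₂, f₂⟩ := exists_rightDerived_ses P' hS' q
    haveI : Epi δ₁ := f₁.epi_f ((hK (q + 1) q.succ_pos).eq_of_tgt _ _)
    haveI : Epi δ₂ := f₂.epi_f ((hK' (q + 1) q.succ_pos).eq_of_tgt _ _)
    cases q with
    | zero =>
      refine BCCrit13.nonempty_iso_of_cokernels Q e₁ e₂ (bcR S.X₂) (bcR S.X₃) ?_
      show Q.map ((P.rightDerived 0).map S.g) ≫ (bcR S.X₃).hom = (bcR S.X₂).hom ≫ (P'.rightDerived 0).map (R.map S.g)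
      simp only [bcR, Iso.trans_hom, Functor.mapIso_hom, Iso.app_hom, Iso.symm_hom, Iso.app_inv, Category.assoc]
      rw [← Functor.map_comp_assoc, P.rightDerivedZeroIsoSelf.hom.naturality, Functor.map_comp_assoc,
        reassoc_of% (he S.g)]
      refine congrArg (fun r => _ ≫ _ ≫ r) ?_
      exact P'.rightDerivedZeroIsoSelf.inv.naturality _
    | succ p =>
      haveI : Mono δ₁ := e₁.mono_g ((hK (p + 1) p.succ_pos).eq_of_src _ _)
      haveI : Mono δ₂ := e₂.mono_g ((hK' (p + 1) p.succ_pos).eq_of_src _ _)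
      haveI : IsIso δ₁ := isIso_of_mono_of_epi δ₁
      haveI : IsIso δ₂ := isIso_of_mono_of_epi δ₂
      exact ⟨Q.mapIso (asIso δ₁).symm ≪≫ (ih S.X₃ hQ).some ≪≫ asIso δ₂⟩

end Groth.Agent.GabberAff13
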