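import Groth.Agent.GabberAff13.Vanish
import Groth.Agent.ConstEmb13.Main
import Groth.Agent.BCCrit13.Basic
import Groth.Agent.EtFound.IntegralBaseChange
import Groth.Agent.EtFound.PushExact
import Groth.Agent.BigSiteLib.HofPushEt
import Groth.Agent.SiteBase.LerayTop
import Groth.Agent.S0134
import Groth.Agent.EtLimit.HTools

/-!
# Effaceability of cohomology on closed subschemes of affine schemes
-/

set_option autoImplicit false
set_option linter.style.haveILetI false
set_option backward.isDefEq.respectTransparency false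
set_option backward.isDefEq.respectTransparency.types false
set_option maxHeartbeats 1000000

universe u

open CategoryTheory CategoryTheory.Limits AlgebraicGeometry Opposite

namespace Groth.Agent.GabberAff13

open Groth.Agent.EtFound Groth.Agent.ConstEmb13

variable {X : Scheme.{u}}

theorem bcLeft_surjective {Y Y' : Scheme.{u}} (f : Y ⟶ X) (f' : Y' ⟶ X) (h : Y' ⟶ Y) (w : h ≫ f = f') [Surjective h]
    (W : X.Etale) : Surjective (bcLeft f f' h w W) := by
  have big : IsPullback (bcLeft f f' h w W ≫ pullback.fst W.hom f) (pullback.snd W.hom f') W.hom (h ≫ f) := by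
    rw [w]
    have e : bcLeft f f' h w W ≫ pullback.fst W.hom f = pullback.fst W.hom f' := pullback.lift_fst _ _ _
    rw [e]
    exact IsPullback.of_hasPullback _ _
  exact MorphismProperty.of_isPullback (IsPullback.of_right big (pullback.lift_snd _ _ _)
    (IsPullback.of_hasPullback W.hom f)).flip ‹Surjective h›

theorem mono_pgMap (M : Type) [AddCommGroup M] {Y Y' : Scheme.{u}} (f : Y ⟶ X) (f' : Y' ⟶ X) (h : Y' ⟶ Y)
    (w : h ≫ f = f') [Surjective h] : Mono (pgMap M f f' h w) := by
  haveI : ∀ W, Mono ((pgMap M f f' h w).hom.app W) := fun W => by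
    rw [AddCommGrpCat.mono_iff_injective]
    intro s t hst
    refine ev_ext fun p => ?_
    obtain ⟨q, rfl⟩ := (bcLeft_surjective f f' h w W.unop).surj p
    exact congrArg (fun z => ev z q) hst
  haveI : Mono (pgMap M f f' h w).hom := NatTrans.mono_of_mono_app _
  exact (sheafToPresheaf _ _).mono_of_mono_map this

theorem isTorsion_biprod {F G : EtCoh.Ab X} (hF : EtCoh.IsTorsion F) (hG : EtCoh.IsTorsion G) :
    EtCoh.IsTorsion (F ⊞ G) := by
  refine (BCCrit13.isTorsion_iff_stalks _).2 fun Ω _ _ ξ t => ?_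
  obtain ⟨a, ha, ha'⟩ := (BCCrit13.isTorsion_iff_stalks F).1 hF Ω ξ ((EtCoh.stalk ξ).map biprod.fst t)
  obtain ⟨b, hb, hb'⟩ := (BCCrit13.isTorsion_iff_stalks G).1 hG Ω ξ ((EtCoh.stalk ξ).map biprod.snd t)
  refine ⟨a * b, Nat.mul_pos ha hb, ?_⟩
  haveI : (EtCoh.stalk ξ).Additive := Functor.additive_of_preserves_binary_products _
  have e : t = (EtCoh.stalk ξ).map biprod.inl ((EtCoh.stalk ξ).map biprod.fst t) +
      (EtCoh.stalk ξ).map biprod.inr ((EtCoh.stalk ξ).map biprod.snd t) := by
    have h := congrArg (fun φ : (F ⊞ G) ⟶ F ⊞ G => (EtCoh.stalk ξ).map φ t) (biprod.total (X := F) (Y := G))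
    simp only [Functor.map_add, Functor.map_comp, CategoryTheory.Functor.map_id] at h
    exact h.symm
  rw [e, nsmul_add]
  have h1 : (a * b) • (EtCoh.stalk ξ).map (biprod.inl : F ⟶ F ⊞ G) ((EtCoh.stalk ξ).map (biprod.fst : F ⊞ G ⟶ F) t) = 0 := by
    rw [mul_comm, mul_nsmul', ← map_nsmul, ha', map_zero, nsmul_zero]
  have h2 : (a * b) • (EtCoh.stalk ξ).map (biprod.inr : G ⟶ F ⊞ G) ((EtCoh.stalk ξ).map (biprod.snd : F ⊞ G ⟶ G) t) = 0 := by
    rw [mul_nsmul', ← map_nsmul, hb', map_zero, nsmul_zero]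
  rw [h1, h2, add_zero]

theorem isTorsion_pushout {F G D : EtCoh.Ab X} (c : D ⟶ F) (u : D ⟶ G) (hF : EtCoh.IsTorsion F)
    (hG : EtCoh.IsTorsion G) : EtCoh.IsTorsion (pushout c u) := by
  haveI : Epi (biprod.desc (pushout.inl c u) (pushout.inr c u)) :=
    ⟨fun p q h => pushout.hom_ext (by simpa using congrArg (biprod.inl ≫ ·) h) (by simpa using congrArg (biprod.inr ≫ ·) h)⟩
  exact BCCrit13.isTorsion_of_epi (biprod.desc (pushout.inl c u) (pushout.inr c u)) (isTorsion_biprod hF hG)

variable {Z : Scheme.{u}} (i : Z ⟶ X) [IsClosedImmersion i]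

/-- Direct images of constant sheaves from a closed subscheme of such a scheme are acyclic on `Z`. -/
theorem subsingleton_H_pull_push {W S : Scheme.{u}} (r : W ⟶ X) [IsIntegralHom r] (k : W ⟶ S) [IsClosedImmersion k]
    (hS : IsAic S) (M : Type) [AddCommGroup M] [Finite M] (n : ℕ) :
    Subsingleton (EtCoh.H Z ((EtCoh.pull i).obj ((EtCoh.push r).obj (EtCoh.const W M))) (n + 1)) := by
  haveI : IsIntegralHom (pullback.snd r i) := MorphismProperty.pullback_snd _ _ ‹IsIntegralHom r›
  haveI : IsClosedImmersion (pullback.fst r i) := MorphismProperty.pullback_fst _ _ ‹IsClosedImmersion i›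
  haveI : PreservesFiniteLimits (EtCoh.pull (pullback.snd r i)) := EtFound.pull_preservesFiniteLimits _
  haveI : IsIso (EtCoh.baseChange0 r i (pullback.snd r i) (pullback.fst r i) pullback.condition (EtCoh.const W M)) :=
    EtFound.isIso_baseChange_of_integral (IsPullback.of_hasPullback r i) (EtCoh.const W M) _
      (EtFound.baseChange0_unit r i (pullback.snd r i) (pullback.fst r i) pullback.condition (EtCoh.const W M))
  have h1 := subsingleton_H_pull_const (pullback.fst r i) M (n + 1)
    (subsingleton_H_const n hS (pullback.fst r i ≫ k) M)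
  have h2 := (BigSiteLib.hofPush_bijective (pullback.snd r i) ((EtCoh.pull (pullback.fst r i)).obj (EtCoh.const W M))
    (fun j hj => by
      obtain ⟨m, rfl⟩ := Nat.exists_eq_succ_of_ne_zero hj.ne'
      have := EtFound.push_preservesFiniteLimits (pullback.snd r i)
      have := EtFound.push_preservesFiniteColimits (pullback.snd r i)
      exact LerayDegen.isZero_rightDerived_of_exact (EtCoh.push (pullback.snd r i)) _ m) (n + 1)).1.subsingleton
  exact (CohCrit13.hmap_bijective_of_isIso (EtCoh.baseChange0 r i (pullback.snd r i) (pullback.fst r i) pullback.condition (EtCoh.const W M)) (n + 1)).1.subsingleton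

/-- Constructible sheaves embed into torsion sheaves whose restriction to `Z` is acyclic. -/
theorem exists_emb_acyclic [IsAffine X] (D : EtCoh.Ab X) (hD : EtPBC.IsConstructible D) :
    ∃ (G : EtCoh.Ab X) (u : D ⟶ G) (_ : Mono u), EtCoh.IsTorsion G ∧
      ∀ n, Subsingleton (EtCoh.H Z ((EtCoh.pull i).obj G) (n + 1)) := by
  obtain ⟨b, Y, f, hf, hfp, M, hM, hMf, h0⟩ := ConstEmb13.exists_mono D hD
  obtain ⟨ι₀, hι₀⟩ := h0
  haveI : ∀ j, IsAffine (Y j) := fun j => by haveI := hf j; exact isAffine_of_isAffineHom (f j)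
  choose W S q k hq hsq hk hS using fun j => exists_aic_cover (Y j)
  let r : ∀ j, W j ⟶ X := fun j => q j ≫ f j
  let v : ∀ j, (EtCoh.push (f j)).obj (EtCoh.const (Y j) (M j)) ⟶ (EtCoh.push (r j)).obj (EtCoh.const (W j) (M j)) :=
    fun j => (pushConstIso (M j) (f j)).hom ≫ pgMap (M j) (f j) (r j) (q j) rfl ≫ (pushConstIso (M j) (r j)).inv
  haveI : ∀ j, Mono (v j) := fun j => by
    haveI : Surjective (q j) := ⟨hsq j⟩
    haveI := mono_pgMap (M j) (f j) (r j) (q j) rfl
    exact mono_comp _ _
  haveI := hι₀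
  refine ⟨⨁ fun j => (EtCoh.push (r j)).obj (EtCoh.const (W j) (M j)), ι₀ ≫ biproduct.map v, inferInstance, ?_, fun n => ?_⟩
  · haveI := hMf
    have hN : ∀ j, (Finset.univ.prod fun l => Nat.card (M l)) •
        𝟙 ((EtCoh.push (r j)).obj (EtCoh.const (W j) (M j))) = 0 := fun j => by
      obtain ⟨c, hc⟩ := Finset.dvd_prod_of_mem (fun l => Nat.card (M l)) (Finset.mem_univ j)
      have h := (killedBy_iff_nsmul _ _).1 (killedBy_pg (X := X) (M j) (r j) c)
      rw [hc, mul_comm, ← cancel_mono (pushConstIso (M j) (r j)).hom, Preadditive.nsmul_comp, Category.id_comp,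
        ← Category.comp_id (pushConstIso (M j) (r j)).hom, ← Preadditive.comp_nsmul, h, comp_zero, zero_comp]
    refine EtTrace.isTorsion_of_nsmul_id (show 0 < Finset.univ.prod (fun l => Nat.card (M l)) from Finset.prod_pos fun l _ => Nat.card_pos) (biproduct.hom_ext _ _ fun j => ?_)
    rw [Preadditive.nsmul_comp, Category.id_comp, ← Category.comp_id (biproduct.π _ j), ← Preadditive.comp_nsmul, hN j,
      comp_zero, zero_comp]
  · haveI : PreservesFiniteLimits (EtCoh.pull i) := EtFound.pull_preservesFiniteLimits _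
    haveI : PreservesColimitsOfSize.{0, 0} (EtCoh.pull i) := (EtCoh.pullPushAdj i).leftAdjoint_preservesColimits
    haveI : (EtCoh.pull i).Additive := Functor.additive_of_preserves_binary_products _
    haveI := hMf
    refine subsingleton_of_forall_eq 0 fun x => ?_
    let E := fun j => (EtCoh.push (r j)).obj (EtCoh.const (W j) (M j))
    have h : ∀ j, EtLimit.hmap ((EtCoh.pull i).map (biproduct.π E j)) (n + 1) x = 0 := fun j => by
      haveI := hf j; haveI := hq j; haveI := hk j
      haveI : IsIntegralHom (r j) := inferInstance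
      exact @Subsingleton.elim _ (subsingleton_H_pull_push i (r j) (k j) (hS j) (M j) n) _ _
    have : x = ∑ j, EtLimit.hmap ((EtCoh.pull i).map (biproduct.ι E j)) (n + 1)
        (EtLimit.hmap ((EtCoh.pull i).map (biproduct.π E j)) (n + 1) x) := by
      simp only [EtLimit.hmap_comp, ← Functor.map_comp, CohCrit13.hmap_sum, ← Functor.map_sum, biproduct.total,
        CategoryTheory.Functor.map_id, CohCrit13.hmap_id]
    rw [this]
    exact Finset.sum_eq_zero fun j _ => by rw [h j, map_zero]

/-- Classes in positive degrees are effaceable. -/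
theorem exists_efface [IsAffine X] (F : EtCoh.Ab X) (hF : EtCoh.IsTorsion F) (q : ℕ)
    (ξ : EtCoh.H Z ((EtCoh.pull i).obj F) (q + 1)) :
    ∃ (F' : EtCoh.Ab X) (_ : EtCoh.IsTorsion F') (φ : F ⟶ F') (_ : Mono φ),
      EtLimit.hmap ((EtCoh.pull i).map φ) (q + 1) ξ = 0 := by
  obtain ⟨J, _, _, K, c₀, hc₀, hK, ⟨eF⟩⟩ := S0134.result X F hF
  haveI : IsAffine Z := isAffine_of_isAffineHom i
  let c := c₀.extend eF.hom
  let hc : IsColimit c := IsColimit.extendIso eF.hom hc₀
  haveI := EtLC12.QcqsAcyclic.preservesColimitsOfShape_HF Z (q + 1) J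
  haveI : PreservesColimitsOfSize.{u + 1, u + 1} (EtCoh.pull i) := (EtCoh.pullPushAdj i).leftAdjoint_preservesColimits
  obtain ⟨j, η, rfl⟩ := Concrete.isColimit_exists_rep _
    (isColimitOfPreserves (EtCoh.pull i ⋙ EtCoh.HF Z (q + 1)) hc) ξ
  obtain ⟨G, v, _, hG, hG'⟩ := exists_emb_acyclic i (K.obj j) (hK j)
  refine ⟨pushout (c.ι.app j) v, isTorsion_pushout _ _ hF hG, pushout.inl _ _, inferInstance, ?_⟩
  show EtLimit.hmap ((EtCoh.pull i).map (pushout.inl _ _)) (q + 1) (EtLimit.hmap ((EtCoh.pull i).map (c.ι.app j)) (q + 1) η) = 0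
  rw [EtLimit.hmap_comp, ← Functor.map_comp, pushout.condition, Functor.map_comp, ← EtLimit.hmap_comp]
  exact (congrArg _ (@Subsingleton.elim _ (hG' q) _ 0)).trans (map_zero _)

end Groth.Agent.GabberAff13
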