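import Groth.Agent.GabberAff13.Points
import Groth.Agent.GabberAff13.DerivedReflect
import Groth.Agent.EtFound.ExtZeroBC
import Groth.Agent.EtMVLib.OpenSeq
import Groth.Agent.S0071

/-!
# Extension by zero and proper direct images
-/

set_option autoImplicit false
set_option linter.style.haveILetI false
set_option backward.isDefEq.respectTransparency false
set_option backward.isDefEq.respectTransparency.types false
set_option maxHeartbeats 1000000

universe u

open CategoryTheory CategoryTheory.Limits AlgebraicGeometry Opposite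

namespace Groth.Agent.GabberAff13

open Groth.Agent.EtFound

variable {U X Y : Scheme.{u}}

/-- Pulling back along the identity. -/
noncomputable def pullIdIso (Z : Scheme.{u}) : EtCoh.pull (𝟙 Z) ≅ 𝟭 (EtCoh.Ab Z) :=
  ((EtCoh.pullPushAdj (𝟙 Z)).ofNatIsoRight
    (Functor.sheafPushforwardContinuousIso (F := EtCoh.bc (𝟙 Z)) (F' := 𝟭 _)
      ((MorphismProperty.Over.mapPullbackAdj EtCoh.etaleMP ⊤ (𝟙 Z) (inferInstanceAs (AlgebraicGeometry.Etale (𝟙 Z))) trivial).rightAdjointUniq
        (Adjunction.id.ofNatIsoLeft (MorphismProperty.Over.mapId (P := EtCoh.etaleMP) (Q := ⊤) Z).symm))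
      AddCommGrpCat.{u + 1} Z.smallEtaleTopology Z.smallEtaleTopology ≪≫
        NatIso.ofComponents (fun _ => Iso.refl _) (fun _ => (Category.comp_id _).trans (Category.id_comp _).symm))).leftAdjointUniq
    Adjunction.id

/-- The extension by zero of a clopen immersion is the direct image. -/
theorem nonempty_extZero_iso_push (v : U ⟶ X) [IsOpenImmersion v] [IsClosedImmersion v] [EtShriek.JCont v]
    (F : EtCoh.Ab U) : Nonempty ((EtShriek.extZero v).obj F ≅ (EtCoh.push v).obj F) := by
  haveI : EtCoh.BCCont v := EtCoh.bcCont v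
  haveI := extZero_iso_of_outside v ((EtCoh.push v).obj F) fun Ω _ _ ξ hξ => isZero_stalk_push_closed v F ξ hξ
  haveI := counit_isIso (A := AddCommGrpCat.{u + 1}) v (liftable_of_isClosedImmersion v) F
  exact ⟨(EtShriek.extZero v).mapIso ((asIso ((EtCoh.pullPushAdj v).counit.app F)).symm ≪≫
      ((EtMVLib.restrIsoPull v).app ((EtCoh.push v).obj F)).symm) ≪≫
    asIso ((EtShriek.extZeroAdj v).counit.app ((EtCoh.push v).obj F))⟩

/-- Extension by zero commutes with proper higher direct images. -/
theorem nonempty_extZero_Rpush {V : Scheme.{u}} (j₁ : U ⟶ X) [IsOpenImmersion j₁] (j₂ : V ⟶ Y) [IsOpenImmersion j₂]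
    [EtShriek.JCont j₁] [EtShriek.JCont j₂] (g : U ⟶ V) [IsProper g] (f : X ⟶ Y) [IsProper f]
    (w : j₁ ≫ f = g ≫ j₂) (F : EtCoh.Ab U) (hG : EtCoh.IsTorsion ((EtShriek.extZero j₁).obj F)) (q : ℕ) :
    Nonempty ((EtShriek.extZero j₂).obj ((EtCoh.Rpush g q).obj F) ≅
      (EtCoh.Rpush f q).obj ((EtShriek.extZero j₁).obj F)) := by
  let G := (EtShriek.extZero j₁).obj F
  let H := (EtCoh.Rpush f q).obj G
  haveI := extZero_iso_of_outside j₂ H fun Ω _ _ ξ hξ => by
    obtain ⟨e⟩ := nonempty_stalk_Rpush_geometric f ξ G hG q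
    have hz : IsZero ((EtCoh.pull (pullback.fst f ξ)).obj G) := (isZero_iff_stalks _).2 fun Ω' _ _ z => by
      have h0 : IsZero ((EtCoh.stalk (z ≫ pullback.fst f ξ)).obj G) := by
        refine isZero_stalk_extZero j₁ _ (fun ⟨t, ht⟩ => hξ ⟨g t, ?_⟩) F
        have h1 : j₂ (g t) = f (j₁ t) := (congr($w t)).symm
        refine h1.trans ((congrArg f ht).trans ?_)
        rw [← Scheme.Hom.comp_apply, Category.assoc, pullback.condition, ← Category.assoc, Scheme.Hom.comp_apply]
        exact congrArg ξ (Subsingleton.elim _ _)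
      exact h0.of_iso ((stalkPullIso (pullback.fst f ξ) z).app G)
    haveI : Subsingleton (EtCoh.H (pullback f ξ) ((EtCoh.pull (pullback.fst f ξ)).obj G) q) :=
      AddCommGrpCat.subsingleton_of_isZero (G := (EtCoh.HF (pullback f ξ) q).obj _) (Functor.map_isZero _ hz)
    exact (AddCommGrpCat.isZero_of_subsingleton _).of_iso e
  let f' := pullback.snd f j₂
  let g' := pullback.fst f j₂
  let v : U ⟶ pullback f j₂ := pullback.lift j₁ g w
  have hv1 : v ≫ g' = j₁ := pullback.lift_fst _ _ _
  have hv2 : v ≫ f' = g := pullback.lift_snd _ _ _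
  haveI : IsProper f' := MorphismProperty.pullback_snd _ _ ‹IsProper f›
  haveI : IsOpenImmersion v := by
    haveI : IsOpenImmersion (v ≫ g') := by rw [hv1]; infer_instance
    exact IsOpenImmersion.of_comp v g'
  haveI : IsProper v := by
    haveI : IsProper (v ≫ f') := by rw [hv2]; infer_instance
    exact IsProper.of_comp v f'
  haveI : IsClosedImmersion v :=
    IsClosedImmersion.of_isPreimmersion v (v.isClosedMap.isClosed_range)
  haveI : EtShriek.JCont v := inferInstance
  have sq : IsPullback (𝟙 U) v j₁ g' := by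
    refine IsPullback.of_iso_pullback ⟨by rw [Category.id_comp, hv1]⟩
      { hom := pullback.lift (𝟙 U) v (by rw [Category.id_comp, hv1]), inv := pullback.fst j₁ g'
        hom_inv_id := pullback.lift_fst _ _ _
        inv_hom_id := ?_ } (pullback.lift_fst _ _ _) (pullback.lift_snd _ _ _)
    refine pullback.hom_ext ?_ ?_
    · rw [Category.assoc, pullback.lift_fst, Category.comp_id, Category.id_comp]
    · rw [Category.assoc, pullback.lift_snd, Category.id_comp, ← cancel_mono g', Category.assoc, hv1]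
      exact pullback.condition
  haveI : EtCoh.BCCont g' := EtCoh.bcCont g'
  haveI : EtCoh.BCCont (𝟙 U) := EtCoh.bcCont _
  obtain ⟨eBC⟩ := nonempty_pull_extZero_iso j₁ g' v (𝟙 U) sq.flip
  obtain ⟨ev⟩ := nonempty_extZero_iso_push v F
  let eG : (EtCoh.pull g').obj G ≅ (EtCoh.push v).obj F :=
    (eBC.app F).symm ≪≫ (EtShriek.extZero v).mapIso ((pullIdIso U).app F) ≪≫ ev
  obtain ⟨b⟩ := cohCommutes_of_isProper f f' g' j₂ (IsPullback.of_hasPullback f j₂) G hG q
  haveI : (EtCoh.push v).PreservesInjectiveObjects := by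
    haveI := pull_preservesFiniteLimits v
    haveI : (EtCoh.pull v).PreservesMonomorphisms := inferInstance
    exact ⟨fun {I} hI => (EtCoh.pullPushAdj v).map_injective I hI⟩
  haveI : PreservesFiniteLimits (EtCoh.push v) := EtFound.push_preservesFiniteLimits v
  haveI : PreservesFiniteLimits (EtCoh.push f') := EtFound.push_preservesFiniteLimits f'
  obtain ⟨c⟩ := nonempty_rightDerived_comp_of_acyclic (EtCoh.push v) (EtCoh.push f') q F
    fun i hi => Groth.Agent.S0071.result v F i hi
  let eP : EtCoh.push v ⋙ EtCoh.push f' ≅ EtCoh.push g := EtCoh.pushComp f' v ≪≫ EtCoh.pushCongr hv2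
  let eT : (EtShriek.restrAlong j₂).obj H ≅ (EtCoh.Rpush g q).obj F :=
    (EtMVLib.restrIsoPull j₂).app H ≪≫ b ≪≫ (EtCoh.Rpush f' q).mapIso eG ≪≫ c ≪≫
      (RDer.rightDerivedIso eP q).app F
  exact ⟨(EtShriek.extZero j₂).mapIso eT.symm ≪≫ asIso ((EtShriek.extZeroAdj j₂).counit.app H)⟩

end Groth.Agent.GabberAff13
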