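import Groth.Agent.GabberAff13.BigPush
import Groth.Agent.GabberAff13.DerivedReflect
import Groth.Agent.BigSiteLib.FppfDesc.Main

/-!
# Proper direct images of torsion sheaves and the big fppf site
-/

set_option autoImplicit false
set_option linter.style.haveILetI false
set_option backward.isDefEq.respectTransparency false
set_option backward.isDefEq.respectTransparency.types false
set_option maxHeartbeats 1000000

universe u

open CategoryTheory CategoryTheory.Limits AlgebraicGeometry Opposite

namespace Groth.Agent.GabberAff13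

open Groth.Agent.BigSiteLib Groth.Agent.BigSiteLib.FppfDesc

/-- Higher direct images of torsion sheaves commute with pullback to the big fppf site. -/
theorem nonempty_aPull_Rpush_iso {X Y : Scheme.{u}} (f : X ⟶ Y) [IsProper f] [EtFppf.ACont X] [EtFppf.ACont Y]
    (F : EtCoh.Ab X) (hF : EtCoh.IsTorsion F) (i : ℕ) :
    Nonempty ((EtFppf.aPull Y).obj ((EtCoh.Rpush f i).obj F) ≅ (EtFppf.RpushBig f i).obj ((EtFppf.aPull X).obj F)) := by
  let L := BigSite.epsPull Scheme.etalePrecoverage Scheme.fppfPrecoverage Y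
  haveI : RepresentablyFlat (𝟭 (Over Y)) := inferInstance
  haveI : PreservesFiniteLimits L := sheafPullback_preservesFiniteLimits (𝟭 (Over Y)) _ _
  haveI : L.IsLeftAdjoint := (BigSite.epsAdj Scheme.etalePrecoverage Scheme.fppfPrecoverage Y).isLeftAdjoint
  haveI : PreservesFiniteColimits L := ⟨fun _ => inferInstance⟩
  haveI : L.Additive := (BigSite.epsAdj Scheme.etalePrecoverage Scheme.fppfPrecoverage Y).left_adjoint_additive
  let LX := BigSite.epsPull Scheme.etalePrecoverage Scheme.fppfPrecoverage X
  haveI : RepresentablyFlat (𝟭 (Over X)) := inferInstance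
  haveI : PreservesFiniteLimits LX := sheafPullback_preservesFiniteLimits (𝟭 (Over X)) _ _
  haveI : LX.PreservesMonomorphisms := inferInstance
  haveI : (epsX X).PreservesInjectiveObjects :=
    ⟨fun {I} hI => (BigSite.epsAdj Scheme.etalePrecoverage Scheme.fppfPrecoverage X).map_injective I hI⟩
  haveI : (BigSite.pushBig Scheme.etalePrecoverage f AddCommGrpCat.{u + 1}).IsRightAdjoint :=
    (BigSite.bigAdj Scheme.etalePrecoverage f AddCommGrpCat.{u + 1}).isRightAdjoint
  haveI : PreservesFiniteLimits (BigSite.pushBig Scheme.etalePrecoverage f AddCommGrpCat.{u + 1}) :=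
    ⟨fun _ => inferInstance⟩
  let φ : EtFppf.pushBig f ⋙ epsX Y ≅ epsX X ⋙ BigSite.pushBig Scheme.etalePrecoverage f AddCommGrpCat.{u + 1} :=
    NatIso.ofComponents (fun G => Iso.refl _) (fun a => (Category.comp_id _).trans (Category.id_comp _).symm)
  obtain ⟨e⟩ := nonempty_piPull_Rpush_iso f i F hF
  have hF' : TriCat.IsRightAcyclic (epsX X) (piFppf F) := fun q hq => by
    obtain ⟨m, rfl⟩ := Nat.exists_eq_succ_of_ne_zero hq.ne'
    exact isZero_rightDerived_piFppf (acy m X F)
  obtain ⟨g⟩ := nonempty_rightDerived_reflect (EtFppf.pushBig f) (epsX X)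
    (BigSite.pushBig Scheme.etalePrecoverage f AddCommGrpCat.{u + 1}) (epsX Y) L
    (BigSite.epsAdj Scheme.etalePrecoverage Scheme.fppfPrecoverage Y) φ (piFppf F) hF' i
    (R := piFppf ((EtCoh.Rpush f i).obj F)) e.symm
  exact ⟨aPullIso _ ≪≫ g.symm ≪≫ (EtFppf.RpushBig f i).mapIso (aPullIso F).symm⟩

end Groth.Agent.GabberAff13
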