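import Groth.Agent.FLCSet.Rep
import Groth.Agent.EtFound.PullExt
import Groth.Agent.EtFound.Stalk
import Groth.Agent.EtLimit.HTools
import Groth.Agent.GabberAff13.Kill
import Groth.Agent.SiteBase.LerayTop
import Groth.Prelude.Def_EtCore

/-!
# First cohomology of constant sheaves on schemes without finite étale covers
-/

set_option autoImplicit false
set_option linter.style.haveILetI false
set_option backward.isDefEq.respectTransparency false
set_option backward.isDefEq.respectTransparency.types false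

universe u

open CategoryTheory CategoryTheory.Limits AlgebraicGeometry Opposite CategoryTheory.Abelian

namespace Groth.Agent.GabberAff13

open Groth.Agent.EtFound

variable {X : Scheme.{u}} {I Q : EtCoh.Ab X} (g : I ⟶ Q) (y : Q.obj.obj (op (EtCoh.top X)))

/-- The restriction of the global section. -/
noncomputable def yRes (U : X.Etaleᵒᵖ) : Q.obj.obj U :=
  Q.obj.map ((EtCore.topIsTerminal X).from U.unop).op y

theorem yRes_map {U V : X.Etaleᵒᵖ} (m : U ⟶ V) : Q.obj.map m (yRes y U) = yRes y V := by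
  show Q.obj.map m (Q.obj.map _ y) = _
  rw [← ConcreteCategory.comp_apply, ← Functor.map_comp]
  exact congrArg (fun t => Q.obj.map t y)
    (congrArg Quiver.Hom.op ((EtCore.topIsTerminal X).hom_ext (m.unop ≫ (EtCore.topIsTerminal X).from U.unop)
      ((EtCore.topIsTerminal X).from V.unop)))

/-- The presheaf of local lifts of a global section. -/
noncomputable def liftsPre : X.Etaleᵒᵖ ⥤ Type (u + 1) where
  obj U := {x : I.obj.obj U // g.hom.app U x = yRes y U}
  map {U V} m := TypeCat.ofHom fun x => ⟨I.obj.map m x.1,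
    (NatTrans.naturality_apply g.hom m x.1).trans ((congrArg _ x.2).trans (yRes_map y m))⟩
  map_id U := by ext x; show I.obj.map (𝟙 U) x.1 = x.1; simp
  map_comp m m' := by ext x; show I.obj.map (m ≫ m') x.1 = I.obj.map m' (I.obj.map m x.1); simp

theorem isSheaf_liftsPre : Presheaf.IsSheaf X.smallEtaleTopology (liftsPre g y) := by
  rw [isSheaf_iff_isSheaf_of_type]
  intro U R hR x hx
  have h2 := (isSheaf_iff_isSheaf_of_type X.smallEtaleTopology _).mp
    ((sheafCompose X.smallEtaleTopology (forget AddCommGrpCat.{u + 1})).obj I).property _ hR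
  have h3 := (isSheaf_iff_isSheaf_of_type X.smallEtaleTopology _).mp
    ((sheafCompose X.smallEtaleTopology (forget AddCommGrpCat.{u + 1})).obj Q).property _ hR
  obtain ⟨z, hz, hu⟩ := h2 (fun V f hf => (x f hf).1)
    (fun _ _ _ g₁ g₂ f₁ f₂ h₁ h₂ e => congrArg Subtype.val (hx g₁ g₂ h₁ h₂ e))
  refine ⟨⟨z, h3.isSeparatedFor.ext fun V f hf => ?_⟩, fun V f hf => Subtype.ext (hz f hf),
    fun z' hz' => Subtype.ext (hu z'.1 fun V f hf => congrArg Subtype.val (hz' f hf))⟩
  exact ((NatTrans.naturality_apply g.hom f.op z).symm.trans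
    ((congrArg _ (hz f hf)).trans (x f hf).2)).trans (yRes_map y f.op).symm

/-- The sheaf of local lifts. -/
noncomputable def lifts : Sheaf X.smallEtaleTopology (Type (u + 1)) := ⟨liftsPre g y, isSheaf_liftsPre g y⟩

variable {M : Type} [AddCommGroup M] (f : EtCoh.const X M ⟶ I)

/-- The image of a constant. -/
noncomputable def cst (U : X.Etale) (m : ULift.{u + 1} M) : I.obj.obj (op U) :=
  f.hom.app (op U) ((toSheafify X.smallEtaleTopology
    ((Functor.const X.Etaleᵒᵖ).obj (AddCommGrpCat.of (ULift.{u + 1} M)))).app (op U) m)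

/-- A class of degree one with constant finite coefficients dies on a finite étale cover. -/
theorem exists_finite_etale_kill [Finite M] (c : EtCoh.H X (EtCoh.const X M) 1) :
    ∃ (E : Scheme.{u}) (p : E ⟶ X) (_ : IsFinite p) (_ : AlgebraicGeometry.Etale p),
      Function.Surjective p ∧ Killed p c := by
  let f := Injective.ι (EtCoh.const X M)
  let S := ShortComplex.mk f (cokernel.π f) (cokernel.condition f)
  have hS : S.ShortExact := ShortComplex.ShortExact.mk' (ShortComplex.exact_cokernel f)
    inferInstance inferInstance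
  haveI : Injective S.X₂ := inferInstanceAs (Injective (Injective.under _))
  obtain ⟨e, rfl⟩ := EtLimit.exists_hδ_of_hmap_eq_zero hS (rfl : 0 + 1 = 1) c (Ext.eq_zero_of_injective _)
  obtain ⟨ψ, rfl⟩ := (Ext.mk₀_bijective _ _).2 e
  let y : S.X₃.obj.obj (op (EtCoh.top X)) := constVal ψ
  let g := S.g
  haveI : Epi g := hS.epi_g
  have hloc : ∀ x : X, ∃ (W : X.Etale) (w : W.left) (t : S.X₂.obj.obj (op W)),
      W.hom w = x ∧ g.hom.app _ t = yRes y (op W) := fun x => by
    have h : Presheaf.IsLocallySurjective X.smallEtaleTopology g.hom :=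
      (Sheaf.isLocallySurjective_iff_epi' AddCommGrpCat.{u + 1} g).2 inferInstance
    obtain ⟨W, m, w, ⟨t, ht⟩, hw⟩ := (mem_topology_iff _).1 (h.imageSieve_mem (U := EtCoh.top X) y) x
    refine ⟨W, w, t, ?_, ?_⟩
    · have hm : m.left ≫ 𝟙 X = W.hom := MorphismProperty.Over.w m
      rw [← hw]
      exact (congrArg (fun q : W.left ⟶ X => q w) ((Category.comp_id _).symm.trans hm)).symm
    · refine ht.trans ?_
      exact congrArg (fun q => S.X₃.obj.map (Quiver.Hom.op q) y) ((EtCore.topIsTerminal X).hom_ext m _)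
  let F := lifts g y
  have hexact : ∀ (U : X.Etale) (x : S.X₂.obj.obj (op U)), g.hom.app _ x = 0 → ∃ a, f.hom.app (op U) a = x :=
    fun U x hx => by
      haveI : Mono S.f := hS.mono_f
      exact (SiteBase.secExact_iff S U).1 (hS.exact.map_of_mono_of_preservesKernel
        (sheafToPresheaf X.smallEtaleTopology AddCommGrpCat.{u + 1} ⋙
          (evaluation X.Etaleᵒᵖ AddCommGrpCat.{u + 1}).obj (op U)) inferInstance inferInstance) x hx
  have hgf : ∀ (U : X.Etale) a, g.hom.app (op U) (f.hom.app (op U) a) = 0 := fun U a =>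
    congrArg (fun t : S.X₁ ⟶ S.X₃ => t.hom.app (op U) a) S.zero
  have hflc : CohProp.IsFinLocConstSet F := by
    choose W w t hw ht using hloc
    refine ⟨X, W, fun x => ⟨x, w x, hw x⟩, fun x => ⟨ULift.{u + 1} M, inferInstance, ?_⟩⟩
    let Φ : ULift.{u + 1} M ⟶ F.obj.obj (op (W x)) := TypeCat.ofHom fun m =>
      (⟨cst f (W x) m + t x, by rw [map_add, cst, hgf, zero_add, ht]⟩ :
        {z : S.X₂.obj.obj (op (W x)) // g.hom.app _ z = yRes y (op (W x))})
    refine FLCSet.nonempty_over_iso (φ := Φ) fun Ω _ _ ξ z => ?_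
    let P := Scheme.pointSmallEtale ξ
    haveI : Mono ((EtCoh.stalk ξ).map f) := by
      haveI : Mono f := hS.mono_f
      infer_instance
    have hf : Function.Injective ((EtCoh.stalk ξ).map f) := (AddCommGrpCat.mono_iff_injective _).1 inferInstance
    have hconst := toSheafify_const_germ_bijective ξ AddCommGrpCat.{u + 1} (AddCommGrpCat.of (ULift.{u + 1} M)) (W x) z
    refine ⟨fun m m' h => ?_, fun p => ?_⟩
    · obtain ⟨V, a, v, hv, ha⟩ := (P.toPresheafFiber_eq_iff' (P := F.obj) (W x) z (Φ m) (Φ m')).1 h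
      have ha' : S.X₂.obj.map a.op (cst f (W x) m) = S.X₂.obj.map a.op (cst f (W x) m') := by
        have := congrArg Subtype.val ha
        change S.X₂.obj.map a.op (cst f (W x) m + t x) = S.X₂.obj.map a.op (cst f (W x) m' + t x) at this
        rw [map_add, map_add] at this
        exact add_right_cancel this
      refine hconst.1 (hf ?_)
      refine (P.toPresheafFiber_naturality_apply f.hom _ _ _).trans (Eq.trans ?_ (P.toPresheafFiber_naturality_apply f.hom _ _ _).symm)
      exact (P.toPresheafFiber_eq_iff' _ _ _ _).2 ⟨V, a, v, hv, ha'⟩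
    · obtain ⟨V, v, q, rfl⟩ := P.toPresheafFiber_jointly_surjective (P := F.obj) p
      let V' := FLCSet.fibProd V (W x)
      let v' : P.fiber.obj V' := CategoryTheory.Over.homMk
        (pullback.lift (v.left : Spec (CommRingCat.of Ω) ⟶ V.left) (z.left : Spec (CommRingCat.of Ω) ⟶ (W x).left)
          ((CategoryTheory.Over.w v).trans (CategoryTheory.Over.w z).symm))
        ((Category.assoc _ _ _).symm.trans ((congrArg (· ≫ V.hom) (pullback.lift_fst _ _ _)).trans
          (CategoryTheory.Over.w v)))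
      have h1 : P.fiber.map (FLCSet.fibFst V (W x)) v' = v :=
        CategoryTheory.Over.OverMorphism.ext (pullback.lift_fst _ _ _)
      have h2 : P.fiber.map (FLCSet.fibSnd V (W x)) v' = z :=
        CategoryTheory.Over.OverMorphism.ext (pullback.lift_snd _ _ _)
      let q' : S.X₂.obj.obj (op V') :=
        S.X₂.obj.map (FLCSet.fibFst V (W x)).op q.1 - S.X₂.obj.map (FLCSet.fibSnd V (W x)).op (t x)
      obtain ⟨a, ha⟩ := hexact V' q' (by
        rw [map_sub, NatTrans.naturality_apply, NatTrans.naturality_apply, q.2, ht, yRes_map, yRes_map, sub_self])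
      obtain ⟨m, hm⟩ := hconst.2 (P.toPresheafFiber V' v' (EtCoh.const X M).obj a)
      have hm' : P.toPresheafFiber V' v' (EtCoh.const X M).obj
          ((EtCoh.const X M).obj.map (FLCSet.fibSnd V (W x)).op ((toSheafify X.smallEtaleTopology
            ((Functor.const X.Etaleᵒᵖ).obj (AddCommGrpCat.of (ULift.{u + 1} M)))).app (op (W x)) m)) =
          P.toPresheafFiber V' v' (EtCoh.const X M).obj a := by
        refine Eq.trans ?_ hm
        rw [← h2]
        exact P.toPresheafFiber_w_apply _ v' _ _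
      obtain ⟨T, b, τ, hτ, hb⟩ := (P.toPresheafFiber_eq_iff' _ _ _ _).1 hm'
      refine ⟨m, ?_⟩
      show P.toPresheafFiber (W x) z F.obj (Φ m) = P.toPresheafFiber V v F.obj q
      rw [← h2, ← h1]
      refine (P.toPresheafFiber_w_apply (FLCSet.fibSnd V (W x)) v' F.obj (Φ m)).symm.trans
        (Eq.trans ?_ (P.toPresheafFiber_w_apply (FLCSet.fibFst V (W x)) v' F.obj q))
      refine (P.toPresheafFiber_eq_iff' _ _ _ _).2 ⟨T, b, τ, hτ, Subtype.ext ?_⟩
      show S.X₂.obj.map b.op (S.X₂.obj.map (FLCSet.fibSnd V (W x)).op (cst f (W x) m + t x)) =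
        S.X₂.obj.map b.op (S.X₂.obj.map (FLCSet.fibFst V (W x)).op q.1)
      have e1 : S.X₂.obj.map b.op (S.X₂.obj.map (FLCSet.fibSnd V (W x)).op (cst f (W x) m)) =
          S.X₂.obj.map b.op q' := by
        rw [cst, ← NatTrans.naturality_apply f.hom, ← ha, ← NatTrans.naturality_apply f.hom, ← NatTrans.naturality_apply f.hom]
        exact congrArg (f.hom.app (op T)) hb
      rw [map_add, map_add, e1, map_sub, sub_add_cancel]
  obtain ⟨U, hU, ⟨θ⟩⟩ := FLCSet.exists_finite_repSh_iso hflc
  haveI := hU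
  haveI : AlgebraicGeometry.Etale U.hom := U.prop
  let η := toSheafify X.smallEtaleTopology (yoneda.obj U ⋙ uliftFunctor.{u + 1, u})
  have hsurj : Function.Surjective U.hom := fun x => by
    obtain ⟨W, w, t, hw, ht⟩ := hloc x
    have hl : Presheaf.IsLocallySurjective X.smallEtaleTopology η := inferInstance
    obtain ⟨V, m, v, ⟨b, -⟩, hv⟩ := (mem_topology_iff _).1
      (hl.imageSieve_mem (U := W) (θ.hom.hom.app (op W) (⟨t, ht⟩ : {z : S.X₂.obj.obj (op W) // g.hom.app _ z = yRes y (op W)}))) w
    refine ⟨b.down.left v, ?_⟩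
    have e := congrArg (fun q : V.left ⟶ X => q v) ((MorphismProperty.Over.w b.down).trans (MorphismProperty.Over.w m).symm)
    rw [← hw, ← hv]
    exact (Scheme.Hom.comp_apply _ _ v).symm.trans (e.trans (Scheme.Hom.comp_apply _ _ v))
  let σ : F.obj.obj (op U) := θ.inv.hom.app _ (η.app _ (⟨𝟙 U⟩ : ULift.{u + 1} (U ⟶ U)))
  refine ⟨U.left, U.hom, inferInstance, inferInstance, hsurj, ?_⟩
  intro _
  exact Hpull_extClass_eq_zero (U := U.left) hS U.hom ψ σ.1 σ.2

/-- A class of degree one with constant finite coefficients vanishes if finite étale covers have sections. -/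
theorem H1_eq_zero [Finite M]
    (hsec : ∀ (E : Scheme.{u}) (p : E ⟶ X) [IsFinite p] [AlgebraicGeometry.Etale p],
      Function.Surjective p → ∃ s : X ⟶ E, s ≫ p = 𝟙 X)
    (c : EtCoh.H X (EtCoh.const X M) 1) : c = 0 := by
  obtain ⟨E, p, _, _, hp, hk⟩ := exists_finite_etale_kill c
  obtain ⟨s, hs⟩ := hsec E p hp
  haveI : PreservesFiniteLimits (EtCoh.pull (𝟙 X)) := EtFound.pull_preservesFiniteLimits _
  exact (EtFound.Hpull_bijective_of_isIso (𝟙 X) _ 1).1 ((killed_of_factor p s (𝟙 X) hs hk).trans (map_zero _).symm)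

end Groth.Agent.GabberAff13
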