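import Groth.Agent.GabberAff13.InjKilled
import Groth.Agent.GabberAff13.ProperH1
import Groth.Agent.BCCrit13.BC

/-!
# Comparison with the closed fibre for torsion sheaves
-/

set_option autoImplicit false
set_option linter.style.haveILetI false
set_option backward.isDefEq.respectTransparency false
set_option backward.isDefEq.respectTransparency.types false
set_option maxHeartbeats 1000000

universe u

open CategoryTheory CategoryTheory.Limits AlgebraicGeometry Opposite

namespace Groth.Agent.GabberAff13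

open Groth.Agent.EtFound Groth.Agent.BCCrit13

variable {X : Scheme.{u}}

/-- The sequence of kernels of multiplications. -/
theorem torsN_ses (J : EtCoh.Ab X) [Injective J] {p m : ℕ} (hp : p.Prime) :
    ∃ (a : torsN J p ⟶ torsN J (p * m)) (b : torsN J (p * m) ⟶ torsN J m) (w : a ≫ b = 0),
      (ShortComplex.mk a b w).ShortExact := by
  let b : torsN J (p * m) ⟶ torsN J m := kernel.lift _ (p • kernel.ι ((p * m) • 𝟙 J)) (by
    have h := kernel.condition ((p * m) • 𝟙 J)
    rw [Preadditive.comp_nsmul, Category.comp_id] at h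
    rw [Preadditive.comp_nsmul, Category.comp_id, ← mul_nsmul, h])
  let a := torsIncl J (Dvd.intro m rfl : p ∣ p * m)
  have hb : b ≫ kernel.ι (m • 𝟙 J) = p • kernel.ι ((p * m) • 𝟙 J) := kernel.lift_ι _ _ _
  have hab : a ≫ b = 0 := eq_of_ι_nsmul J (by
    rw [Category.assoc, hb, Preadditive.comp_nsmul, torsIncl_ι, zero_comp]
    have h := kernel.condition (p • 𝟙 J)
    rwa [Preadditive.comp_nsmul, Category.comp_id] at h)
  let S := ShortComplex.mk a b hab
  haveI : Mono a := mono_of_mono_fac (torsIncl_ι J _)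
  have hS : S.ShortExact :=
    { exact := ShortComplex.exact_of_f_is_kernel S (KernelFork.IsLimit.ofι' a hab (fun {W} k hk => by
        have hk' : k ≫ kernel.ι ((p * m) • 𝟙 J) ≫ (p • 𝟙 J) = 0 := by
          rw [Preadditive.comp_nsmul, Category.comp_id]
          have := congrArg (· ≫ kernel.ι (m • 𝟙 J)) hk
          simp only [Category.assoc, zero_comp] at this
          rw [← this]
          exact congrArg (k ≫ ·) hb.symm
        refine ⟨kernel.lift _ (k ≫ kernel.ι ((p * m) • 𝟙 J)) ((Category.assoc _ _ _).trans hk'),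
          eq_of_ι_nsmul J ?_⟩
        rw [Category.assoc, torsIncl_ι, kernel.lift_ι]))
      mono_f := inferInstanceAs (Mono a)
      epi_g := by
        haveI := epi_nsmul_injective J hp.pos
        refine (epi_iff_surjective_up_to_refinements b).2 fun W y => ?_
        obtain ⟨W', π, hπ, x, hx⟩ := surjective_up_to_refinements_of_epi (p • 𝟙 J) (y ≫ kernel.ι (m • 𝟙 J))
        rw [Preadditive.comp_nsmul, Category.comp_id] at hx
        have hym : m • (y ≫ kernel.ι (m • 𝟙 J)) = 0 := by
          have h := kernel.condition (m • 𝟙 J)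
          rw [Preadditive.comp_nsmul, Category.comp_id] at h
          rw [← Preadditive.comp_nsmul, h, comp_zero]
        refine ⟨W', π, hπ, kernel.lift _ x ?_, eq_of_ι_nsmul J ?_⟩
        · rw [Preadditive.comp_nsmul, Category.comp_id, mul_nsmul, ← hx, ← Preadditive.comp_nsmul, hym,
            comp_zero]
        · rw [Category.assoc, Category.assoc, hb, Preadditive.comp_nsmul, kernel.lift_ι]
          exact hx }
  exact ⟨a, b, hab, hS⟩

variable {Z : Scheme.{u}} (i : Z ⟶ X)

/-- Dévissage to sheaves injective among those killed by a prime. -/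
theorem subsingleton_H_torsN
    (hV : ∀ (ℓ : ℕ), ℓ.Prime → ∀ (I : EtCoh.Ab X), InjKilled ℓ I → ∀ q : ℕ,
      Subsingleton (EtCoh.H Z ((EtCoh.pull i).obj I) (q + 1)))
    (J : EtCoh.Ab X) [Injective J] (q : ℕ) : ∀ n : ℕ, 0 < n →
      Subsingleton (EtCoh.H Z ((EtCoh.pull i).obj (torsN J n)) (q + 1)) := by
  intro n
  induction n using Nat.strong_induction_on with
  | _ n ih =>
    intro hn
    by_cases h1 : n = 1
    · subst h1
      have h0 : (𝟙 (torsN J 1) : torsN J 1 ⟶ torsN J 1) = 0 := by simpa using torsN_nsmul J 1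
      haveI := BCCrit13.pull_additive i
      refine subsingleton_of_forall_eq 0 fun x => ?_
      rw [← CohCrit13.hmap_id (q + 1) x, ← CategoryTheory.Functor.map_id, h0, Functor.map_zero]
      exact EtLimit.hmap_zero_map _ x
    obtain ⟨p, hp, m, rfl⟩ := Nat.exists_prime_and_dvd h1
    have hm : 0 < m := pos_of_mul_pos_right hn (Nat.zero_le _)
    obtain ⟨a, b, w, hS⟩ := torsN_ses (m := m) J hp
    haveI : PreservesFiniteLimits (EtCoh.pull i) := EtFound.pull_preservesFiniteLimits _
    haveI := BCCrit13.pull_additive i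
    haveI := BCCrit13.pull_preservesFiniteColimits i
    have hS' := hS.map_of_exact (EtCoh.pull i)
    refine subsingleton_of_forall_eq 0 fun x => ?_
    obtain ⟨y, rfl⟩ := EtLimit.exists_hmap_of_hmap_eq_zero hS' (q + 1) x
      (@Subsingleton.elim _ (ih m (lt_mul_left hm hp.one_lt) hm) _ _)
    exact (congrArg _ (@Subsingleton.elim _ (hV p hp _ (injKilled_torsN J p) q) y 0)).trans (map_zero _)

/-- The torsion envelope is acyclic on the closed subscheme. -/
theorem subsingleton_H_torsEnv [CompactSpace Z] [QuasiSeparatedSpace Z]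
    (hV : ∀ (ℓ : ℕ), ℓ.Prime → ∀ (I : EtCoh.Ab X), InjKilled ℓ I → ∀ q : ℕ,
      Subsingleton (EtCoh.H Z ((EtCoh.pull i).obj I) (q + 1)))
    (J : EtCoh.Ab X) [Injective J] (q : ℕ) : Subsingleton (EtCoh.H Z ((EtCoh.pull i).obj (torsEnv J)) (q + 1)) := by
  haveI : (EtCoh.pull i).IsLeftAdjoint := (EtCoh.pullPushAdj i).isLeftAdjoint
  haveI := EtLC12.QcqsAcyclic.preservesColimitsOfShape_HF Z (q + 1) Idx.{u}
  refine subsingleton_of_forall_eq 0 fun x => ?_
  obtain ⟨a, y, rfl⟩ := Concrete.isColimit_exists_rep _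
    (isColimitOfPreserves (EtCoh.pull i ⋙ EtCoh.HF Z (q + 1)) (colimit.isColimit (torsDiag J))) x
  exact (congrArg _ (@Subsingleton.elim _ (subsingleton_H_torsN i hV J q _ (Nat.factorial_pos (idxVal a))) y 0)).trans
    (map_zero _)

/-- Comparison for all torsion sheaves, from degree zero and the vanishing. -/
theorem bijective_Hpull_of_vanish' [CompactSpace X] [QuasiSeparatedSpace X] [CompactSpace Z] [QuasiSeparatedSpace Z]
    [PreservesFiniteLimits (EtCoh.pull i)]
    (h0 : ∀ F : EtCoh.Ab X, Function.Bijective (EtCore.Hpull i F 0))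
    (hV : ∀ (ℓ : ℕ), ℓ.Prime → ∀ (I : EtCoh.Ab X), InjKilled ℓ I → ∀ q : ℕ,
      Subsingleton (EtCoh.H Z ((EtCoh.pull i).obj I) (q + 1)))
    (F : EtCoh.Ab X) (hF : EtCoh.IsTorsion F) (q : ℕ) : Function.Bijective (EtCore.Hpull i F q) := by
  have hX : ∀ (J : EtCoh.Ab X) [Injective J] (m : ℕ), Subsingleton (EtCoh.H X (torsEnv J) (m + 1)) := fun J _ m => by
    haveI := EtLC12.QcqsAcyclic.preservesColimitsOfShape_HF X (m + 1) Idx.{u}
    haveI : PreservesFiniteLimits (EtCoh.pull (𝟙 X)) := EtFound.pull_preservesFiniteLimits _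
    refine subsingleton_of_forall_eq 0 fun x => ?_
    obtain ⟨a, y, rfl⟩ := Concrete.isColimit_exists_rep _
      (isColimitOfPreserves (EtCoh.HF X (m + 1)) (colimit.isColimit (torsDiag J))) x
    have hV' : ∀ (ℓ : ℕ), ℓ.Prime → ∀ (I : EtCoh.Ab X), InjKilled ℓ I → ∀ q : ℕ,
        Subsingleton (EtCoh.H X ((EtCoh.pull (𝟙 X)).obj I) (q + 1)) := fun ℓ hl I hI q =>
      haveI := subsingleton_H_injKilled hl.pos hI q
      (EtFound.Hpull_bijective_of_isIso (𝟙 X) I (q + 1)).2.subsingleton
    have hy : y = (0 : EtCoh.H X (torsN J (idxVal a).factorial) (m + 1)) :=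
      (EtFound.Hpull_bijective_of_isIso (𝟙 X) (torsN J (idxVal a).factorial) (m + 1)).1
        (@Subsingleton.elim _ (subsingleton_H_torsN (𝟙 X) hV' J m _ (Nat.factorial_pos (idxVal a))) _ _)
    rw [hy]
    exact map_zero _
  have hG : ∀ F : EtCoh.Ab X, EtCoh.IsTorsion F → ∃ (G : EtCoh.Ab X) (u : F ⟶ G) (_ : Mono u), EtCoh.IsTorsion G ∧
      EtCoh.IsTorsion (cokernel u) ∧ (∀ m, Subsingleton (EtCoh.H X G (m + 1))) ∧
      ∀ m, Subsingleton (EtCoh.H Z ((EtCoh.pull i).obj G) (m + 1)) := fun F hF => by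
    obtain ⟨u, hu⟩ := exists_mono_torsEnv hF
    exact ⟨_, u, hu, isTorsion_torsEnv _, isTorsion_of_epi (cokernel.π u) (isTorsion_torsEnv _),
      fun m => hX _ m, fun m => subsingleton_H_torsEnv i hV _ m⟩
  have h := CohCrit13.comparison i (fun G => EtCoh.IsTorsion G) q (fun F hF => by
    obtain ⟨G, u, hu, -, hQ, -, hG'⟩ := hG F hF
    refine ⟨G, u, hu, hQ, (h0 G).1, fun j _ => ?_⟩
    cases j with
    | zero => exact (h0 G).2
    | succ j => exact fun y => ⟨0, (map_zero _).trans (@Subsingleton.elim _ (hG' j) _ _)⟩) (fun F hF j α => by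
    obtain ⟨G, u, hu, hGt, hQ, hG₀, -⟩ := hG F hF
    exact ⟨G, u, hu, hGt, hQ, @Subsingleton.elim _ (hG₀ j) _ _⟩) q (Nat.le_succ q) F hF
  exact ⟨h.1, h.2 le_rfl⟩

/-- Comparison along closed immersions. -/
theorem bijective_Hpull_of_vanish [IsClosedImmersion i] [CompactSpace X] [QuasiSeparatedSpace X]
    [PreservesFiniteLimits (EtCoh.pull i)]
    (h0 : ∀ F : EtCoh.Ab X, Function.Bijective (EtCore.Hpull i F 0))
    (hV : ∀ (ℓ : ℕ), ℓ.Prime → ∀ (I : EtCoh.Ab X), InjKilled ℓ I → ∀ q : ℕ,
      Subsingleton (EtCoh.H Z ((EtCoh.pull i).obj I) (q + 1)))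
    (F : EtCoh.Ab X) (hF : EtCoh.IsTorsion F) (q : ℕ) : Function.Bijective (EtCore.Hpull i F q) := by
  haveI : CompactSpace Z := QuasiCompact.compactSpace_of_compactSpace i
  haveI : QuasiSeparatedSpace Z := quasiSeparatedSpace_of_quasiSeparated i
  exact bijective_Hpull_of_vanish' i h0 hV F hF q

end Groth.Agent.GabberAff13
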