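import Groth.Agent.GabberAff13.Efface
import Groth.Agent.EtFound.LocCoh

/-!
# Sheaves injective among those killed by `ℓ`, restricted to closed subschemes
-/

set_option autoImplicit false
set_option linter.style.haveILetI false
set_option backward.isDefEq.respectTransparency false
set_option backward.isDefEq.respectTransparency.types false
set_option maxHeartbeats 1000000

universe u

open CategoryTheory CategoryTheory.Limits AlgebraicGeometry Opposite

namespace Groth.Agent.GabberAff13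

open Groth.Agent.EtFound Groth.Agent.BCCrit13

variable {X : Scheme.{u}}

/-- The kernel of multiplication commutes with left exact functors. -/
theorem nonempty_torsN_map {A B : Scheme.{u}} (T : EtCoh.Ab A ⥤ EtCoh.Ab B) [T.Additive] [PreservesFiniteLimits T]
    (K : EtCoh.Ab A) (n : ℕ) : Nonempty (T.obj (torsN K n) ≅ torsN (T.obj K) n) :=
  ⟨PreservesKernel.iso T (n • 𝟙 K) ≪≫ kernelIsoOfEq (by rw [Functor.map_nsmul, CategoryTheory.Functor.map_id])⟩

/-- The kernel of multiplication on a constant sheaf is constant. -/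
theorem nonempty_torsN_const (W : Scheme.{u}) (M : Type) [AddCommGroup M] (n : ℕ) :
    Nonempty (torsN (EtCoh.const W M) n ≅ EtCoh.const W (nsmulAddMonoidHom (α := M) n).ker) := by
  let K := constantSheaf W.smallEtaleTopology AddCommGrpCat.{u + 1}
  haveI : K.Additive := (EtCore.constAdj W).left_adjoint_additive
  haveI : PreservesFiniteLimits K := comp_preservesFiniteLimits _ _
  let G := AddCommGrpCat.of (ULift.{u + 1} M)
  let e : ULift.{u + 1} (nsmulAddMonoidHom (α := M) n).ker ≃+ (n • 𝟙 G : G ⟶ G).hom.ker :=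
    { toFun := fun x => ⟨⟨x.down.1⟩, ULift.ext _ _ (x.down.2 : n • x.down.1 = 0)⟩
      invFun := fun y => ⟨⟨y.1.down, congrArg ULift.down (y.2 : n • y.1 = 0)⟩⟩
      left_inv := fun _ => rfl
      right_inv := fun _ => rfl
      map_add' := fun _ _ => rfl }
  exact ⟨(PreservesKernel.iso K (n • 𝟙 G) ≪≫
    kernelIsoOfEq (by rw [Functor.map_nsmul, CategoryTheory.Functor.map_id])).symm ≪≫
    K.mapIso (AddCommGrpCat.kernelIsoKer (n • 𝟙 G) ≪≫ e.symm.toAddCommGrpIso)⟩

theorem nonempty_torsN_push {W : Scheme.{u}} (r : W ⟶ X) (M : Type) [AddCommGroup M] (n : ℕ) :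
    Nonempty (torsN ((EtCoh.push r).obj (EtCoh.const W M)) n ≅
      (EtCoh.push r).obj (EtCoh.const W (nsmulAddMonoidHom (α := M) n).ker)) := by
  haveI := EtFound.push_preservesFiniteLimits r
  obtain ⟨a⟩ := nonempty_torsN_map (EtCoh.push r) (EtCoh.const W M) n
  obtain ⟨b⟩ := nonempty_torsN_const W M n
  exact ⟨a.symm ≪≫ (EtCoh.push r).mapIso b⟩

theorem killedBy_push_const_ker {W : Scheme.{u}} (r : W ⟶ X) (M : Type) [AddCommGroup M] (n : ℕ) :
    n • 𝟙 ((EtCoh.push r).obj (EtCoh.const W (nsmulAddMonoidHom (α := M) n).ker)) = 0 := by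
  obtain ⟨a⟩ := nonempty_torsN_push r M n
  rw [← cancel_epi a.hom, Preadditive.comp_nsmul, Category.comp_id, comp_zero,
    ← Category.id_comp a.hom, ← Preadditive.nsmul_comp, torsN_nsmul, zero_comp]

theorem nsmul_biproduct {b : ℕ} (G : Fin b → EtCoh.Ab X) {n : ℕ} (h : ∀ j, n • 𝟙 (G j) = 0) :
    n • 𝟙 (⨁ G) = 0 := by
  refine biproduct.hom_ext _ _ fun j => ?_
  rw [Preadditive.nsmul_comp, Category.id_comp, ← Category.comp_id (biproduct.π G j), ← Preadditive.comp_nsmul, h j,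
    comp_zero, zero_comp]

/-- Embeddings of constructible sheaves killed by `ℓ` into direct images of constants killed by `ℓ`. -/
theorem exists_emb_killed [CompactSpace X] [QuasiSeparatedSpace X] {D : EtCoh.Ab X} (hD : EtPBC.IsConstructible D)
    {ℓ : ℕ} (hl : EtCoh.KilledBy ℓ D) :
    ∃ (b : ℕ) (Y : Fin b → Scheme.{u}) (f : ∀ j, Y j ⟶ X) (_ : ∀ j, IsFinite (f j))
      (M : Fin b → Type) (_ : ∀ j, AddCommGroup (M j)) (_ : ∀ j, Finite (M j))
      (u : D ⟶ ⨁ fun j => (EtCoh.push (f j)).obj (EtCoh.const (Y j) (M j))),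
      Mono u ∧ ℓ • 𝟙 (⨁ fun j => (EtCoh.push (f j)).obj (EtCoh.const (Y j) (M j))) = 0 := by
  obtain ⟨b, Y, f, hf, hfp, M, hM, hMf, h0⟩ := ConstEmb13.exists_mono D hD
  obtain ⟨ι₀, hι₀⟩ := h0
  haveI := hMf
  let e := fun j => (nonempty_torsN_push (f j) (M j) ℓ).some
  let v := fun j => toTorsN hl (ι₀ ≫ biproduct.π _ j) ≫ (e j).hom
  refine ⟨b, Y, f, hf, fun j => (nsmulAddMonoidHom (α := M j) ℓ).ker, fun j => inferInstance, fun j => inferInstance,
    biproduct.lift v, ?_, nsmul_biproduct _ fun j => killedBy_push_const_ker (f j) (M j) ℓ⟩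
  haveI := hι₀
  refine mono_of_mono_fac (f := biproduct.map fun j => (e j).inv ≫ kernel.ι _) (h := ι₀) ?_
  refine biproduct.hom_ext _ _ fun j => ?_
  rw [Category.assoc, biproduct.map_π, biproduct.lift_π_assoc]
  simp only [v, Category.assoc, Iso.hom_inv_id_assoc, toTorsN_ι]

theorem exists_emb_killed_aic [IsAffine X] {D : EtCoh.Ab X} (hD : EtPBC.IsConstructible D)
    {ℓ : ℕ} (hl : EtCoh.KilledBy ℓ D) :
    ∃ (b : ℕ) (W S : Fin b → Scheme.{u}) (r : ∀ j, W j ⟶ X) (_ : ∀ j, IsIntegralHom (r j)) (k : ∀ j, W j ⟶ S j)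
      (_ : ∀ j, IsClosedImmersion (k j)) (_ : ∀ j, IsAic (S j))
      (M : Fin b → Type) (_ : ∀ j, AddCommGroup (M j)) (_ : ∀ j, Finite (M j))
      (u : D ⟶ ⨁ fun j => (EtCoh.push (r j)).obj (EtCoh.const (W j) (M j))),
      Mono u ∧ ℓ • 𝟙 (⨁ fun j => (EtCoh.push (r j)).obj (EtCoh.const (W j) (M j))) = 0 := by
  obtain ⟨b, Y, f, hf, M, hM, hMf, u, hu, -⟩ := exists_emb_killed hD hl
  haveI : ∀ j, IsAffine (Y j) := fun j => by haveI := hf j; exact isAffine_of_isAffineHom (f j)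
  choose W S q k hq hsq hk hS using fun j => exists_aic_cover (Y j)
  haveI := hu
  haveI := hMf
  let e := fun j => (nonempty_torsN_push (q j ≫ f j) (M j) ℓ).some
  let p : ∀ j, (EtCoh.push (f j)).obj (EtCoh.const (Y j) (M j)) ⟶ (EtCoh.push (q j ≫ f j)).obj (EtCoh.const (W j) (M j)) :=
    fun j => (ConstEmb13.pushConstIso (M j) (f j)).hom ≫ ConstEmb13.pgMap (M j) (f j) (q j ≫ f j) (q j) rfl ≫
      (ConstEmb13.pushConstIso (M j) (q j ≫ f j)).inv
  haveI : ∀ j, Mono (p j) := fun j => by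
    haveI : Surjective (q j) := ⟨hsq j⟩
    haveI := mono_pgMap (M j) (f j) (q j ≫ f j) (q j) rfl
    exact mono_comp _ _
  let v := fun j => toTorsN hl (u ≫ biproduct.π _ j ≫ p j) ≫ (e j).hom
  refine ⟨b, W, S, fun j => q j ≫ f j, fun j => ?_, k, hk, hS, fun j => (nsmulAddMonoidHom (α := M j) ℓ).ker,
    fun j => inferInstance, fun j => inferInstance, biproduct.lift v, ?_,
    nsmul_biproduct _ fun j => killedBy_push_const_ker (q j ≫ f j) (M j) ℓ⟩
  · haveI := hf j; haveI := hq j; infer_instance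
  · refine mono_of_mono_fac (f := biproduct.map fun j => (e j).inv ≫ kernel.ι _) (h := u ≫ biproduct.map p) ?_
    refine biproduct.hom_ext _ _ fun j => ?_
    simp only [v, Category.assoc, biproduct.map_π, biproduct.lift_π_assoc, Iso.hom_inv_id_assoc, toTorsN_ι]

variable {Z : Scheme.{u}} (i : Z ⟶ X) [IsClosedImmersion i]

/-- A class vanishes once it lifts to the direct images of the constants it maps into. -/
theorem eq_zero_of_injKilled [CompactSpace X] [QuasiSeparatedSpace X] {ℓ : ℕ} {I : EtCoh.Ab X} (hI : InjKilled ℓ I)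
    (hℓ : 0 < ℓ) {q : ℕ}
    (h : ∀ D : EtCoh.Ab X, EtPBC.IsConstructible D → EtCoh.KilledBy ℓ D →
      ∃ (G : EtCoh.Ab X) (u : D ⟶ G) (_ : Mono u), EtCoh.KilledBy ℓ G ∧
        ∀ (b : G ⟶ I) (y : EtCoh.H Z ((EtCoh.pull i).obj D) q),
          EtLimit.hmap ((EtCoh.pull i).map b) q (EtLimit.hmap ((EtCoh.pull i).map u) q y) = 0)
    (ξ : EtCoh.H Z ((EtCoh.pull i).obj I) q) : ξ = 0 := by
  have htor : EtCoh.IsTorsion I := EtTrace.isTorsion_of_nsmul_id hℓ ((killedBy_iff_nsmul _ _).1 hI.1)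
  obtain ⟨J, _, _, K, c₀, hc₀, hK, ⟨eF⟩⟩ := S0134.result X I htor
  haveI : CompactSpace Z := QuasiCompact.compactSpace_of_compactSpace i
  haveI : QuasiSeparatedSpace Z := quasiSeparatedSpace_of_quasiSeparated i
  let c := c₀.extend eF.hom
  let hc : IsColimit c := IsColimit.extendIso eF.hom hc₀
  haveI := EtLC12.QcqsAcyclic.preservesColimitsOfShape_HF Z q J
  haveI : PreservesColimitsOfSize.{u + 1, u + 1} (EtCoh.pull i) := (EtCoh.pullPushAdj i).leftAdjoint_preservesColimits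
  obtain ⟨j, η, rfl⟩ := Concrete.isColimit_exists_rep _
    (isColimitOfPreserves (EtCoh.pull i ⋙ EtCoh.HF Z q) hc) ξ
  obtain ⟨N, hN, hDN⟩ := exists_killedBy X (hK j)
  have hl := (killedBy_iff_nsmul _ _).1 hI.1
  let m : K.obj j ⟶ K.obj j := ℓ • 𝟙 (K.obj j)
  have hk : EtCoh.KilledBy ℓ (cokernel m) := (killedBy_iff_nsmul _ _).2 (by
    rw [← cancel_epi (cokernel.π m), comp_zero, Preadditive.comp_nsmul, Category.comp_id]
    have := cokernel.condition m
    rwa [Preadditive.nsmul_comp, Category.id_comp] at this)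
  obtain ⟨G, u, _, hG, hb⟩ := h (cokernel m)
    (S0131.result m N hN ((killedBy_iff_nsmul _ _).2 hDN) ((killedBy_iff_nsmul _ _).2 hDN) (hK j) (hK j)).2 hk
  let c' : cokernel m ⟶ I := cokernel.desc m (c.ι.app j) (by
    rw [Preadditive.nsmul_comp, Category.id_comp, ← Category.comp_id (c.ι.app j)]
    refine Eq.trans ?_ ((congrArg (c.ι.app j ≫ ·) hl).trans comp_zero)
    exact (Preadditive.comp_nsmul ..).symm)
  obtain ⟨b, hub⟩ := hI.2 (cokernel m) hk c' u hG inferInstance
  have h2 := hb b (EtLimit.hmap ((EtCoh.pull i).map (cokernel.π m)) q η)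
  show EtLimit.hmap ((EtCoh.pull i).map (c.ι.app j)) q η = 0
  rw [EtLimit.hmap_comp, EtLimit.hmap_comp, ← Functor.map_comp, ← Functor.map_comp] at h2
  rw [hub, cokernel.π_desc] at h2
  exact h2

/-- Affine vanishing. -/
theorem subsingleton_H_pull_injKilled [IsAffine X] {ℓ : ℕ} (hℓ : 0 < ℓ) {I : EtCoh.Ab X} (hI : InjKilled ℓ I) (q : ℕ) :
    Subsingleton (EtCoh.H Z ((EtCoh.pull i).obj I) (q + 1)) := by
  haveI : PreservesFiniteLimits (EtCoh.pull i) := EtFound.pull_preservesFiniteLimits _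
  haveI : PreservesColimitsOfSize.{0, 0} (EtCoh.pull i) := (EtCoh.pullPushAdj i).leftAdjoint_preservesColimits
  haveI : (EtCoh.pull i).Additive := Functor.additive_of_preserves_binary_products _
  refine subsingleton_of_forall_eq 0 fun ξ => eq_zero_of_injKilled i hI hℓ (fun D hD hl => ?_) ξ
  obtain ⟨b, W, S, r, hr, k, hk, hS, M, hM, hMf, u, hu, hG⟩ := exists_emb_killed_aic hD hl
  refine ⟨_, u, hu, (killedBy_iff_nsmul _ _).2 hG, fun b' y => ?_⟩
  let E := fun j => (EtCoh.push (r j)).obj (EtCoh.const (W j) (M j))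
  have h : ∀ j (x : EtCoh.H Z ((EtCoh.pull i).obj (⨁ E)) (q + 1)),
      EtLimit.hmap ((EtCoh.pull i).map (biproduct.π E j)) (q + 1) x = 0 := fun j x => by
    haveI := hr j; haveI := hk j; haveI := hMf j
    exact @Subsingleton.elim _ (subsingleton_H_pull_push i (r j) (k j) (hS j) (M j) q) _ _
  have h0 : ∀ x : EtCoh.H Z ((EtCoh.pull i).obj (⨁ E)) (q + 1), x = 0 := fun x => by
    have : x = ∑ j, EtLimit.hmap ((EtCoh.pull i).map (biproduct.ι E j)) (q + 1)
        (EtLimit.hmap ((EtCoh.pull i).map (biproduct.π E j)) (q + 1) x) := by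
      simp only [EtLimit.hmap_comp, ← Functor.map_comp, CohCrit13.hmap_sum, ← Functor.map_sum, biproduct.total,
        CategoryTheory.Functor.map_id, CohCrit13.hmap_id]
    rw [this]
    exact Finset.sum_eq_zero fun j _ => by rw [h j x, map_zero]
  exact (congrArg _ (h0 _)).trans (map_zero _)

/-- Restriction to an open subscheme. -/
theorem injKilled_pull_open {U : Scheme.{u}} (j : U ⟶ X) [IsOpenImmersion j] {ℓ : ℕ} {I : EtCoh.Ab X}
    (hI : InjKilled ℓ I) : InjKilled ℓ ((EtCoh.pull j).obj I) := by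
  haveI := pull_additive j
  refine ⟨killedBy_map _ hI.1, fun G hG a G' m hG' _ => ?_⟩
  haveI := jCont j
  haveI := preservesMono_extZero_etale j
  haveI : (EtShriek.extZero j).Additive := (shriekPullAdj j).left_adjoint_additive
  obtain ⟨b, hb⟩ := hI.2 _ (killedBy_map (EtShriek.extZero j) hG) (((shriekPullAdj j).homEquiv _ _).symm a)
    ((EtShriek.extZero j).map m) (killedBy_map (EtShriek.extZero j) hG') inferInstance
  refine ⟨(shriekPullAdj j).homEquiv _ _ b, ?_⟩
  rw [← Adjunction.homEquiv_naturality_left, hb, Equiv.apply_symm_apply]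

/-- Acyclicity. -/
theorem subsingleton_H_injKilled {ℓ : ℕ} (hℓ : 0 < ℓ) {I : EtCoh.Ab X} (hI : InjKilled ℓ I) (q : ℕ) :
    Subsingleton (EtCoh.H X I (q + 1)) := by
  let J := Injective.under I
  have hS := torsNSeq_shortExact J hℓ
  refine subsingleton_of_forall_eq 0 fun x => ?_
  have h0 : ∀ y : EtCoh.H X (torsN J ℓ) (q + 1), y = 0 := fun y => by
    haveI : Injective (torsNSeq J ℓ).X₂ := inferInstanceAs (Injective J)
    obtain ⟨c, rfl⟩ := EtLimit.exists_hδ_of_hmap_eq_zero hS (rfl : q + 1 = q + 1) y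
      (Abelian.Ext.eq_zero_of_injective _)
    cases q with
    | zero =>
      obtain ⟨t, ht⟩ := surjective_nsmul_injective J hℓ (EtCoh.top X)
        (Sheaf.H.equiv₀ J (EtCore.topIsTerminal X) c)
      have hc : EtLimit.hmap (ℓ • 𝟙 J) 0 ((Sheaf.H.equiv₀ J (EtCore.topIsTerminal X)).symm t) = c := by
        refine (Sheaf.H.equiv₀ J (EtCore.topIsTerminal X)).injective ?_
        refine (Sheaf.H.equiv₀_naturality (EtCore.topIsTerminal X) _ _).symm.trans ?_
        rw [AddEquiv.apply_symm_apply]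
        exact ht
      exact (congrArg (EtLimit.hδ hS rfl) hc).symm.trans (EtLimit.hδ_hmap_g hS rfl _)
    | succ q =>
      haveI : Injective (torsNSeq J ℓ).X₃ := inferInstanceAs (Injective J)
      exact (congrArg (EtLimit.hδ hS rfl) (Abelian.Ext.eq_zero_of_injective c)).trans (map_zero _)
  haveI : Mono (toTorsN hI.1 (Injective.ι I)) := mono_of_mono_fac (toTorsN_ι hI.1 (Injective.ι I))
  obtain ⟨r, hr⟩ := hI.2 I hI.1 (𝟙 I) (toTorsN hI.1 (Injective.ι I)) (killedBy_torsN _ _) inferInstance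
  rw [← CohCrit13.hmap_id (q + 1) x, ← hr, ← EtLimit.hmap_comp, h0 (EtLimit.hmap _ (q + 1) x), map_zero]

end Groth.Agent.GabberAff13
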