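import Groth.Agent.EtLC12.FlasqueAcyclic
import Groth.Agent.EtFound.TorsionCoh
import Groth.Agent.EtFound.PullExt
import Mathlib.Algebra.Category.ModuleCat.Presheaf.Sheafification

/-!
# Injective sheaves of modules over a sheaf of rings on the étale site
-/

set_option autoImplicit false
set_option linter.style.haveILetI false
set_option backward.isDefEq.respectTransparency false
set_option backward.isDefEq.respectTransparency.types false
set_option maxHeartbeats 1000000

universe u

open CategoryTheory CategoryTheory.Limits AlgebraicGeometry Opposite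

namespace Groth.Agent.GabberAff13

open Groth.Agent.EtFound Groth.Agent.EtLC12

variable {X : Scheme.{u}} {A : Sheaf X.smallEtaleTopology RingCat.{u + 1}}

/-- The values of a presheaf of modules on all objects over an object. -/
abbrev CofreeVal (M : PresheafOfModules.{u + 1} A.obj) (T : X.Etaleᵒᵖ) : Type (u + 1) :=
  ∀ T₀ : X.Etale, (T₀ ⟶ T.unop) → M.obj (op T₀)

/-- The action on the cofree presheaf. -/
noncomputable instance cofreeModule (M : PresheafOfModules.{u + 1} A.obj) (T : X.Etaleᵒᵖ) :
    Module (A.obj.obj T) ((FlasqueAcyclic.cofree (C := X.Etale) fun T₀ => M.presheaf.obj (op T₀)).obj T) where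
  smul a x := fun T₀ h => (A.obj.map h.op).hom a • ((x : CofreeVal M T) T₀ h : M.obj (op T₀))
  one_smul x := funext₂ fun T₀ h => (congrArg (· • (x : CofreeVal M T) T₀ h) (map_one _)).trans (one_smul _ _)
  mul_smul a b x := funext₂ fun T₀ h =>
    (congrArg (· • (x : CofreeVal M T) T₀ h) (map_mul (A.obj.map h.op).hom a b)).trans (mul_smul _ _ _)
  smul_zero a := funext₂ fun T₀ h => smul_zero ((A.obj.map h.op).hom a)
  smul_add a x y := funext₂ fun T₀ h => smul_add ((A.obj.map h.op).hom a) _ _
  add_smul a b x := funext₂ fun T₀ h =>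
    (congrArg (· • (x : CofreeVal M T) T₀ h) (map_add (A.obj.map h.op).hom a b)).trans (add_smul _ _ _)
  zero_smul x := funext₂ fun T₀ h => (congrArg (· • (x : CofreeVal M T) T₀ h) (map_zero _)).trans (zero_smul _ _)

/-- The cofree presheaf of modules. -/
noncomputable def cofreeMod (M : PresheafOfModules.{u + 1} A.obj) : PresheafOfModules.{u + 1} A.obj :=
  PresheafOfModules.ofPresheaf (FlasqueAcyclic.cofree (C := X.Etale) fun T₀ => M.presheaf.obj (op T₀))
    fun S T f r x => funext₂ fun T₀ h => by
      show (A.obj.map (h ≫ f.unop).op).hom r • ((x : CofreeVal M S) T₀ (h ≫ f.unop)) =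
        (A.obj.map h.op).hom ((A.obj.map f).hom r) • ((x : CofreeVal M S) T₀ (h ≫ f.unop))
      refine congrArg (· • _) ?_
      exact ConcreteCategory.congr_hom (A.obj.map_comp f h.op) r

/-- The map into the cofree presheaf of modules. -/
noncomputable def toCofreeMod (M : PresheafOfModules.{u + 1} A.obj) : M ⟶ cofreeMod M :=
  PresheafOfModules.homMk
    { app := fun T => AddCommGrpCat.ofHom
        { toFun := fun s T₀ h => M.map h.op s
          map_zero' := funext₂ fun T₀ h => map_zero (M.map h.op).hom
          map_add' := fun a b => funext₂ fun T₀ h => map_add (M.map h.op).hom a b }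
      naturality := fun S T f => AddCommGrpCat.ext fun s => funext₂ fun T₀ h =>
        (M.map_comp_apply f h.op s).symm }
    fun T r s => funext₂ fun T₀ h => M.map_smul h.op r s

theorem mono_toPresheaf_toCofreeMod (M : PresheafOfModules.{u + 1} A.obj) : Mono (toCofreeMod M) := by
  refine (PresheafOfModules.toPresheaf A.obj).mono_of_mono_map ?_
  have h : ∀ T, Mono (((PresheafOfModules.toPresheaf A.obj).map (toCofreeMod M)).app T) := fun T =>
    (AddCommGrpCat.mono_iff_injective _).2 fun a b hab => by
      have h : M.presheaf.map (𝟙 T) a = M.presheaf.map (𝟙 T) b := congrFun (congrFun hab T.unop) (𝟙 _)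
      rw [M.presheaf.map_id] at h
      exact h
  exact NatTrans.mono_of_mono_app _

/-- The underlying abelian sheaf of an injective sheaf of modules has no higher Čech cohomology. -/
theorem isCechAcyclic_toSheaf (I : SheafOfModules.{u + 1} A) [Injective I] :
    FlasqueAcyclic.IsCechAcyclic ((SheafOfModules.toSheaf A).obj I) := by
  intro U _ ι Uf p
  haveI : LocallySmall.{u + 1} X.Etale := ⟨fun _ _ => inferInstance⟩
  let adj := PresheafOfModules.sheafificationAdjunction.{u + 1} (𝟙 A.obj)
  haveI : Injective ((SheafOfModules.forget A ⋙ PresheafOfModules.restrictScalars (𝟙 A.obj)).obj I) :=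
    Injective.injective_of_adjoint adj I
  let M := (SheafOfModules.forget A ⋙ PresheafOfModules.restrictScalars (𝟙 A.obj)).obj I
  haveI := mono_toPresheaf_toCofreeMod M
  haveI : Injective M := ‹Injective ((SheafOfModules.forget A ⋙ PresheafOfModules.restrictScalars (𝟙 A.obj)).obj I)›
  refine FlasqueAcyclic.isZero_cechH_of_retract (fun T₀ => M.presheaf.obj (op T₀)) Uf
    ((PresheafOfModules.toPresheaf A.obj).map (toCofreeMod M))
    ((PresheafOfModules.toPresheaf A.obj).map (Injective.factorThru (𝟙 M) (toCofreeMod M))) ?_ p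
  exact ((PresheafOfModules.toPresheaf A.obj).map_comp _ _).symm.trans
    ((congrArg (PresheafOfModules.toPresheaf A.obj).map (Injective.comp_factorThru _ _)).trans
      ((PresheafOfModules.toPresheaf A.obj).map_id M))

/-- Sheaves without Čech cohomology have no cohomology on affine schemes étale over the base. -/
theorem subsingleton_H_etale_affine (F : EtCoh.Ab X) (hF : FlasqueAcyclic.IsCechAcyclic F)
    {V : Scheme.{u}} (j : V ⟶ X) [AlgebraicGeometry.Etale j] [CompactSpace V] [QuasiSeparatedSpace V] (q : ℕ) :
    Subsingleton (EtCoh.H V ((EtCoh.pull j).obj F) (q + 1)) := by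
  haveI : EtCoh.BCCont j := EtCoh.bcCont j
  haveI : PreservesFiniteLimits (EtCoh.pull j) := EtFound.pull_preservesFiniteLimits j
  let W : X.Etale := Scheme.Etale.mk j
  haveI : IsIso (𝟙 V : V ⟶ W.left) := IsIso.id V
  have hW : IsQcqsObj W := ⟨‹CompactSpace V›, ‹QuasiSeparatedSpace V›⟩
  have h := subsingleton_ext_free hW q F fun U _ ι _ Uf _ _ p => hF U ι Uf p
  exact (ptMap_bijective j W (𝟙 V) (Category.id_comp j) F (q + 1)).2.subsingleton

/-- A module over a torsion sheaf of rings is torsion. -/
theorem isTorsion_toSheaf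
    (hA : ∀ (U : X.Etale) (s : A.obj.obj (op U)) (x : U.left), ∃ (V : X.Etale) (g : V ⟶ U),
      (∃ v : V.left, g.left.base v = x) ∧ IsOfFinAddOrder (A.obj.map g.op s))
    (I : SheafOfModules.{u + 1} A) : EtCoh.IsTorsion ((SheafOfModules.toSheaf A).obj I) := by
  intro U s x
  obtain ⟨V, g, hv, hf⟩ := hA U 1 x
  refine ⟨V, g, hv, ?_⟩
  obtain ⟨m, hm, h0⟩ := isOfFinAddOrder_iff_nsmul_eq_zero.1 hf
  rw [map_one] at h0
  refine isOfFinAddOrder_iff_nsmul_eq_zero.2 ⟨m, hm, ?_⟩
  let t : I.val.obj (op V) := I.val.map g.op s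
  have key : m • t = 0 := by
    rw [← one_smul (A.obj.obj (op V)) t, ← smul_assoc, h0, zero_smul]
  exact key

end Groth.Agent.GabberAff13
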