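import Groth.Agent.GabberAff13.DerivedComm
import Groth.Agent.GabberAff13.ExtZeroPush
import Groth.Agent.SiteBase.EtExcision.Lqf
import Groth.Agent.SiteBase.EtExcision.Compactify
import Groth.Agent.S0681
import Mathlib.AlgebraicGeometry.ZariskisMainTheorem
import Mathlib.CategoryTheory.Limits.Constructions.Filtered

/-!
# Direct image with proper support and proper direct images
-/

set_option autoImplicit false
set_option linter.style.haveILetI false
set_option backward.isDefEq.respectTransparency false
set_option backward.isDefEq.respectTransparency.types false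
set_option maxHeartbeats 1000000

universe u

open CategoryTheory CategoryTheory.Limits AlgebraicGeometry Opposite

namespace Groth.Agent.GabberAff13

open Groth.Agent.EtFound Groth.Agent.BCCrit13 Groth.Agent.TriCat Groth.Agent.EtExcision

/-- A coproduct with one nonzero term. -/
theorem isIso_ι_of_others_isZero {C : Type*} [Category* C] [HasZeroMorphisms C] {ι : Type*}
    {F : Discrete ι ⥤ C} {c : Cocone F} (hc : IsColimit c) (i : ι) (h : ∀ j, j ≠ i → IsZero (F.obj ⟨j⟩)) :
    IsIso (c.ι.app ⟨i⟩) := by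
  classical
  let d : Cocone F := Cocone.mk (F.obj ⟨i⟩)
    (Discrete.natTrans fun j => if hj : j.as = i then eqToHom (congrArg F.obj (Discrete.ext hj)) else 0)
  have hd : c.ι.app ⟨i⟩ ≫ hc.desc d = 𝟙 _ := by
    rw [hc.fac d ⟨i⟩]
    simp [d]
  refine ⟨hc.desc d, hd, hc.hom_ext fun ⟨j⟩ => ?_⟩
  by_cases hj : j = i
  · subst hj
    rw [reassoc_of% hd]
    exact (Category.comp_id _).symm
  · exact (h j hj).eq_of_src _ _

variable {X Y : Scheme.{u}}

/-- A sheaf on a disjoint union of opens is the coproduct of its extensions by zero. -/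
theorem isIso_sigmaDesc_counit {ι : Type (u + 1)} (U : ι → X.Opens) (hd : ∀ i j, i ≠ j → ∀ x, x ∈ U i → x ∉ U j)
    (hc : ∀ x, ∃ i, x ∈ U i) (M : EtCoh.Ab X) :
    IsIso (Sigma.desc fun i => (EtShriek.extZeroAdj (U i).ι).counit.app M) := by
  refine (isIso_iff_stalks _).2 fun Ω _ _ ξ => ?_
  haveI : (EtCoh.stalk ξ).IsLeftAdjoint := (Scheme.pointSmallEtale ξ).skyscraperSheafAdjunction.isLeftAdjoint
  let x := ξ.base (default : Spec (CommRingCat.of Ω))
  obtain ⟨i, hi⟩ := hc x
  let A := fun i => (EtShriek.extZero (U i).ι).obj ((EtShriek.restrAlong (U i).ι).obj M)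
  have hA : IsIso ((EtCoh.stalk ξ).map (Sigma.ι A i)) :=
    isIso_ι_of_others_isZero (isColimitOfPreserves (EtCoh.stalk ξ) (coproductIsCoproduct A)) i fun j hj =>
      isZero_stalk_extZero (U j).ι ξ (fun hx => hd i j (Ne.symm hj) x hi (by
        have h : x ∈ Set.range (U j).ι := hx
        rw [Scheme.Opens.range_ι] at h
        exact h)) _
  have hx : x ∈ Set.range (U i).ι.base := by
    show x ∈ Set.range (U i).ι
    rw [Scheme.Opens.range_ι]
    exact hi
  have hε : IsIso ((EtCoh.stalk ξ).map ((EtShriek.extZeroAdj (U i).ι).counit.app M)) :=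
    isIso_stalk_of_lift (U i).ι _ ξ hx fun k _ _ z => isIso_counit_stalk (U i).ι z M
  have e : (EtCoh.stalk ξ).map (Sigma.ι A i) ≫
      (EtCoh.stalk ξ).map (Sigma.desc fun i => (EtShriek.extZeroAdj (U i).ι).counit.app M) =
      (EtCoh.stalk ξ).map ((EtShriek.extZeroAdj (U i).ι).counit.app M) :=
    ((EtCoh.stalk ξ).map_comp _ _).symm.trans (congrArg _ (Sigma.ι_desc _ _))
  exact @IsIso.of_isIso_fac_left _ _ _ _ _ _ _ _ hA hε e

/-- Coproducts of acyclic sheaves are acyclic. -/
theorem isRightAcyclic_sigma (f : X ⟶ Y) [QuasiCompact f] [QuasiSeparated f] [EtCoh.BCCont f] {ι : Type (u + 1)}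
    (A : ι → EtCoh.Ab X) (h : ∀ i, IsRightAcyclic (EtCoh.push f) (A i)) :
    IsRightAcyclic (EtCoh.push f) (∐ A) := by
  classical
  haveI := push_preservesFiniteLimits f
  refine isRightAcyclic_of_iso (CoproductsFromFiniteFiltered.liftToFinsetColimIso.app (Discrete.functor A))
    (isRightAcyclic_colimit f _ fun J q hq => ?_)
  haveI : PreservesColimit (Discrete.functor fun x : { x // x ∈ J } => (Discrete.functor A).obj x.val)
      ((EtCoh.push f).rightDerived q) := inferInstance
  refine IsZero.of_iso ?_ (PreservesCoproduct.iso ((EtCoh.push f).rightDerived q) _)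
  exact (IsZero.iff_id_eq_zero _).2 (Sigma.hom_ext _ _ fun x => (h x.val.as q hq).eq_of_src _ _)

/-- Direct images preserve injectives. -/
theorem push_preservesInjectiveObjects (v : X ⟶ Y) [EtCoh.BCCont v] : (EtCoh.push v).PreservesInjectiveObjects := by
  haveI := pull_preservesFiniteLimits v
  haveI : (EtCoh.pull v).PreservesMonomorphisms := inferInstance
  exact ⟨fun {I} hI => (EtCoh.pullPushAdj v).map_injective I hI⟩

/-- Higher direct images of the direct image of an acyclic sheaf. -/
theorem nonempty_Rpush_push {Z : Scheme.{u}} (v : X ⟶ Y) (e : Y ⟶ Z) [EtCoh.BCCont v] [EtCoh.BCCont e]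
    [EtCoh.BCCont (v ≫ e)] (N : EtCoh.Ab X) (h : IsRightAcyclic (EtCoh.push v) N) (q : ℕ) :
    Nonempty ((EtCoh.Rpush e q).obj ((EtCoh.push v).obj N) ≅ (EtCoh.Rpush (v ≫ e) q).obj N) := by
  haveI := push_preservesInjectiveObjects v
  haveI := push_preservesFiniteLimits v
  haveI := push_preservesFiniteLimits e
  obtain ⟨c⟩ := nonempty_rightDerived_comp_of_acyclic (EtCoh.push v) (EtCoh.push e) q N h
  exact ⟨c ≪≫ (RDer.rightDerivedIso (EtCoh.pushComp e v) q).app N⟩

/-- Direct image with proper support only depends on the morphism. -/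
noncomputable def lowerShriekCongr {a b : X ⟶ Y} [IsSeparated a] [LocallyOfFiniteType a] [IsSeparated b]
    [LocallyOfFiniteType b] (h : a = b) : EtShriek.lowerShriek a ≅ EtShriek.lowerShriek b :=
  eqToIso (by subst h; rfl)

theorem lowerShriek_additive (g : X ⟶ Y) [IsSeparated g] [LocallyOfFiniteType g] [LocallyQuasiFinite g] :
    (EtShriek.lowerShriek g).Additive := by
  haveI := preservesFiniteLimits_lowerShriek g
  exact Functor.additive_of_preserves_binary_products _

/-- The direct image with proper support of a torsion envelope is torsion. -/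
theorem isTorsion_lowerShriek_torsEnv (g : X ⟶ Y) [IsSeparated g] [LocallyOfFiniteType g] [LocallyQuasiFinite g]
    (J : EtCoh.Ab X) : EtCoh.IsTorsion ((EtShriek.lowerShriek g).obj (torsEnv J)) := by
  haveI := preservesColimits_lowerShriek g
  haveI := lowerShriek_additive g
  refine (isTorsion_iff_stalks _).2 fun Ω _ _ ξ t => ?_
  haveI : (EtCoh.stalk ξ).IsLeftAdjoint := (Scheme.pointSmallEtale ξ).skyscraperSheafAdjunction.isLeftAdjoint
  obtain ⟨a, b, hb⟩ := Types.jointly_surjective _
    (isColimitOfPreserves (EtShriek.lowerShriek g ⋙ EtCoh.stalk ξ ⋙ forget AddCommGrpCat.{u + 1})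
      (colimit.isColimit (torsDiag J))) t
  let b' : (EtCoh.stalk ξ).obj ((EtShriek.lowerShriek g).obj (torsN J (idxVal a).factorial)) := b
  obtain ⟨m, hm, h⟩ := (isTorsion_iff_stalks _).1 (EtTrace.isTorsion_of_nsmul_id (Nat.factorial_pos (idxVal a))
    ((killedBy_iff_nsmul _ _).1 (killedBy_map (EtShriek.lowerShriek g) (killedBy_torsN J _)))) Ω ξ b'
  refine ⟨m, hm, ?_⟩
  rw [← hb]
  exact (map_nsmul ((EtCoh.stalk ξ).map ((EtShriek.lowerShriek g).map (colimit.ι (torsDiag J) a))).hom m b').symm.trans
    ((congrArg ((EtCoh.stalk ξ).map ((EtShriek.lowerShriek g).map (colimit.ι (torsDiag J) a))).hom h).trans (map_zero _))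

variable {X' Y' : Scheme.{u}} (f : X ⟶ Y) (g : Y' ⟶ Y) (f' : X' ⟶ Y') (g' : X' ⟶ X) (w : g' ≫ f = f' ≫ g)
  [IsProper f] [IsProper f'] [IsSeparated g] [LocallyOfFiniteType g] [LocallyQuasiFinite g]
  [IsSeparated g'] [LocallyOfFiniteType g'] [LocallyQuasiFinite g']

include g w in
omit [IsSeparated g] [LocallyOfFiniteType g] in
/-- The direct image with proper support of a torsion envelope is acyclic. -/
theorem isRightAcyclic_lowerShriek_torsEnv (J : EtCoh.Ab X') [Injective J] :
    IsRightAcyclic (EtCoh.push f) ((EtShriek.lowerShriek g').obj (torsEnv J)) := by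
  intro q hq
  refine (isZero_iff_stalks _).2 fun Ω _ _ η => ?_
  let G := torsEnv J
  let S := Spec (CommRingCat.of Ω)
  let H := (EtShriek.lowerShriek g').obj G
  obtain ⟨es⟩ := nonempty_stalk_Rpush_geometric f η H (isTorsion_lowerShriek_torsEnv g' J) q
  let a := pullback.fst g η
  let b : pullback g η ⟶ S := pullback.snd g η
  let p := pullback.fst f' a
  let τ := pullback.snd f' a
  let e : pullback f η ⟶ S := pullback.snd f η
  haveI : IsProper e := MorphismProperty.pullback_snd _ _ ‹IsProper f›
  haveI : IsProper τ := MorphismProperty.pullback_snd _ _ ‹IsProper f'›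
  haveI : LocallyQuasiFinite b := MorphismProperty.pullback_snd _ _ ‹LocallyQuasiFinite g›
  have hw : (p ≫ g') ≫ f = (τ ≫ b) ≫ η := by
    rw [Category.assoc, w, ← Category.assoc, pullback.condition (f := f') (g := a), Category.assoc,
      pullback.condition (f := g) (g := η), Category.assoc]
  let u : pullback f' a ⟶ pullback f η := pullback.lift (p ≫ g') (τ ≫ b) hw
  have hu : u ≫ e = τ ≫ b := pullback.lift_snd _ _ _
  have hc : IsPullback p u g' (pullback.fst f η) := by
    refine IsPullback.of_bot ?_ (pullback.lift_fst _ _ hw).symm (IsPullback.of_hasPullback f η)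
    rw [w, hu]
    exact (IsPullback.of_hasPullback f' a).paste_vert (IsPullback.of_hasPullback g η)
  haveI : IsSeparated u := MorphismProperty.of_isPullback hc ‹IsSeparated g'›
  haveI : LocallyOfFiniteType u := MorphismProperty.of_isPullback hc ‹LocallyOfFiniteType g'›
  haveI : LocallyQuasiFinite u := MorphismProperty.of_isPullback hc ‹LocallyQuasiFinite g'›
  haveI : EtCoh.BCCont p := EtCoh.bcCont p
  haveI : EtCoh.BCCont (pullback.fst f η) := EtCoh.bcCont _
  haveI : EtCoh.BCCont e := EtCoh.bcCont e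
  obtain ⟨ebc⟩ := S0681.result g' (pullback.fst f η) u p hc G
  let M := (EtCoh.pull p).obj G
  -- the discrete fibre
  haveI : DiscreteTopology ↥(pullback g η) := by
    rw [← isDiscrete_univ_iff]
    have h : b ⁻¹' {default} = Set.univ := Set.eq_univ_of_forall fun _ => Subsingleton.elim _ _
    rw [← h]
    exact b.isDiscrete_preimage_singleton _
  let U : ULift.{u + 1} ↥(pullback g η) → (pullback g η).Opens := fun t => ⟨{t.down}, isOpen_discrete _⟩
  let W : ULift.{u + 1} ↥(pullback g η) → (pullback f' a).Opens := fun t => τ ⁻¹ᵁ U t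
  have hiso := isIso_sigmaDesc_counit W (fun i j hij x hi hj => hij (ULift.ext _ _ (hi.symm.trans hj)))
    (fun x => ⟨⟨τ x⟩, rfl⟩) M
  let A := fun t => (EtShriek.extZero (W t).ι).obj ((EtShriek.restrAlong (W t).ι).obj M)
  let eM : (∐ A) ≅ M := @asIso _ _ _ _ _ hiso
  haveI := preservesColimitsOfShape_lowerShriek u (Discrete (ULift.{u + 1} ↥(pullback g η)))
  have hA : IsRightAcyclic (EtCoh.push e) ((EtShriek.lowerShriek u).obj M) := by
    refine isRightAcyclic_of_iso ((PreservesCoproduct.iso (EtShriek.lowerShriek u) A).symm ≪≫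
      (EtShriek.lowerShriek u).mapIso eM) (isRightAcyclic_sigma e _ fun t => ?_)
    let j := (W t).ι
    let N := (EtShriek.restrAlong j).obj M
    let v := j ≫ u
    let τt := τ ∣_ U t
    let ψ := (U t).ι ≫ b
    have hve : v ≫ e = τt ≫ ψ := by
      rw [Category.assoc, hu, ← Category.assoc, ← morphismRestrict_ι, Category.assoc]
    haveI : IsProper τt := MorphismProperty.of_isPullback (isPullback_morphismRestrict τ (U t)).flip ‹IsProper τ›
    haveI : Subsingleton ↥(U t : Scheme.{u}) := ⟨fun x y => Subtype.ext (x.2.trans y.2.symm)⟩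
    haveI : CompactSpace ↥(U t : Scheme.{u}) := ⟨Set.subsingleton_univ.finite.isCompact⟩
    haveI : QuasiCompact ψ := HasAffineProperty.iff_of_isAffine.2 ‹CompactSpace ↥(U t : Scheme.{u})›
    haveI : IsLocallyArtinian S := inferInstance
    haveI : IsFinite ψ := IsFinite.of_locallyQuasiFinite ψ
    haveI : IsProper (v ≫ e) := by rw [hve]; infer_instance
    haveI : IsProper v := IsProper.of_comp v e
    haveI : IsFinite v := IsFinite.of_isProper_of_locallyQuasiFinite v
    haveI : EtCoh.BCCont v := EtCoh.bcCont v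
    haveI : EtCoh.BCCont (v ≫ e) := EtCoh.bcCont _
    haveI : EtCoh.BCCont τt := EtCoh.bcCont _
    haveI : EtCoh.BCCont ψ := EtCoh.bcCont _
    haveI : EtCoh.BCCont (τt ≫ ψ) := EtCoh.bcCont _
    haveI : EtCoh.BCCont j := EtCoh.bcCont j
    haveI : EtCoh.BCCont (j ≫ p) := EtCoh.bcCont _
    let eA : (EtShriek.lowerShriek u).obj (A t) ≅ (EtCoh.push v).obj N :=
      (EtShriek.lowerShriek u).mapIso ((extZeroShrIso j).app N) ≪≫ (lowerShriekCompIso j u).symm.app N ≪≫
        (lowerShriekPushIso v).app N
    refine isRightAcyclic_of_iso eA.symm fun k hk => ?_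
    obtain ⟨e1⟩ := nonempty_Rpush_push v e N (fun i hi => S0071.result v N i hi) k
    have sq : IsPullback (j ≫ p) τt f' ((U t).ι ≫ a) :=
      (isPullback_morphismRestrict τ (U t)).flip.paste_horiz (IsPullback.of_hasPullback f' a)
    have hN : IsRightAcyclic (EtCoh.push τt) N := isRightAcyclic_of_iso
      ((EtCore.pullComp j p).app G ≪≫ ((EtMVLib.restrIsoPull j).app M).symm)
      (isRightAcyclic_pull_torsEnv (goodSquare_of_cohCommutes (cohCommutes_of_isProper f') sq) J)
    obtain ⟨e2⟩ := nonempty_Rpush_push τt ψ N hN k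
    exact IsZero.of_iso (S0071.result ψ _ k hk)
      (e1 ≪≫ (RDer.rightDerivedIso (EtCoh.pushCongr hve) k).app N ≪≫ e2.symm)
  obtain ⟨ep⟩ := nonempty_stalk_Rpush_point e ((EtCoh.pull (pullback.fst f η)).obj H) q
  refine IsZero.of_iso ?_ (es ≪≫ ep.symm)
  exact (EtCoh.stalk _).map_isZero (IsZero.of_iso (hA q hq) ((EtCoh.Rpush e q).mapIso ebc.symm))

/-- Direct image with proper support commutes with proper direct image, in degree zero. -/
noncomputable def shriekPushIso : EtCoh.push f' ⋙ EtShriek.lowerShriek g ≅ EtShriek.lowerShriek g' ⋙ EtCoh.push f :=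
  Functor.isoWhiskerRight (lowerShriekPushIso f').symm _ ≪≫ (lowerShriekCompIso f' g).symm ≪≫
    lowerShriekCongr w.symm ≪≫ lowerShriekCompIso g' f ≪≫ Functor.isoWhiskerLeft _ (lowerShriekPushIso f)

include w in
/-- Direct image with proper support commutes with higher proper direct images on torsion sheaves. -/
theorem nonempty_lowerShriek_Rpush (F : EtCoh.Ab X') (hF : EtCoh.IsTorsion F) (q : ℕ) :
    Nonempty ((EtShriek.lowerShriek g).obj ((EtCoh.Rpush f' q).obj F) ≅
      (EtCoh.Rpush f q).obj ((EtShriek.lowerShriek g').obj F)) := by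
  haveI := lowerShriek_additive g
  haveI := lowerShriek_additive g'
  haveI := preservesFiniteColimits_lowerShriek g
  haveI := preservesFiniteLimits_lowerShriek g'
  haveI := preservesFiniteColimits_lowerShriek g'
  haveI := push_preservesFiniteLimits f
  haveI := push_preservesFiniteLimits f'
  let φ := shriekPushIso f g f' g' w
  refine nonempty_iso_derived (EtCoh.push f') (EtShriek.lowerShriek g) (EtShriek.lowerShriek g') (EtCoh.push f)
    (fun F => EtCoh.IsTorsion F) (fun F => φ.app F) (fun a => φ.hom.naturality a) (fun F hF => ?_) q F hF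
  obtain ⟨i, hi⟩ := exists_mono_torsEnv hF
  exact ⟨_, i, hi, isTorsion_of_epi (cokernel.π i) (isTorsion_torsEnv _),
    isRightAcyclic_colimit f' _ fun k => isRightAcyclic_torsN f' _ (Nat.factorial_pos _),
    isRightAcyclic_lowerShriek_torsEnv f g f' g' w _⟩

end Groth.Agent.GabberAff13
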