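import Groth.Agent.Chow17.Core
import Groth.Agent.Chow17.Strata
import Groth.Agent.BCCrit13.Compose
import Groth.Agent.S0161
import Groth.Prelude.Def_CohB1

/-!
# Compactifications by towers of projective lines and Chow's lemma for them
-/

set_option autoImplicit false
set_option linter.style.haveILetI false
set_option backward.isDefEq.respectTransparency false
set_option backward.isDefEq.respectTransparency.types false
set_option maxHeartbeats 1000000

universe u

open CategoryTheory CategoryTheory.Limits AlgebraicGeometry Opposite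

namespace Groth.Agent.GabberAff13

open CohB1

variable {X Y Z S : Scheme.{u}}

/-- All base changes have cohomology commuting with base change. -/
def UComm (f : X ⟶ Y) : Prop :=
  IsProper f ∧ ∀ (T U : Scheme.{u}) (a : T ⟶ Y) (p : U ⟶ X) (v : U ⟶ T),
    IsPullback p v f a → EtPBC.CohCommutesWithBC v

theorem UComm.comm {f : X ⟶ Y} (h : UComm f) : EtPBC.CohCommutesWithBC f :=
  h.2 _ _ (𝟙 Y) (𝟙 X) f (IsPullback.of_horiz_isIso ⟨by simp⟩)

theorem UComm.of_isPullback {f : X ⟶ Y} (h : UComm f) {T U : Scheme.{u}} {a : T ⟶ Y} {p : U ⟶ X} {v : U ⟶ T}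
    (sq : IsPullback p v f a) : UComm v :=
  ⟨MorphismProperty.of_isPullback sq h.1, fun T' U' b p' v' sq' =>
    h.2 T' U' (b ≫ a) (p' ≫ p) v' (sq'.flip.paste_vert sq.flip).flip⟩

theorem ucomm_of_isFinite (f : X ⟶ Y) [IsFinite f] : UComm f :=
  ⟨inferInstance, fun _ _ _ _ v sq => by
    haveI : IsFinite v := MorphismProperty.of_isPullback sq ‹IsFinite f›
    exact S0161.result v⟩

theorem UComm.comp {f : X ⟶ Y} {g : Y ⟶ Z} (hf : UComm f) (hg : UComm g) : UComm (f ≫ g) := by
  haveI := hf.1
  haveI := hg.1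
  refine ⟨inferInstance, fun T U a p v sq => ?_⟩
  let k : pullback g a ⟶ Y := pullback.fst g a
  let h : pullback g a ⟶ T := pullback.snd g a
  let f' : U ⟶ pullback g a := pullback.lift (p ≫ f) v ((Category.assoc _ _ _).trans sq.w)
  have hv : f' ≫ h = v := pullback.lift_snd _ _ _
  have hk : p ≫ f = f' ≫ k := (pullback.lift_fst _ _ _).symm
  have hsq : IsPullback k h g a := IsPullback.of_hasPullback g a
  have htop : IsPullback p f' f k := IsPullback.of_bot (hv.symm ▸ sq) hk hsq
  haveI : IsProper f' := MorphismProperty.of_isPullback htop hf.1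
  haveI : IsProper h := MorphismProperty.of_isPullback hsq hg.1
  exact hv ▸ BCCrit13.cohCommutes_comp f' h (hf.2 _ _ k p f' htop) (hg.2 _ _ a k h hsq)

/-- A finite fibre product. -/
theorem exists_product : ∀ (m : ℕ) (P : Fin m → Scheme.{u}) (q : ∀ i, P i ⟶ S), (∀ i, UComm (q i)) →
    ∃ (Q : Scheme.{u}) (r : Q ⟶ S) (pr : ∀ i, Q ⟶ P i), UComm r ∧ (∀ i, pr i ≫ q i = r) ∧
      ∀ (W : Scheme.{u}) (s : W ⟶ S) (a : ∀ i, W ⟶ P i), (∀ i, a i ≫ q i = s) →
        ∃ w : W ⟶ Q, w ≫ r = s ∧ ∀ i, w ≫ pr i = a i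
  | 0, _, _, _ => ⟨S, 𝟙 S, fun i => i.elim0, ucomm_of_isFinite _, fun i => i.elim0,
      fun W s a _ => ⟨s, Category.comp_id s, fun i => i.elim0⟩⟩
  | m + 1, P, q, hq => by
    obtain ⟨Q, r, pr, hr, hpr, huniv⟩ := exists_product m (fun i => P i.succ) (fun i => q i.succ) (fun i => hq _)
    refine ⟨pullback (q 0) r, pullback.fst _ _ ≫ q 0,
      Fin.cases (pullback.fst _ _) (fun i => pullback.snd _ _ ≫ pr i),
      (hr.of_isPullback (IsPullback.of_hasPullback (q 0) r).flip).comp (hq 0),
      Fin.cases rfl (fun i => by simp [hpr, pullback.condition]), fun W s a ha => ?_⟩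
    obtain ⟨w, hw, hw'⟩ := huniv W s (fun i => a i.succ) (fun i => ha _)
    exact ⟨pullback.lift (a 0) w ((ha 0).trans hw.symm), by simp [ha],
      Fin.cases (by simp) (fun i => by simp [hw'])⟩

/-- The structure morphism of the projective line over the integers. -/
noncomputable abbrev lineMap : ProjSpace.{u} 1 (ULift.{u} ℤ) ⟶ Spec (CommRingCat.of (ULift.{u} ℤ)) :=
  ProjSpace.toSpec 1 (ULift.{u} ℤ)

/-- Compactification of finitely generated algebras. -/
theorem exists_compactification_spec (hline : UComm lineMap.{u}) (A : Type u) [CommRing A] : ∀ (n : ℕ) (B : Type u) [CommRing B] [Algebra A B] (b : Fin n → B),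
      Algebra.adjoin A (Set.range b) = ⊤ →
      ∃ (T : Scheme.{u}) (r : T ⟶ Spec (CommRingCat.of A)) (j : Spec (CommRingCat.of B) ⟶ T),
        UComm r ∧ IsImmersion j ∧ j ≫ r = Spec.map (CommRingCat.ofHom (algebraMap A B))
  | 0, B, _, _, b, hb => by
    have hs : Function.Surjective (algebraMap A B) := fun x => by
      have hx : x ∈ Algebra.adjoin A (Set.range b) := hb.symm ▸ trivial
      rw [Set.range_eq_empty b, Algebra.adjoin_empty, Algebra.mem_bot] at hx
      exact hx
    haveI := IsClosedImmersion.spec_of_surjective (CommRingCat.ofHom (algebraMap A B)) hs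
    exact ⟨_, 𝟙 _, Spec.map (CommRingCat.ofHom (algebraMap A B)), ucomm_of_isFinite _, inferInstance, Category.comp_id _⟩
  | n + 1, B, _, _, b, hb => by
    let C := Algebra.adjoin A (Set.range (b ∘ Fin.castSucc))
    let c : Fin n → C := fun i => ⟨b i.castSucc, Algebra.subset_adjoin ⟨i, rfl⟩⟩
    have hc : Algebra.adjoin A (Set.range c) = ⊤ := by
      apply Subalgebra.map_injective (f := C.val) Subtype.val_injective
      rw [AlgHom.map_adjoin, ← Set.range_comp, Algebra.map_top, Subalgebra.range_val]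
      rfl
    obtain ⟨T, r, j, hr, hj, hjr⟩ := exists_compactification_spec hline A n C c hc
    -- the chart
    let Z := ULift.{u} ℤ
    let G := polyGrading 1 Z
    let X₀ : MvPolynomial (Fin (1 + 1)) Z := MvPolynomial.X 0
    let X₁ : MvPolynomial (Fin (1 + 1)) Z := MvPolynomial.X 1
    have h0 : X₀ ∈ G 1 := MvPolynomial.isHomogeneous_X _ _
    have h1 : X₁ ∈ G 1 := MvPolynomial.isHomogeneous_X _ _
    let ev : MvPolynomial (Fin (1 + 1)) Z →+* B :=
      MvPolynomial.eval₂Hom ((Int.castRingHom B).comp ULift.ringEquiv.toRingHom) ![1, b (Fin.last n)]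
    have hev : IsUnit (ev X₀) := by simp [ev, X₀]
    let φ : HomogeneousLocalization.Away G X₀ →+* B :=
      (IsLocalization.Away.lift X₀ hev : Localization.Away X₀ →+* B).comp
        (algebraMap (HomogeneousLocalization.Away G X₀) (Localization.Away X₀))
    let t : HomogeneousLocalization.Away G X₀ :=
      HomogeneousLocalization.Away.mk G h0 1 X₁ (by simpa using h1)
    have ht : φ t = b (Fin.last n) := by
      have h2 : (HomogeneousLocalization.val t) * algebraMap _ (Localization.Away X₀) X₀ =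
          algebraMap _ (Localization.Away X₀) X₁ := by
        rw [HomogeneousLocalization.Away.val_mk, Localization.mk_eq_mk']
        refine Eq.trans ?_ (IsLocalization.mk'_spec (Localization.Away X₀) X₁ (⟨X₀ ^ 1, 1, rfl⟩ : Submonoid.powers X₀))
        simp [pow_one]
      have h3 := congrArg (IsLocalization.Away.lift X₀ hev : Localization.Away X₀ →+* B) h2
      rw [map_mul, IsLocalization.Away.lift_eq, IsLocalization.Away.lift_eq] at h3
      simpa [ev, X₀, X₁, φ, HomogeneousLocalization.algebraMap_apply] using h3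
    let O := Spec (CommRingCat.of (HomogeneousLocalization.Away G X₀))
    let w : Spec (CommRingCat.of B) ⟶ O := Spec.map (CommRingCat.ofHom φ)
    let wC : Spec (CommRingCat.of B) ⟶ Spec (CommRingCat.of C) := Spec.map (CommRingCat.ofHom C.val.toRingHom)
    let o : O ⟶ ProjSpace 1 Z := Proj.awayι G X₀ h0 one_pos
    let sO := specULiftZIsTerminal.from O
    let sC := specULiftZIsTerminal.from (Spec (CommRingCat.of C))
    let sT := specULiftZIsTerminal.from T
    let k : Spec (CommRingCat.of B) ⟶ pullback sO sC := pullback.lift w wC (specULiftZIsTerminal.hom_ext _ _)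
    haveI : IsClosedImmersion k := by
      refine IsClosedImmersion.of_surjective_of_isAffine _ ?_
      intro y
      let R : Subring Γ(Spec (CommRingCat.of B), ⊤) := k.appTop.hom.range
      have e1 : k ≫ pullback.fst sO sC = w := pullback.lift_fst _ _ _
      have e2 : k ≫ pullback.snd sO sC = wC := pullback.lift_snd _ _ _
      let γ := (Scheme.ΓSpecIso (CommRingCat.of B)).inv.hom
      have r1 : ∀ z, γ (φ z) ∈ R := fun z => by
        refine ⟨(pullback.fst sO sC).appTop ((Scheme.ΓSpecIso _).inv z), ?_⟩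
        show (k ≫ pullback.fst sO sC).appTop _ = _
        rw [e1]
        exact (ConcreteCategory.congr_hom (Scheme.ΓSpecIso_inv_naturality (CommRingCat.ofHom φ)) z).symm
      have r2 : ∀ z : C, γ z.1 ∈ R := fun z => by
        refine ⟨(pullback.snd sO sC).appTop ((Scheme.ΓSpecIso _).inv z), ?_⟩
        show (k ≫ pullback.snd sO sC).appTop _ = _
        rw [e2]
        exact (ConcreteCategory.congr_hom (Scheme.ΓSpecIso_inv_naturality (CommRingCat.ofHom C.val.toRingHom)) z).symm
      let R' : Subalgebra A B :=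
        { toSubsemiring := (R.comap γ).toSubsemiring
          algebraMap_mem' := fun a => r2 (algebraMap A C a) }
      have htop : R' = ⊤ := by
        rw [eq_top_iff, ← hb]
        refine Algebra.adjoin_le ?_
        rintro _ ⟨i, rfl⟩
        induction i using Fin.lastCases with
        | last => rw [← ht]; exact r1 t
        | cast i => exact r2 (c i)
      have hy : (Scheme.ΓSpecIso (CommRingCat.of B)).hom y ∈ R' := htop ▸ trivial
      obtain ⟨x, hx⟩ := hy
      exact ⟨x, hx.trans (by simp [γ])⟩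
    let m : pullback sO sC ⟶ pullback lineMap.{u} sT :=
      pullback.map _ _ _ _ o j (𝟙 _) (specULiftZIsTerminal.hom_ext _ _) (specULiftZIsTerminal.hom_ext _ _)
    haveI : IsImmersion m :=
      MorphismProperty.pullbackMap (P := @IsImmersion) (inferInstanceAs (IsImmersion o)) hj
        (specULiftZIsTerminal.hom_ext _ _) (specULiftZIsTerminal.hom_ext _ _)
    refine ⟨pullback lineMap.{u} sT, pullback.snd _ _ ≫ r, k ≫ m,
      (hline.of_isPullback (IsPullback.of_hasPullback lineMap.{u} sT)).comp hr, inferInstance, ?_⟩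
    simp only [k, m, Category.assoc, pullback.lift_snd_assoc]
    rw [hjr]
    simp only [wC, ← Spec.map_comp, ← CommRingCat.ofHom_comp]
    rfl

/-- Compactification of affine schemes of finite type over affine schemes. -/
theorem exists_compactification (hline : UComm lineMap.{u}) {U S : Scheme.{u}} [IsAffine U] [IsAffine S] (g : U ⟶ S) [LocallyOfFiniteType g] :
    ∃ (T : Scheme.{u}) (r : T ⟶ S) (j : U ⟶ T), UComm r ∧ IsImmersion j ∧ j ≫ r = g := by
  letI : Algebra Γ(S, ⊤) Γ(U, ⊤) := g.appTop.hom.toAlgebra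
  haveI : Algebra.FiniteType Γ(S, ⊤) Γ(U, ⊤) :=
    (HasRingHomProperty.iff_of_isAffine (P := @LocallyOfFiniteType)).1 ‹LocallyOfFiniteType g›
  obtain ⟨s, hs⟩ := (Algebra.FiniteType.out : (⊤ : Subalgebra Γ(S, ⊤) Γ(U, ⊤)).FG)
  obtain ⟨n, ⟨e⟩⟩ := Finite.exists_equiv_fin s
  have hb : Algebra.adjoin Γ(S, ⊤) (Set.range fun i => (e.symm i).1) = ⊤ := by
    rw [← hs]
    congr 1
    ext x
    exact ⟨fun ⟨i, hi⟩ => hi ▸ (e.symm i).2, fun hx => ⟨e ⟨x, hx⟩, by simp⟩⟩
  obtain ⟨T, r, j, hr, hj, hjr⟩ := exists_compactification_spec hline Γ(S, ⊤) n Γ(U, ⊤) _ hb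
  refine ⟨T, r ≫ S.isoSpec.inv, U.isoSpec.hom ≫ j, hr.comp (ucomm_of_isFinite _), inferInstance, ?_⟩
  rw [Category.assoc, reassoc_of% hjr, ← Category.assoc, Iso.comp_inv_eq]
  exact (Scheme.isoSpec_hom_naturality g).trans rfl

end Groth.Agent.GabberAff13
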