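import Groth.Agent.GabberAff13.Aic
import Groth.Agent.GabberAff13.H1
import Groth.Agent.GabberAff13.Kill

/-!
# Constant finite sheaves are acyclic on closed subschemes of absolutely integrally closed affine schemes
-/

set_option autoImplicit false
set_option linter.style.haveILetI false
set_option backward.isDefEq.respectTransparency false
set_option backward.isDefEq.respectTransparency.types false

universe u

open CategoryTheory CategoryTheory.Limits AlgebraicGeometry Opposite TopologicalSpace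

namespace Groth.Agent.GabberAff13

/-- Sheaves on the empty scheme have no cohomology. -/
theorem subsingleton_H_of_isEmpty {X : Scheme.{u}} [IsEmpty X] (F : EtCoh.Ab X) (n : ℕ) :
    Subsingleton (EtCoh.H X F n) := by
  haveI : Mono (0 : F ⟶ F) := (EtFound.mono_iff_stalks _).2 fun Ω _ _ ξ =>
    (IsEmpty.false (ξ (default : Spec (CommRingCat.of Ω)))).elim
  have hid : (𝟙 F : F ⟶ F) = 0 := (cancel_mono (0 : F ⟶ F)).1 (by simp)
  refine subsingleton_of_forall_eq 0 fun c => ?_
  rw [← CohCrit13.hmap_id n c, hid]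
  exact EtLimit.hmap_zero_map n c

theorem subsingleton_H_pull_const {X T : Scheme.{u}} (w : T ⟶ X) (M : Type) [AddCommGroup M] (n : ℕ)
    (h : Subsingleton (EtCoh.H T (EtCoh.const T M) n)) :
    Subsingleton (EtCoh.H T ((EtCoh.pull w).obj (EtCoh.const X M)) n) :=
  (CohCrit13.hmap_bijective_of_isIso (EtCore.pullConst w M).hom n).1.subsingleton

variable {S Z : Scheme.{u}} (i : Z ⟶ S)

/-- The trace of a basic open. -/
abbrev trace (f : Γ(S, ⊤)) : Z.Opens := i ⁻¹ᵁ S.basicOpen f

theorem killed_of_le {O O' : Z.Opens} (h : O' ≤ O) {F : EtCoh.Ab Z} {n : ℕ} {c : EtCoh.H Z F n}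
    (hc : Killed O.ι c) : Killed O'.ι c :=
  killed_of_factor O.ι (Z.homOfLE h) O'.ι (Z.homOfLE_ι h) hc

theorem killed_bot {O : Z.Opens} (h : O = ⊥) {F : EtCoh.Ab Z} {n : ℕ} (c : EtCoh.H Z F n) : Killed O.ι c := by
  subst h
  haveI : IsEmpty ((⊥ : Z.Opens) : Scheme.{u}) := ⟨fun x => x.2⟩
  intro _
  exact @Subsingleton.elim _ (subsingleton_H_of_isEmpty _ n) _ _

theorem trace_mul_le (f g : Γ(S, ⊤)) : trace i (f * g) ≤ trace i f ∧ trace i (f * g) ≤ trace i g := by
  simp only [trace, Scheme.basicOpen_mul, Scheme.Hom.preimage_inf]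
  exact ⟨inf_le_left, inf_le_right⟩

/-- Positive degree cohomology of a constant finite sheaf vanishes. -/
theorem subsingleton_H_const : ∀ (q : ℕ) {S Z : Scheme.{u}} (_ : IsAic S) (i : Z ⟶ S) [IsClosedImmersion i]
    (M : Type) [AddCommGroup M] [Finite M], Subsingleton (EtCoh.H Z (EtCoh.const Z M) (q + 1)) := by
  intro q
  induction q with
  | zero =>
    intro S Z hS i _ M _ _
    exact subsingleton_of_forall_eq 0 fun c => H1_eq_zero (fun E p _ _ hp => exists_section hS i p hp) c
  | succ q ih =>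
    intro S Z hS i _ M _ _
    haveI : IsAffine S := hS.1
    refine subsingleton_of_forall_eq 0 fun c => ?_
    have hadd : ∀ f g : Γ(S, ⊤), Killed (trace i f).ι c → Killed (trace i g).ι c → Killed (trace i (f + g)).ι c := by
      intro f g hf hg
      let W := trace i (f + g)
      haveI : PreservesFiniteLimits (EtCoh.pull W.ι) := EtFound.pull_preservesFiniteLimits _
      let U : (W : Scheme.{u}).Opens := W.ι ⁻¹ᵁ trace i f
      let V : (W : Scheme.{u}).Opens := W.ι ⁻¹ᵁ trace i g
      have hUV : U ⊔ V = ⊤ := by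
        refine eq_top_iff.2 fun w _ => ?_
        have hw : i w.1 ∈ S.basicOpen (f + g) := w.2
        have hu : IsUnit (S.presheaf.Γgerm (i w.1) (f + g)) := (Scheme.mem_basicOpen_top _ _ _).1 hw
        rw [map_add] at hu
        rcases IsLocalRing.isUnit_or_isUnit_of_isUnit_add hu with h | h
        · exact Or.inl ((Scheme.mem_basicOpen_top _ _ _).2 h)
        · exact Or.inr ((Scheme.mem_basicOpen_top _ _ _).2 h)
      have hres : ∀ (e : Γ(S, ⊤)) (A : (W : Scheme.{u}).Opens), A = W.ι ⁻¹ᵁ trace i e → Killed (trace i e).ι c →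
          Killed A.ι (EtCore.Hpull W.ι _ _ c) := by
        rintro e A rfl he
        let w := (W.ι ⁻¹ᵁ trace i e).ι ≫ W.ι
        have hw : Killed w c := killed_of_factor (trace i e).ι (W.ι ∣_ trace i e) w (morphismRestrict_ι _ _) he
        intro _
        exact (killed_iff_restr W.ι (W.ι ⁻¹ᵁ trace i e).ι w rfl c).1 hw
      suffices EtCore.Hpull W.ι _ _ c = 0 from fun {_} => this
      refine eq_zero_of_two U V hUV ?_ _ (hres f U rfl hf) (hres g V rfl hg)
      let T : Scheme.{u} := ↑(U ⊓ V)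
      let e := f * g * (f + g)
      let w : T ⟶ Z := (U ⊓ V).ι ≫ W.ι
      have hr : Set.range w = Set.range (trace i e).ι := by
        rw [Scheme.Opens.range_ι]
        ext z
        simp only [e, trace, Scheme.basicOpen_mul, Scheme.Hom.preimage_inf, Opens.coe_inf, Set.mem_inter_iff]
        constructor
        · rintro ⟨t, rfl⟩
          exact ⟨⟨t.2.1, t.2.2⟩, t.1.2⟩
        · rintro ⟨⟨h1, h2⟩, h3⟩
          exact ⟨⟨⟨z, h3⟩, h1, h2⟩, rfl⟩
      let k : T ⟶ (S.basicOpen e : Scheme.{u}) :=
        (IsOpenImmersion.isoOfRangeEq w (trace i e).ι hr).hom ≫ i ∣_ S.basicOpen e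
      haveI : IsClosedImmersion (i ∣_ S.basicOpen e) := IsZariskiLocalAtTarget.restrict ‹IsClosedImmersion i› _
      haveI : IsClosedImmersion k := inferInstance
      have h0 : Subsingleton (EtCoh.H T (EtCoh.const T M) (q + 1)) := ih (hS.basicOpen e) k M
      have h1 := subsingleton_H_pull_const (U ⊓ V).ι M (q + 1) h0
      exact (CohCrit13.hmap_bijective_of_isIso ((EtCoh.pull (U ⊓ V).ι).map (EtCore.pullConst W.ι M).hom) (q + 1)).1.subsingleton
    let J : Ideal Γ(S, ⊤) :=
      { carrier := {f | Killed (trace i f).ι c}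
        add_mem' := fun {f g} hf hg => hadd f g hf hg
        zero_mem' := killed_bot (by simp [trace]) c
        smul_mem' := fun r f hf => killed_of_le (trace_mul_le i r f).2 hf }
    have hloc : ∀ s : S, ∃ f : J, s ∈ S.basicOpen f.1 := fun s => by
      by_cases hs : s ∈ Set.range i
      · obtain ⟨z, rfl⟩ := hs
        obtain ⟨U, h, _, w, hw, hk⟩ := exists_etale_kill (q + 1) _ c z
        obtain ⟨O, σ, hO, hσ⟩ := exists_local_section hS i h w
        have hkO : Killed O.ι c := killed_of_factor h σ O.ι hσ hk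
        obtain ⟨O', hO', hO'e⟩ := i.isClosedEmbedding.isInducing.isOpen_iff.1 O.2
        have hz : i z ∈ (⟨O', hO'⟩ : S.Opens) := by
          show z ∈ i ⁻¹' O'
          rw [hO'e, ← hw]
          exact hO
        obtain ⟨f, hf, hzf⟩ := (isAffineOpen_top S).exists_basicOpen_le ⟨i z, hz⟩ trivial
        exact ⟨⟨f, killed_of_le (fun x hx => (Set.ext_iff.1 hO'e x).1 (hf hx)) hkO⟩, hzf⟩
      · obtain ⟨f, hf, hsf⟩ := (isAffineOpen_top S).exists_basicOpen_le
          (⟨s, hs⟩ : (⟨(Set.range i)ᶜ, i.isClosedEmbedding.isClosed_range.isOpen_compl⟩ : S.Opens)) trivial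
        refine ⟨⟨f, killed_bot (Opens.ext (Set.eq_empty_of_forall_notMem fun x hx => ?_)) c⟩, hsf⟩
        exact hf hx ⟨x, rfl⟩
    have htop : Ideal.span (J : Set Γ(S, ⊤)) = ⊤ := by
      refine (isAffineOpen_top S).iSup_basicOpen_eq_self_iff.1 (eq_top_iff.2 fun s _ => ?_)
      obtain ⟨f, hf⟩ := hloc s
      exact Opens.mem_iSup.2 ⟨⟨f.1, f.2⟩, hf⟩
    rw [Ideal.span_eq] at htop
    have hmem : (1 : Γ(S, ⊤)) ∈ J := by rw [htop]; exact Submodule.mem_top
    have h1 : Killed (trace i 1).ι c := hmem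
    have heq : trace i 1 = ⊤ := by simp [trace]
    haveI : IsIso (trace i 1).ι := by rw [heq]; exact Z.topIso.isIso_hom
    haveI : PreservesFiniteLimits (EtCoh.pull (trace i 1).ι) := EtFound.pull_preservesFiniteLimits _
    exact (EtFound.Hpull_bijective_of_isIso (trace i 1).ι _ _).1 (h1.trans (map_zero _).symm)

end Groth.Agent.GabberAff13
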